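import Mathlib

/-!
# Finite rotation groups with anisotropic axes: one axis of order six or more

`no_axes`: a finite group of isometries, each nontrivial element fixing exactly an anisotropic line, has no
line with six elements fixing it, one reversing it and two further images.
-/

set_option autoImplicit false
set_option linter.unusedSectionVars false

namespace CfsgLib.OrthMono

open Finset

section Numeric

/-- The numbers attached to an orbit of lines. -/
theorem orbit_weight {G o N₀ N C S : ℕ} (hG : G = 2 * (o * N₀)) (hNS : N * S = G) (hC : 2 ≤ C)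
    (hS : S = C ∨ S = 2 * C) :
    2 * (N * (C - 1)) = o * N₀ ∨ 2 * (o * N₀) ≤ 3 * (N * (C - 1)) := by
  obtain ⟨c, rfl⟩ : ∃ c, C = c + 2 := ⟨C - 2, by omega⟩
  rw [show c + 2 - 1 = c + 1 by omega]
  rcases hS with rfl | rfl
  · right
    nlinarith
  · rcases Nat.eq_zero_or_pos c with rfl | hc
    · left; linarith
    · right; nlinarith

/-- A single further orbit is impossible. -/
theorem single_orbit {G o N₀ N C S : ℕ} (hG : G = 2 * (o * N₀)) (ho : 4 ≤ o) (hN₀ : 4 ≤ N₀) (hNS : N * S = G)
    (hC : 2 ≤ C) (hS : S = C ∨ S = 2 * C) (hX : N * (C - 1) + 1 = o * N₀ + N₀) : False := by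
  obtain ⟨c, rfl⟩ : ∃ c, C = c + 2 := ⟨C - 2, by omega⟩
  rw [show c + 2 - 1 = c + 1 by omega] at hX
  rcases hS with rfl | rfl
  · rcases Nat.eq_zero_or_pos c with rfl | hc <;> nlinarith
  · nlinarith

/-- Two further orbits, one of them of weight half the order, are impossible for an even order. -/
theorem two_orbits {G o N₀ N C S : ℕ} (hG : G = 2 * (o * N₀)) (ho : 4 ≤ o) (he : Even o) (hN₀ : 4 ≤ N₀)
    (hNS : N * S = G) (hC : 2 ≤ C) (hS : S = C ∨ S = 2 * C)
    (hX : 2 * (N * (C - 1)) + 2 = o * N₀ + 2 * N₀) : False := by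
  obtain ⟨c, rfl⟩ : ∃ c, C = c + 2 := ⟨C - 2, by omega⟩
  rw [show c + 2 - 1 = c + 1 by omega] at hX
  rcases hS with rfl | rfl
  · nlinarith
  · rcases (by omega : c = 0 ∨ c = 1 ∨ 2 ≤ c) with rfl | rfl | hc
    · nlinarith
    · have h1 : o ≤ 5 := by nlinarith
      obtain rfl : o = 4 := by
        obtain ⟨r, rfl⟩ := he
        omega
      omega
    · nlinarith

end Numeric

variable {F : Type*} [Field F] {G : Type*} [Group G] [Fintype G] {V : Type*} [AddCommGroup V] [Module F V]

/-- The elements fixing every vector of a subspace. -/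
noncomputable def pointStab (φ : G →* (V →ₗ[F] V)) (U : Submodule F V) : Finset G := by
  classical exact Finset.univ.filter fun g => ∀ x ∈ U, φ g x = x

/-- The elements preserving a subspace. -/
noncomputable def lineStab (φ : G →* (V →ₗ[F] V)) (U : Submodule F V) : Finset G := by
  classical exact Finset.univ.filter fun g => U.map (φ g) = U

variable (φ : G →* (V →ₗ[F] V))

theorem mem_pointStab {U : Submodule F V} {g : G} : g ∈ pointStab φ U ↔ ∀ x ∈ U, φ g x = x := by
  classical simp [pointStab]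

theorem mem_lineStab {U : Submodule F V} {g : G} : g ∈ lineStab φ U ↔ U.map (φ g) = U := by
  classical simp [lineStab]

theorem apply_mul (g h : G) (x : V) : φ (g * h) x = φ g (φ h x) := by rw [map_mul]; rfl

theorem apply_inv_self (g : G) (x : V) : φ g⁻¹ (φ g x) = x := by
  rw [← apply_mul, inv_mul_cancel, map_one]; rfl

theorem map_mul_sub (g h : G) (U : Submodule F V) : U.map (φ (g * h)) = (U.map (φ h)).map (φ g) := by
  rw [map_mul, Module.End.mul_eq_comp, Submodule.map_comp]

theorem map_one_sub (U : Submodule F V) : U.map (φ 1) = U := by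
  rw [map_one, Module.End.one_eq_id, Submodule.map_id]

theorem mem_pointStab_span {v : V} {g : G} : g ∈ pointStab φ (Submodule.span F {v}) ↔ φ g v = v := by
  rw [mem_pointStab]
  refine ⟨fun h => h v (Submodule.mem_span_singleton_self v), fun h x hx => ?_⟩
  obtain ⟨a, rfl⟩ := Submodule.mem_span_singleton.1 hx
  rw [map_smul, h]

theorem card_pointStab_map (h : G) (U : Submodule F V) :
    (pointStab φ (U.map (φ h))).card = (pointStab φ U).card := by
  refine (Finset.card_bij (fun g _ => h * g * h⁻¹) (fun g hg => ?_) (fun a _ b _ e => ?_) fun g hg => ?_).symm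
  · rw [mem_pointStab] at hg ⊢
    rintro _ ⟨x, hx, rfl⟩
    rw [apply_mul, apply_inv_self, apply_mul, hg x hx]
  · exact mul_left_cancel (mul_right_cancel e)
  · refine ⟨h⁻¹ * g * h, ?_, by group⟩
    rw [mem_pointStab] at hg ⊢
    intro x hx
    rw [apply_mul, apply_mul, hg _ (Submodule.mem_map_of_mem hx), apply_inv_self]

variable [Finite V]

theorem no_axes (htwo : (2 : F) ≠ 0) (Qf : QuadraticForm F V) (hQ : ∀ g x, Qf (φ g x) = Qf x)
    (hax : ∀ g, g ≠ 1 → ∃ v, Qf v ≠ 0 ∧ ∀ x, φ g x = x ↔ x ∈ Submodule.span F {v})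
    {e : V} (he : Qf e ≠ 0) {gf : G} (hflip : φ gf e = -e) (h4 : 4 ≤ (pointStab φ (Submodule.span F {e})).card)
    {ε : G} (hε1 : ε ≠ 1) (hε2 : ε * ε = 1) (hεe : φ ε e = e)
    (t : Fin 4 → G) (ht : ∀ i j, i < j → φ (t j) e ∉ Submodule.span F {φ (t i) e}) : False := by
  classical
  -- the axes
  set Fx : G → Submodule F V := fun g => LinearMap.ker (φ g - 1) with hFx
  have hmemFx : ∀ g x, x ∈ Fx g ↔ φ g x = x := fun g x => by
    simp [hFx, sub_eq_zero]
  have hline : ∀ g, g ≠ 1 → ∃ v, Qf v ≠ 0 ∧ Fx g = Submodule.span F {v} := fun g hg => by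
    obtain ⟨v, hv, hiff⟩ := hax g hg
    exact ⟨v, hv, Submodule.ext fun x => by rw [hmemFx, hiff]⟩
  set AX := (Finset.univ.erase (1 : G)).image Fx with hAX
  have hAXv : ∀ U ∈ AX, ∃ v, Qf v ≠ 0 ∧ U = Submodule.span F {v} := fun U hU => by
    obtain ⟨g, hg, rfl⟩ := Finset.mem_image.1 hU
    exact hline g (Finset.ne_of_mem_erase hg)
  have hfib : ∀ U ∈ AX, ((Finset.univ.erase (1 : G)).filter fun g => Fx g = U) = (pointStab φ U).erase 1 := by
    intro U hU
    ext g
    simp only [Finset.mem_filter, Finset.mem_erase, Finset.mem_univ, and_true]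
    refine ⟨fun h => ⟨h.1, (mem_pointStab φ).2 fun x hx => (hmemFx g x).1 (h.2 ▸ hx)⟩, fun h => ⟨h.1, ?_⟩⟩
    obtain ⟨v, hv, rfl⟩ := hAXv U hU
    obtain ⟨w, hw, hiff⟩ := hline g h.1
    rw [hiff]
    have hvw : v ∈ Submodule.span F {w} := hiff ▸ (hmemFx g v).2 ((mem_pointStab_span φ).1 h.2)
    obtain ⟨a, rfl⟩ := Submodule.mem_span_singleton.1 hvw
    have ha : a ≠ 0 := by
      rintro rfl
      exact hv (by rw [zero_smul, QuadraticMap.map_zero])
    exact (Submodule.span_singleton_smul_eq (isUnit_iff_ne_zero.2 ha) w).symm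
  have htotal : ∑ U ∈ AX, ((pointStab φ U).card - 1) = Fintype.card G - 1 := by
    rw [← Finset.card_univ, ← Finset.card_erase_of_mem (Finset.mem_univ (1 : G)),
      Finset.card_eq_sum_card_image Fx]
    refine Finset.sum_congr rfl fun U hU => ?_
    rw [hfib U hU, Finset.card_erase_of_mem ((mem_pointStab φ).2 fun x _ => by rw [map_one]; rfl)]
  -- orbits of lines
  set O : Submodule F V → Finset (Submodule F V) := fun U => Finset.univ.image fun g => U.map (φ g) with hO
  have hOax : ∀ U ∈ AX, O U ⊆ AX := by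
    intro U hU W hW
    obtain ⟨h, -, rfl⟩ := Finset.mem_image.1 hW
    obtain ⟨g, hg, rfl⟩ := Finset.mem_image.1 hU
    refine Finset.mem_image.2 ⟨h * g * h⁻¹, Finset.mem_erase.2 ⟨fun e' => Finset.ne_of_mem_erase hg ?_,
      Finset.mem_univ _⟩, ?_⟩
    · calc g = h⁻¹ * (h * g * h⁻¹) * h := by group
        _ = 1 := by rw [e']; group
    · ext x
      rw [hmemFx, Submodule.mem_map]
      constructor
      · intro hx
        refine ⟨φ h⁻¹ x, (hmemFx g _).2 ?_, by rw [← apply_mul, mul_inv_cancel, map_one]; rfl⟩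
        conv_rhs => rw [← hx]
        rw [← apply_mul, ← apply_mul]
        congr 1
        group
      · rintro ⟨y, hy, rfl⟩
        rw [apply_mul, apply_inv_self, apply_mul, (hmemFx g y).1 hy]
  have horb : ∀ U : Submodule F V, (O U).card * (lineStab φ U).card = Fintype.card G := by
    intro U
    have hf : ∀ W ∈ O U, (Finset.univ.filter fun g => U.map (φ g) = W).card = (lineStab φ U).card := by
      intro W hW
      obtain ⟨h, -, rfl⟩ := Finset.mem_image.1 hW
      refine Finset.card_bij (fun g _ => h⁻¹ * g) (fun g hg => ?_) (fun a _ b _ e' => mul_left_cancel e')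
        fun g hg => ⟨h * g, ?_, by group⟩
      · rw [Finset.mem_filter] at hg
        rw [mem_lineStab, map_mul_sub, hg.2, ← map_mul_sub, inv_mul_cancel, map_one_sub]
      · rw [Finset.mem_filter]
        exact ⟨Finset.mem_univ _, by rw [map_mul_sub, (mem_lineStab φ).1 hg]⟩
    rw [← Finset.card_univ (α := G), Finset.card_eq_sum_card_image (fun g => U.map (φ g)) Finset.univ,
      Finset.sum_congr rfl hf, Finset.sum_const, smul_eq_mul]
  have hdisj : ∀ U W : Submodule F V, W ∈ O U → ∀ X ∈ O W, X ∈ O U := by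
    intro U W hW X hX
    obtain ⟨g, -, rfl⟩ := Finset.mem_image.1 hW
    obtain ⟨h, -, rfl⟩ := Finset.mem_image.1 hX
    exact Finset.mem_image.2 ⟨h * g, Finset.mem_univ _, by rw [map_mul_sub]⟩
  have hself : ∀ U : Submodule F V, U ∈ O U := fun U =>
    Finset.mem_image.2 ⟨1, Finset.mem_univ _, map_one_sub φ U⟩
  have hdisjoint : ∀ U W : Submodule F V, W ∉ O U → Disjoint (O U) (O W) := by
    intro U W hW
    rw [Finset.disjoint_left]
    intro X hX hX'
    obtain ⟨g, -, rfl⟩ := Finset.mem_image.1 hX'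
    refine hW (hdisj U _ hX W (Finset.mem_image.2 ⟨g⁻¹, Finset.mem_univ _, ?_⟩))
    rw [← map_mul_sub, inv_mul_cancel, map_one_sub]
  have hweight : ∀ U : Submodule F V, ∑ W ∈ O U, ((pointStab φ W).card - 1) =
      (O U).card * ((pointStab φ U).card - 1) := by
    intro U
    rw [Finset.sum_congr rfl (g := fun _ => (pointStab φ U).card - 1) ?_, Finset.sum_const, smul_eq_mul]
    intro W hW
    obtain ⟨g, -, rfl⟩ := Finset.mem_image.1 hW
    rw [card_pointStab_map]
  -- the stabiliser of a line against its pointwise stabiliser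
  have hCS : ∀ v : V, Qf v ≠ 0 → (∀ g, φ g v ≠ -v) ∧ (lineStab φ (Submodule.span F {v})).card =
      (pointStab φ (Submodule.span F {v})).card ∨ (lineStab φ (Submodule.span F {v})).card =
      2 * (pointStab φ (Submodule.span F {v})).card := by
    intro v hv
    have hv0 : v ≠ 0 := fun e' => hv (by rw [e', QuadraticMap.map_zero])
    have hiff : ∀ g, g ∈ lineStab φ (Submodule.span F {v}) ↔ φ g v = v ∨ φ g v = -v := by
      intro g
      rw [mem_lineStab, Submodule.map_span, Set.image_singleton]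
      constructor
      · intro h
        obtain ⟨a, ha⟩ : ∃ a : F, a • v = φ g v :=
          Submodule.mem_span_singleton.1 (h ▸ Submodule.mem_span_singleton_self (φ g v))
        have h1 := hQ g v
        rw [← ha, QuadraticMap.map_smul, smul_eq_mul] at h1
        rcases mul_self_eq_one_iff.1 (mul_right_cancel₀ hv (h1.trans (one_mul _).symm)) with rfl | rfl
        · left; rw [← ha, one_smul]
        · right; rw [← ha, neg_one_smul]
      · rintro (h | h)
        · rw [h]
        · rw [h, ← neg_one_smul F v, Submodule.span_singleton_smul_eq (isUnit_one.neg) v]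
    have hsplit : lineStab φ (Submodule.span F {v}) =
        pointStab φ (Submodule.span F {v}) ∪ (Finset.univ.filter fun g => φ g v = -v) := by
      ext g
      rw [hiff, Finset.mem_union, mem_pointStab_span, Finset.mem_filter]
      simp
    by_cases hflip' : ∀ g, φ g v ≠ -v
    · refine Or.inl ⟨hflip', ?_⟩
      rw [hsplit, Finset.filter_eq_empty_iff.2 fun g _ => hflip' g, Finset.union_empty]
    · push Not at hflip'
      obtain ⟨g₀, hg₀⟩ := hflip'
      refine Or.inr ?_
      have hd : Disjoint (pointStab φ (Submodule.span F {v})) (Finset.univ.filter fun g => φ g v = -v) := by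
        rw [Finset.disjoint_left]
        intro g hg hg'
        have e2 := ((mem_pointStab_span φ).1 hg).symm.trans (Finset.mem_filter.1 hg').2
        have h2 : (2 : F) • v = 0 := by rw [two_smul]; exact eq_neg_iff_add_eq_zero.1 e2
        rcases smul_eq_zero.1 h2 with h3 | h3
        · exact htwo h3
        · exact hv0 h3
      rw [hsplit, Finset.card_union_of_disjoint hd, two_mul]
      congr 1
      refine (Finset.card_bij (fun g _ => g₀ * g) (fun g hg => ?_) (fun a _ b _ e' => mul_left_cancel e')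
        fun g hg => ⟨g₀⁻¹ * g, ?_, by group⟩).symm
      · rw [Finset.mem_filter]
        exact ⟨Finset.mem_univ _, by rw [apply_mul, (mem_pointStab_span φ).1 hg, hg₀]⟩
      · rw [Finset.mem_filter] at hg
        rw [mem_pointStab_span, apply_mul, hg.2, ← hg₀, apply_inv_self]
  have he0 : e ≠ 0 := fun e' => he (by rw [e', QuadraticMap.map_zero])
  set L := Submodule.span F {e} with hL
  obtain ⟨o, ho⟩ : ∃ o, o = (pointStab φ L).card := ⟨_, rfl⟩
  obtain ⟨g₁, hg₁, hg₁1⟩ := Finset.exists_mem_ne (by omega : 1 < (pointStab φ L).card) 1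
  have hLax : L ∈ AX := by
    refine Finset.mem_image.2 ⟨g₁, Finset.mem_erase.2 ⟨hg₁1, Finset.mem_univ _⟩, ?_⟩
    obtain ⟨w, hw, hiff⟩ := hline g₁ hg₁1
    rw [hiff]
    obtain ⟨a, ha⟩ := Submodule.mem_span_singleton.1 (hiff ▸ (hmemFx g₁ e).2 ((mem_pointStab_span φ).1 hg₁) :
      e ∈ Submodule.span F {w})
    have ha0 : a ≠ 0 := fun e' => he0 (by rw [← ha, e', zero_smul])
    rw [hL, ← ha, Submodule.span_singleton_smul_eq (isUnit_iff_ne_zero.2 ha0)]
  have hN₀ : 4 ≤ (O L).card := by
    have hm : ∀ i, L.map (φ (t i)) = Submodule.span F {φ (t i) e} := fun i => by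
      rw [hL, Submodule.map_span, Set.image_singleton]
    have hne : ∀ i j, i < j → L.map (φ (t i)) ≠ L.map (φ (t j)) := fun i j hij e' => ht i j hij (by
      rw [← hm, e', hm]; exact Submodule.mem_span_singleton_self _)
    have hinj : Function.Injective fun i => L.map (φ (t i)) := fun i j e' => by
      rcases lt_trichotomy i j with h | h | h
      · exact absurd e' (hne i j h)
      · exact h
      · exact absurd e'.symm (hne j i h)
    refine le_trans (le_of_eq ?_) (Finset.card_le_card (s := Finset.univ.image fun i => L.map (φ (t i)))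
      fun X hX => ?_)
    · rw [Finset.card_image_of_injective _ hinj, Finset.card_univ, Fintype.card_fin]
    · obtain ⟨i, -, rfl⟩ := Finset.mem_image.1 hX
      exact Finset.mem_image.2 ⟨t i, Finset.mem_univ _, rfl⟩
  have hSL : (lineStab φ L).card = 2 * o := by
    rcases hCS e he with h | h
    · exact absurd hflip (h.1 gf)
    · rw [ho]; exact h
  have hG : Fintype.card G = 2 * (o * (O L).card) := by
    rw [← horb L, hSL]; ring
  have hrest : ∑ U ∈ AX \ O L, ((pointStab φ U).card - 1) + 1 = o * (O L).card + (O L).card := by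
    have h := Finset.sum_sdiff (f := fun U => (pointStab φ U).card - 1) (hOax L hLax)
    rw [htotal, hweight L, ← ho, hG] at h
    obtain ⟨o', rfl⟩ : ∃ o', o = o' + 1 := ⟨o - 1, by omega⟩
    rw [add_tsub_cancel_right] at h
    have h1 : (o' + 1) * (O L).card = o' * (O L).card + (O L).card := by ring
    have h2 : (O L).card * o' = o' * (O L).card := mul_comm _ _
    omega
  -- the data of a further orbit
  have hdata : ∀ U ∈ AX, ∃ S, (O U).card * S = Fintype.card G ∧ 2 ≤ (pointStab φ U).card ∧
      (S = (pointStab φ U).card ∨ S = 2 * (pointStab φ U).card) := by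
    intro U hU
    refine ⟨(lineStab φ U).card, horb U, ?_, ?_⟩
    · obtain ⟨g, hg, hgU⟩ := Finset.mem_image.1 hU
      refine Finset.one_lt_card.2 ⟨1, (mem_pointStab φ).2 fun x _ => by rw [map_one]; rfl, g,
        (mem_pointStab φ).2 fun x hx => (hmemFx g x).1 (hgU ▸ hx), (Finset.ne_of_mem_erase hg).symm⟩
    · obtain ⟨v, hv, rfl⟩ := hAXv U hU
      exact (hCS v hv).imp And.right id
  have ho4 : 4 ≤ o := ho ▸ h4
  have hoe : Even o := by
    let H : Subgroup G :=
      { carrier := {g | φ g e = e}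
        mul_mem' := fun {a b} ha hb => by
          show φ (a * b) e = e
          rw [apply_mul, hb, ha]
        one_mem' := by
          show φ 1 e = e
          rw [map_one]; rfl
        inv_mem' := fun {a} ha => by
          show φ a⁻¹ e = e
          conv_lhs => rw [← ha, apply_inv_self] }
    have hcard : Nat.card H = o := by
      rw [ho, Nat.card_eq_fintype_card]
      exact Fintype.card_of_subtype _ fun g => (mem_pointStab_span φ)
    have hord : orderOf (⟨ε, hεe⟩ : H) = 2 :=
      orderOf_eq_prime (Subtype.ext (by rw [SubgroupClass.coe_pow, sq]; exact hε2))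
        fun h => hε1 (congrArg Subtype.val h)
    exact even_iff_two_dvd.2 (hcard ▸ hord ▸ orderOf_dvd_natCard (⟨ε, hεe⟩ : H))
  obtain ⟨U₁, hU₁⟩ : (AX \ O L).Nonempty := by
    by_contra h
    rw [Finset.not_nonempty_iff_eq_empty] at h
    rw [h, Finset.sum_empty] at hrest
    nlinarith
  rw [Finset.mem_sdiff] at hU₁
  have hsub₁ : O U₁ ⊆ AX \ O L := fun X hX =>
    Finset.mem_sdiff.2 ⟨hOax U₁ hU₁.1 hX, Finset.disjoint_right.1 (hdisjoint L U₁ hU₁.2) hX⟩
  have hsplit₁ := Finset.sum_sdiff (f := fun U => (pointStab φ U).card - 1) hsub₁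
  rw [hweight U₁] at hsplit₁
  obtain ⟨S₁, hS₁, hC₁, hS₁'⟩ := hdata U₁ hU₁.1
  by_cases h2nd : ((AX \ O L) \ O U₁).Nonempty
  · obtain ⟨U₂, hU₂'⟩ := h2nd
    have hU₂ := hU₂'
    simp only [Finset.mem_sdiff] at hU₂
    have hsub₂ : O U₂ ⊆ (AX \ O L) \ O U₁ := fun X hX => by
      simp only [Finset.mem_sdiff]
      exact ⟨⟨hOax U₂ hU₂.1.1 hX, Finset.disjoint_right.1 (hdisjoint L U₂ hU₂.1.2) hX⟩,
        Finset.disjoint_right.1 (hdisjoint U₁ U₂ hU₂.2) hX⟩
    have hsplit₂ := Finset.sum_sdiff (f := fun U => (pointStab φ U).card - 1) hsub₂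
    rw [hweight U₂] at hsplit₂
    obtain ⟨S₂, hS₂, hC₂, hS₂'⟩ := hdata U₂ hU₂.1.1
    have w₁ := orbit_weight hG hS₁ hC₁ hS₁'
    have w₂ := orbit_weight hG hS₂ hC₂ hS₂'
    have hbound : 4 * (O L).card ≤ o * (O L).card := Nat.mul_le_mul_right _ ho4
    by_cases h3rd : (((AX \ O L) \ O U₁) \ O U₂).Nonempty
    · obtain ⟨U₃, hU₃'⟩ := h3rd
      have hU₃ := hU₃'
      simp only [Finset.mem_sdiff] at hU₃
      have hsub₃ : O U₃ ⊆ ((AX \ O L) \ O U₁) \ O U₂ := fun X hX => by
        simp only [Finset.mem_sdiff]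
        exact ⟨⟨⟨hOax U₃ hU₃.1.1.1 hX, Finset.disjoint_right.1 (hdisjoint L U₃ hU₃.1.1.2) hX⟩,
          Finset.disjoint_right.1 (hdisjoint U₁ U₃ hU₃.1.2) hX⟩,
          Finset.disjoint_right.1 (hdisjoint U₂ U₃ hU₃.2) hX⟩
      have hsplit₃ := Finset.sum_sdiff (f := fun U => (pointStab φ U).card - 1) hsub₃
      rw [hweight U₃] at hsplit₃
      obtain ⟨S₃, hS₃, hC₃, hS₃'⟩ := hdata U₃ hU₃.1.1.1
      have w₃ := orbit_weight hG hS₃ hC₃ hS₃'
      omega
    · rw [Finset.not_nonempty_iff_eq_empty] at h3rd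
      rw [h3rd, Finset.sum_empty, zero_add] at hsplit₂
      rcases w₁ with w₁ | w₁
      · exact two_orbits hG ho4 hoe hN₀ hS₂ hC₂ hS₂' (by omega)
      rcases w₂ with w₂ | w₂
      · exact two_orbits hG ho4 hoe hN₀ hS₁ hC₁ hS₁' (by omega)
      omega
  · rw [Finset.not_nonempty_iff_eq_empty] at h2nd
    rw [h2nd, Finset.sum_empty, zero_add] at hsplit₁
    exact single_orbit hG ho4 hN₀ hS₁ hC₁ hS₁' (by omega)

end CfsgLib.OrthMono
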