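import Cfsg.Agent.OrthMono.Frame

/-!
# Unit vectors whose reflections pair with the frame inside a subgroup

`RR M`: unit vectors `u` with `rf u * rf (b i)` in `M`; it is closed under these reflections and under
signed permutations of small supports.
-/

set_option autoImplicit false
set_option linter.unusedSectionVars false

namespace CfsgLib.OrthMono

open Matrix Module CfsgLib.Spinor CfsgLib.Forms CfsgLib.OrthMax

variable {F : Type*} [Field F] {ι : Type} [Fintype ι] [DecidableEq ι] {Q : QuadraticForm F (ι → F)}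

/-- An involution pair with product of even order has a central involution in their group. -/
theorem exists_central {G : Type*} [Group G] [Finite G] {a b : G} (ha : a * a = 1) (hb : b * b = 1)
    (he : Even (orderOf (a * b))) :
    ∃ m : ℕ, (a * b) ^ m ≠ 1 ∧ (a * b) ^ m * (a * b) ^ m = 1 ∧
      a * (a * b) ^ m = (a * b) ^ m * a ∧ b * (a * b) ^ m = (a * b) ^ m * b := by
  obtain ⟨m, hm⟩ := he
  have hpos : 0 < orderOf (a * b) := orderOf_pos _
  refine ⟨m, fun h => ?_, by rw [← pow_add, ← hm, pow_orderOf_eq_one], ?_, ?_⟩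
  · have := Nat.le_of_dvd (by omega) (orderOf_dvd_of_pow_eq_one h)
    omega
  all_goals
    have hinv : ((a * b) ^ m)⁻¹ = (a * b) ^ m :=
      inv_eq_of_mul_eq_one_right (by rw [← pow_add, ← hm, pow_orderOf_eq_one])
  · have hs : SemiconjBy a (a * b) (a * b)⁻¹ := by
      show a * (a * b) = (a * b)⁻¹ * a
      rw [_root_.mul_inv_rev, inv_eq_of_mul_eq_one_right ha, inv_eq_of_mul_eq_one_right hb, ← mul_assoc, ha, one_mul,
        mul_assoc, ha, mul_one]
    have := hs.pow_right m
    rwa [SemiconjBy, inv_pow, hinv] at this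
  · have hs : SemiconjBy b (a * b) (a * b)⁻¹ := by
      show b * (a * b) = (a * b)⁻¹ * b
      rw [_root_.mul_inv_rev, inv_eq_of_mul_eq_one_right ha, inv_eq_of_mul_eq_one_right hb, mul_assoc b a b]
    have := hs.pow_right m
    rwa [SemiconjBy, inv_pow, hinv] at this

/-- An involution pair with product of odd order is a conjugate pair. -/
theorem exists_conj_of_odd {G : Type*} [Group G] {a b : G} (ha : a * a = 1) (hb : b * b = 1)
    (ho : Odd (orderOf (a * b))) : ∃ h : G, h * a * h⁻¹ = b := by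
  obtain ⟨t, ht⟩ := ho
  have hs : SemiconjBy a (a * b)⁻¹ (a * b) := by
    show a * (a * b)⁻¹ = a * b * a
    rw [_root_.mul_inv_rev, inv_eq_of_mul_eq_one_right ha, inv_eq_of_mul_eq_one_right hb, ← mul_assoc]
  have h1 : a * ((a * b) ^ t)⁻¹ = (a * b) ^ t * a := by
    have := hs.pow_right t
    rwa [SemiconjBy, inv_pow] at this
  have h2 : (a * b) ^ (t + t) = (a * b)⁻¹ := by
    refine eq_inv_of_mul_eq_one_left ?_
    rw [← pow_succ, show t + t + 1 = orderOf (a * b) by omega, pow_orderOf_eq_one]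
  refine ⟨(a * b) ^ t, ?_⟩
  rw [mul_assoc, h1, ← mul_assoc, ← pow_add, h2, _root_.mul_inv_rev, inv_eq_of_mul_eq_one_right ha,
    inv_eq_of_mul_eq_one_right hb, mul_assoc, ha, mul_one]

namespace Frame

variable {n : ℕ} (f : Frame Q n)

theorem eq_smul_b {v : ι → F} {j : Fin n} (h : ∀ k, k ≠ j → f.co v k = 0) : v = f.co v j • f.b j :=
  f.co_ext fun k => by
    rw [map_smul, Pi.smul_apply, co_b, smul_eq_mul]
    by_cases hk : k = j
    · rw [hk, if_pos rfl, mul_one]
    · rw [if_neg hk, mul_zero, h k hk]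

theorem supp_nonempty {v : ι → F} (hv : Q v = f.c) : (f.supp v).Nonempty := by
  rw [Finset.nonempty_iff_ne_empty]
  intro h
  refine f.c_ne ?_
  rw [← hv, show v = 0 from f.co_ext fun i => ?_, QuadraticMap.map_zero]
  rw [f.notMem_supp.1 (by rw [h]; exact Finset.notMem_empty i), map_zero, Pi.zero_apply]

theorem coord_of_card_le {v : ι → F} (hv : Q v = f.c) (hc : (f.supp v).card ≤ 1) :
    ∃ j, ∃ a : F, v = a • f.b j := by
  obtain ⟨j, hj⟩ := f.supp_nonempty hv
  exact ⟨j, f.co v j, f.eq_smul_b fun k hk => by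
    by_contra h
    exact hk (Finset.card_le_one.1 hc k (f.mem_supp.2 h) j hj)⟩

/-- `M` contains the monomial elements of `Ω`. -/
def HasMono (M : Subgroup (Isom Q)) : Prop := ∀ g ∈ Cfsg.Omega F ⇑Q, f.Mono g → g ∈ M

/-- Unit vectors whose reflections pair with those of the frame inside `M`. -/
def RR (M : Subgroup (Isom Q)) : Set (ι → F) := {u | Q u = f.c ∧ ∀ i, rf u * rf (f.b i) ∈ M}

variable {f} {M : Subgroup (Isom Q)} [Fintype F] (hM : f.HasMono M)
include hM

theorem HasMono.bb_mem (i j : Fin n) : rf (f.b i) * rf (f.b j) ∈ M :=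
  hM _ (rf_mul_mem_omega f.nondeg f.two (f.quad_ne i) (by rw [f.quad, f.quad]))
    ((f.mono_rf_b i).mul f (f.mono_rf_b j))

theorem HasMono.b_mem (i : Fin n) : f.b i ∈ f.RR M := ⟨f.quad i, fun j => hM.bb_mem i j⟩

theorem HasMono.perm_mem {π : Equiv.Perm (Fin n)} (h : Equiv.Perm.sign π = 1) : f.permHom π ∈ M :=
  hM _ (f.permHom_mem_omega h) (f.mono_permHom π)

theorem HasMono.mem_RR {u : ι → F} (hu : Q u = f.c) {j : Fin n} (h : rf u * rf (f.b j) ∈ M) : u ∈ f.RR M :=
  ⟨hu, fun i => by
    have := M.mul_mem h (hM.bb_mem j i)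
    rwa [mul_assoc, ← mul_assoc (rf (f.b j)), rf_mul_self, one_mul] at this⟩

theorem HasMono.pair_mem {u v : ι → F} (hu : u ∈ f.RR M) (hv : v ∈ f.RR M) : rf u * rf v ∈ M := by
  obtain ⟨i, -⟩ := f.supp_nonempty hu.1
  have := M.mul_mem (hu.2 i) (M.inv_mem (hv.2 i))
  rwa [_root_.mul_inv_rev, rf_inv, rf_inv, mul_assoc, ← mul_assoc (rf (f.b i)), rf_mul_self, one_mul] at this

theorem HasMono.refl_mem {u v : ι → F} (hu : u ∈ f.RR M) (hv : v ∈ f.RR M) : ap (rf (Q := Q) u) v ∈ f.RR M :=
  ⟨by rw [quad_ap, hv.1], fun i => by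
    have := M.mul_mem (hM.pair_mem hu hv) (hu.2 i)
    rw [← conj_rf, rf_inv]
    rwa [← mul_assoc] at this⟩

/-- An element of `M` with a monomial column preserves `RR M`. -/
theorem HasMono.ap_mem {h : Isom Q} (hh : h ∈ M) {i : Fin n} {j : Fin n} {a : F}
    (hcol : ap h (f.b i) = a • f.b j) {u : ι → F} (hu : u ∈ f.RR M) : ap h u ∈ f.RR M := by
  refine hM.mem_RR (by rw [quad_ap, hu.1]) (j := j) ?_
  have ha : a ≠ 0 := fun e => by
    rcases f.sign_of_smul hcol with h' | h' <;> simp [e] at h'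
  have := M.mul_mem (M.mul_mem hh (hu.2 i)) (M.inv_mem hh)
  rw [← rf_smul ha (f.b j), ← hcol, ← conj_rf, ← conj_rf]
  simpa [mul_assoc] using this

theorem HasMono.mono_ap_mem {h : Isom Q} (hh : h ∈ M) (hm : f.Mono h) {u : ι → F} (hu : u ∈ f.RR M) :
    ap h u ∈ f.RR M := by
  obtain ⟨i, -⟩ := f.supp_nonempty hu.1
  obtain ⟨j, a, e⟩ := hm i
  exact hM.ap_mem hh e hu

/-- Sign changes. -/
theorem HasMono.sign_mem {u w : ι → F} (hu : u ∈ f.RR M) (h : ∀ i, f.co w i ^ 2 = f.co u i ^ 2) :
    w ∈ f.RR M := by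
  classical
  suffices key : ∀ (T : Finset (Fin n)) (v : ι → F), v ∈ f.RR M → (∀ i, f.co w i ^ 2 = f.co v i ^ 2) →
      (Finset.univ.filter fun i => f.co w i ≠ f.co v i) ⊆ T → w ∈ f.RR M from key Finset.univ u hu h (Finset.subset_univ _)
  intro T
  induction T using Finset.induction_on with
  | empty =>
    intro v hv _ hsub
    have : w = v := f.co_ext fun i => by
      by_contra hne
      exact Finset.notMem_empty i (hsub (Finset.mem_filter.2 ⟨Finset.mem_univ _, hne⟩))
    rwa [this]
  | insert a T _ ih =>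
    intro v hv hsq hsub
    by_cases hne : f.co w a = f.co v a
    · refine ih v hv hsq fun i hi => ?_
      rcases Finset.mem_insert.1 (hsub hi) with rfl | h'
      · exact absurd hne (Finset.mem_filter.1 hi).2
      · exact h'
    · have hneg : f.co w a = -f.co v a := (sq_eq_sq_iff_eq_or_eq_neg.1 (hsq a)).resolve_left hne
      have hco : ∀ i, f.co (ap (rf (Q := Q) (f.b a)) v) i = if i = a then -f.co v i else f.co v i := by
        intro i
        rw [f.co_rf (f.quad a), f.dot_b, co_b]
        split_ifs with h1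
        · subst h1; ring
        · ring
      refine ih _ (hM.refl_mem (hM.b_mem a) hv) (fun i => ?_) fun i hi => ?_
      · rw [hco]
        split_ifs
        · rw [neg_sq]; exact hsq i
        · exact hsq i
      · have h' := (Finset.mem_filter.1 hi).2
        rw [hco] at h'
        split_ifs at h' with h1
        · subst h1; exact absurd hneg h'
        · exact (Finset.mem_insert.1 (hsub (Finset.mem_filter.2 ⟨Finset.mem_univ _, h'⟩))).resolve_left h1

/-- Signed even permutations. -/
theorem HasMono.move_even {u w : ι → F} (hu : u ∈ f.RR M) {π : Equiv.Perm (Fin n)} (hπ : Equiv.Perm.sign π = 1)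
    (h : ∀ i, f.co w (π i) ^ 2 = f.co u i ^ 2) : w ∈ f.RR M := by
  have hv := hM.mono_ap_mem (hM.perm_mem hπ) (f.mono_permHom π) hu
  refine hM.sign_mem hv fun j => ?_
  obtain ⟨i, rfl⟩ := π.surjective j
  rw [h, f.co_mono (g := f.permHom π) (π := π) (d := fun _ => 1) (fun i => by rw [f.permHom_b, one_smul]), one_mul]

/-- Signed permutations of vectors with two equal squares. -/
theorem HasMono.move_sq {u w : ι → F} (hu : u ∈ f.RR M) {k l : Fin n} (hkl : k ≠ l)
    (hsq : f.co u k ^ 2 = f.co u l ^ 2)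
    (π : Equiv.Perm (Fin n)) (h : ∀ i, f.co w (π i) ^ 2 = f.co u i ^ 2) : w ∈ f.RR M := by
  rcases Int.units_eq_one_or (Equiv.Perm.sign π) with e | e
  · exact hM.move_even hu e h
  refine hM.move_even hu (π := π * Equiv.swap k l) (by rw [map_mul, e, Equiv.Perm.sign_swap hkl]; rfl) fun i => ?_
  rw [Equiv.Perm.mul_apply, h]
  rcases eq_or_ne i k with rfl | hik
  · rw [Equiv.swap_apply_left, hsq]
  rcases eq_or_ne i l with rfl | hil
  · rw [Equiv.swap_apply_right, hsq]
  rw [Equiv.swap_apply_of_ne_of_ne hik hil]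

/-- Signed permutations of vectors with two zero coordinates. -/
theorem HasMono.move {u w : ι → F} (hu : u ∈ f.RR M) (hcard : (f.supp u).card + 2 ≤ n)
    (π : Equiv.Perm (Fin n)) (h : ∀ i, f.co w (π i) ^ 2 = f.co u i ^ 2) : w ∈ f.RR M := by
  classical
  have h2 : 1 < (Finset.univ \ f.supp u).card := by
    rw [Finset.card_univ_sdiff, Fintype.card_fin]
    omega
  obtain ⟨k, hk, l, hl, hkl⟩ := Finset.one_lt_card.1 h2
  rw [Finset.mem_sdiff] at hk hl
  exact hM.move_sq hu hkl (by rw [f.notMem_supp.1 hk.2, f.notMem_supp.1 hl.2]) π h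

end Frame

end CfsgLib.OrthMono
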