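import Cfsg.Agent.OrthMono.Spread

/-!
# No element off the monomial group without a monomial column

`omega_le_of_nonmono`: over a prime field, in dimension ten or more, a subgroup of `Ω` containing the
monomial elements and any other contains all of `Ω`.
-/

set_option autoImplicit false
set_option linter.unusedSectionVars false

namespace CfsgLib.OrthMono

open Matrix Module CfsgLib.Spinor CfsgLib.Forms CfsgLib.OrthMax

variable {F : Type*} [Field F] [Fintype F] {ι : Type} [Fintype ι] [DecidableEq ι] {Q : QuadraticForm F (ι → F)}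

set_option quotPrecheck false in
local notation "𝔅" => QuadraticMap.polar (⇑Q)

namespace Frame

variable {n : ℕ} {f : Frame Q n} {M : Subgroup (Isom Q)}

/-- A plane off the frame: the negative space of a conjugate of a pair. -/
structure BadPlane (f : Frame Q n) (M : Subgroup (Isom Q)) where
  g : Isom Q
  e : Fin n
  d : Fin n
  ne : e ≠ d
  mem : g * f.flip {e, d} * g⁻¹ ∈ M
  bad : ¬f.Mono (g * f.flip {e, d} * g⁻¹)

namespace BadPlane

variable (B : BadPlane f M)

/-- The involution. -/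
noncomputable def w : Isom Q := B.g * f.flip {B.e, B.d} * B.g⁻¹

/-- The plane. -/
noncomputable def P : Submodule F (ι → F) := (f.sub {B.e, B.d}).map (ap B.g)

theorem mem_P {x : ι → F} : x ∈ B.P ↔ ap B.w x = -x := by
  rw [P, Submodule.mem_map, w]
  constructor
  · rintro ⟨y, hy, rfl⟩
    rw [ap_mul, ap_mul, ap_inv_ap, f.mem_sub_iff_flip.1 hy, map_neg]
  · intro h
    refine ⟨ap B.g⁻¹ x, f.mem_sub_iff_flip.2 ?_, ap_ap_inv _ _⟩
    rw [ap_mul, ap_mul] at h
    rw [← map_neg (ap B.g⁻¹)]
    conv_rhs => rw [← h]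
    rw [ap_inv_ap]

theorem finrank_P : finrank F B.P = 2 := by
  rw [P, ← (Submodule.equivMapOfInjective _ (ap_injective B.g) _).finrank_eq, f.finrank_sub,
    Finset.card_pair B.ne]

theorem w_mul_self : B.w * B.w = 1 := by
  rw [w, show B.g * f.flip {B.e, B.d} * B.g⁻¹ * (B.g * f.flip {B.e, B.d} * B.g⁻¹) =
    B.g * (f.flip {B.e, B.d} * f.flip {B.e, B.d}) * B.g⁻¹ by group, flip_mul_self, mul_one, mul_inv_cancel]

theorem sub_mem_P (y : ι → F) : ap B.w y - y ∈ B.P := by
  rw [B.mem_P, map_sub, ← ap_mul, w_mul_self, ap_one, neg_sub]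

theorem fix_perp {x : ι → F} (h : ∀ y ∈ B.P, 𝔅 y x = 0) : ap B.w x = x := by
  have hco : ∀ i ∈ ({B.e, B.d} : Finset (Fin n)), f.co (ap B.g⁻¹ x) i = 0 := fun i hi => by
    have h1 := h _ (Submodule.mem_map_of_mem (f.b_mem_sub _ hi))
    rw [← ap_ap_inv B.g x, polar_ap, f.polar_b_left] at h1
    exact (mul_eq_zero.1 h1).resolve_left f.two_c
  have h2 : ap (f.flip {B.e, B.d}) (ap B.g⁻¹ x) = ap B.g⁻¹ x := f.co_ext fun i => by
    rw [co_flip]
    split_ifs with hi
    · rw [hco i hi, neg_zero]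
    · rfl
  rw [w, ap_mul, ap_mul, h2, ap_ap_inv]

/-- Two vectors of the plane, the first not a multiple of the second, span it. -/
theorem exists_coeffs₂ {x y : ι → F} (hx : x ∈ B.P) (hy : y ∈ B.P) (hy0 : y ≠ 0) (hxy : ∀ t : F, x ≠ t • y)
    {z : ι → F} (hz : z ∈ B.P) : ∃ a b : F, z = a • x + b • y := by
  let L : F × F →ₗ[F] B.P :=
    (LinearMap.toSpanSingleton F B.P ⟨x, hx⟩).coprod (LinearMap.toSpanSingleton F B.P ⟨y, hy⟩)
  have hL : ∀ a b : F, ((L (a, b) : B.P) : ι → F) = a • x + b • y := fun a b => by simp [L]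
  have hinj : Function.Injective L := by
    rw [← LinearMap.ker_eq_bot, LinearMap.ker_eq_bot']
    rintro ⟨a, b⟩ h
    have h1 : a • x + b • y = 0 := by rw [← hL, h]; rfl
    obtain rfl : a = 0 := by
      by_contra ha
      refine hxy (-(a⁻¹ * b)) ?_
      have h2 := congrArg (fun v => a⁻¹ • v) h1
      simp only [smul_add, smul_smul, inv_mul_cancel₀ ha, one_smul, smul_zero] at h2
      rw [neg_smul]
      exact eq_neg_of_add_eq_zero_left h2
    rw [zero_smul, zero_add, smul_eq_zero] at h1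
    obtain rfl := h1.resolve_right hy0
    rfl
  have hdim : finrank F (F × F) = finrank F B.P := by rw [B.finrank_P, Module.finrank_prod, Module.finrank_self]
  obtain ⟨⟨a, b⟩, h⟩ := (LinearMap.injective_iff_surjective_of_finrank_eq_finrank hdim).1 hinj ⟨z, hz⟩
  exact ⟨a, b, by rw [← hL, h]⟩

variable (hM : f.HasMono M) (hH : f.NoCol M) (hMΩ : M ≤ Cfsg.Omega F ⇑Q) (hn : 10 ≤ n)
include hM hH hn

omit hM hn in
/-- The plane vanishes on no coordinate. -/
theorem exists_co_ne (k : Fin n) : ∃ x ∈ B.P, f.co x k ≠ 0 := by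
  by_contra h
  push Not at h
  refine B.bad (hH _ B.mem k k 1 ?_)
  rw [one_smul]
  exact B.fix_perp fun y hy => by rw [f.polar_b_right, h y hy, mul_zero]

/-- The central involution for four coordinates. -/
theorem exists_c {S : Finset (Fin n)} (hS : S.card = 4) : ∃ c ∈ M, ∃ δ : F, c ≠ 1 ∧ c ≠ f.flip S ∧ c * c = 1 ∧
    f.Mono c ∧ c * f.flip S = f.flip S * c ∧ (δ = 1 ∨ δ = -1) ∧ (∀ y, ap c y - y ∈ f.sub S ⊔ B.P) ∧
    (∀ x ∈ B.P, ap c x ∈ B.P) ∧ ∀ r ∈ f.sub S, (∀ x ∈ B.P, 𝔅 x r = 0) → ap c r = δ • r := by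
  classical
  haveI : Finite (Isom Q) := by
    haveI : Finite (GL ι F) := Finite.of_injective _ Units.val_injective
    infer_instance
  obtain ⟨z, hz⟩ : ∃ z, z = f.flip S := ⟨_, rfl⟩
  have hzM : z ∈ M := hz ▸ flip_mem hM (by rw [hS]; decide)
  have hzz : z * z = 1 := hz ▸ f.flip_mul_self S
  have hne : S.Nonempty := Finset.card_pos.1 (by omega)
  have hne' : S ≠ Finset.univ := fun h => by
    rw [h, Finset.card_univ, Fintype.card_fin] at hS
    omega
  have heven : Even (orderOf (z * B.w)) := by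
    rcases Nat.even_or_odd (orderOf (z * B.w)) with h | h
    · exact h
    exfalso
    obtain ⟨h', hh'⟩ := exists_conj_of_odd hzz B.w_mul_self h
    have e : B.g⁻¹ * h' * f.flip S * (B.g⁻¹ * h')⁻¹ = f.flip {B.e, B.d} := by
      rw [show B.g⁻¹ * h' * f.flip S * (B.g⁻¹ * h')⁻¹ = B.g⁻¹ * (h' * f.flip S * h'⁻¹) * B.g by group, ← hz, hh', w]
      group
    have := f.card_eq_of_conj e
    rw [hS, Finset.card_pair B.ne] at this
    omega
  obtain ⟨m, hc1, hcc, hcz, hcw⟩ := exists_central hzz B.w_mul_self heven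
  obtain ⟨c, hc⟩ : ∃ c, c = (z * B.w) ^ m := ⟨_, rfl⟩
  rw [← hc] at hc1 hcc hcz hcw
  have hcM : c ∈ M := hc ▸ M.pow_mem (M.mul_mem hzM B.mem) m
  have hstab : ∀ {k : Isom Q}, k * z = z * k → ∀ x ∈ f.sub S, ap k x ∈ f.sub S := fun {k} hk x hx => by
    rw [f.mem_sub_iff_flip, ← hz, ← ap_mul, ← hk, ap_mul, hz, f.mem_sub_iff_flip.1 hx, map_neg]
  have hsum : ∀ (i : ℕ) y, ap ((z * B.w) ^ i) y - y ∈ f.sub S ⊔ B.P := by
    intro i
    induction i with
    | zero => intro y; rw [pow_zero, ap_one, sub_self]; exact Submodule.zero_mem _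
    | succ i ih =>
      intro y
      have h1 : ap z (ap B.w y) - ap B.w y ∈ f.sub S := fun l hl => by
        rw [hz, map_sub, Pi.sub_apply, co_flip, if_neg hl, sub_self]
      rw [pow_succ, ap_mul, ap_mul]
      have e : ap ((z * B.w) ^ i) (ap z (ap B.w y)) - y =
          (ap ((z * B.w) ^ i) (ap z (ap B.w y)) - ap z (ap B.w y)) + (ap z (ap B.w y) - ap B.w y) +
            (ap B.w y - y) := by abel
      rw [e]
      exact Submodule.add_mem _ (Submodule.add_mem _ (ih _) (Submodule.mem_sup_left h1))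
        (Submodule.mem_sup_right (B.sub_mem_P y))
  have hR : ∀ r ∈ f.sub S, (∀ x ∈ B.P, 𝔅 x r = 0) → ∀ i : ℕ, ap ((z * B.w) ^ i) r = (-1 : F) ^ i • r := by
    intro r hr hperp i
    induction i with
    | zero => rw [pow_zero, ap_one, pow_zero, one_smul]
    | succ i ih =>
      rw [pow_succ, ap_mul, ap_mul, B.fix_perp hperp, hz, f.mem_sub_iff_flip.1 hr, ← hz, map_neg, ih, pow_succ,
        mul_neg_one, neg_smul]
  refine ⟨c, hcM, (-1) ^ m, hc1, fun e => ?_, hcc, mono_of_stab hM hH hn hne hne' hcM (hstab hcz.symm),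
    by rw [← hz]; exact hcz.symm, neg_one_pow_eq_or F m, fun y => hc ▸ hsum m y, fun x hx => ?_,
    fun r hr hperp => hc ▸ hR r hr hperp m⟩
  · refine B.bad (mono_of_stab hM hH hn hne hne' B.mem (hstab (k := B.w) ?_))
    rwa [e, ← hz] at hcw
  · rw [B.mem_P, ← ap_mul, hcw, ap_mul, (B.mem_P).1 hx, map_neg]

omit hM hn in
/-- The image of a monomial element commuting with the sign change. -/
theorem col_support {S : Finset (Fin n)} {c : Isom Q} (hc : f.Mono c) (hcz : c * f.flip S = f.flip S * c)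
    (hcy : ∀ y, ap c y - y ∈ f.sub S ⊔ B.P) {i : Fin n} (hi : i ∉ S) :
    (∀ l ∈ S, f.co (ap c (f.b i) - f.b i) l = 0) ∧ ∃ j, ∃ x ∈ B.P, f.supp x ⊆ insert i (insert j S) ∧
      ∀ l, l ∉ S → f.co (ap c (f.b i) - f.b i) l = f.co x l := by
  classical
  obtain ⟨π, d, hd, hπ⟩ := hc.exists_perm f
  have hS : ∀ l ∈ S, f.co (ap c (f.b i) - f.b i) l = 0 := by
    intro l hl
    have h1 := congrArg (fun k : Isom Q => f.co (ap k (f.b i)) l) hcz
    simp only [ap_mul, flip_b, if_neg hi, one_smul, co_flip, if_pos hl] at h1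
    rw [map_sub, Pi.sub_apply, f.co_b, if_neg (fun e : l = i => hi (e ▸ hl)), sub_zero]
    exact (mul_eq_zero.1 (by linear_combination h1 : (2 : F) * f.co (ap c (f.b i)) l = 0)).resolve_left f.two
  obtain ⟨s, hs, x, hx, hsx⟩ := Submodule.mem_sup.1 (hcy (f.b i))
  have hco : ∀ l, l ∉ S → f.co (ap c (f.b i) - f.b i) l = f.co x l := fun l hl => by
    rw [← hsx, map_add, Pi.add_apply, hs l hl, zero_add]
  refine ⟨hS, π i, x, hx, fun l hl => ?_, hco⟩
  simp only [Finset.mem_insert]
  by_contra h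
  simp only [not_or] at h
  apply f.mem_supp.1 hl
  rw [← hco l h.2.2, hπ, map_sub, map_smul, Pi.sub_apply, Pi.smul_apply, f.co_b, f.co_b, if_neg h.2.1, if_neg h.1,
    smul_zero, sub_zero]

include hMΩ

/-- No vector of the plane vanishes on four coordinates. -/
theorem false_of_zeros {S : Finset (Fin n)} (hS : S.card = 4) {x₀ : ι → F} (hx₀ : x₀ ∈ B.P) (hx₀0 : x₀ ≠ 0)
    (hzero : ∀ l ∈ S, f.co x₀ l = 0) : False := by
  classical
  obtain ⟨k₀, hk₀⟩ := Finset.card_pos.1 (by omega : 0 < S.card)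
  obtain ⟨y₀, hy₀, hy₀k⟩ := B.exists_co_ne hH k₀
  have hind : ∀ t : F, y₀ ≠ t • x₀ := fun t e => hy₀k (by
    rw [e, map_smul, Pi.smul_apply, hzero k₀ hk₀, smul_zero])
  have hprop : ∀ z ∈ B.P, ∃ b : F, ∀ l ∈ S, f.co z l = b * f.co y₀ l := fun z hz => by
    obtain ⟨a, b, rfl⟩ := B.exists_coeffs₂ hy₀ hx₀ hx₀0 hind hz
    exact ⟨a, fun l hl => by simp [hzero l hl]⟩
  have hr : ∀ l ∈ S, f.co y₀ l ≠ 0 := fun l hl h => by
    obtain ⟨z, hz, hzl⟩ := B.exists_co_ne hH l
    obtain ⟨b, hb⟩ := hprop z hz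
    exact hzl (by rw [hb l hl, h, mul_zero])
  obtain ⟨c, hcM, δ, hc1, hcS, hcc, hmono, hcz, hδ, hcy, -, hR⟩ := B.exists_c hM hH hn hS
  obtain ⟨π, d, hd, hπ⟩ := hmono.exists_perm f
  have hd0 : ∀ i, d i ≠ 0 := fun i => by rcases hd i with e | e <;> simp [e]
  have hcol : ∀ i ∈ S, ap c (f.b i) = δ • f.b i := by
    intro i hi
    have hpair : ∀ j ∈ S, j ≠ i → (π i = i ∨ π i = j) ∧ (π i = i → d i = δ) := by
      intro j hj hji
      obtain ⟨s, hs⟩ : ∃ s, s = f.co y₀ j • f.b i - f.co y₀ i • f.b j := ⟨_, rfl⟩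
      have hsS : s ∈ f.sub S := hs ▸ Submodule.sub_mem _ (Submodule.smul_mem _ _ (f.b_mem_sub S hi))
        (Submodule.smul_mem _ _ (f.b_mem_sub S hj))
      have hcs := hR s hsS fun z hz => by
        obtain ⟨b, hb⟩ := hprop z hz
        rw [hs, QuadraticMap.polar_sub_right, QuadraticMap.polar_smul_right, QuadraticMap.polar_smul_right,
          f.polar_b_right, f.polar_b_right, hb i hi, hb j hj, smul_eq_mul, smul_eq_mul]
        ring
      have h1 := congrArg (fun v => f.co v (π i)) hcs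
      have hij : π i ≠ π j := fun e => hji (π.injective e).symm
      simp only [hs, map_sub, map_smul, hπ, Pi.sub_apply, Pi.smul_apply, smul_eq_mul, f.co_b, if_true,
        if_neg hij, mul_zero, sub_zero, mul_one] at h1
      refine ⟨?_, fun e => ?_⟩
      · by_contra h
        simp only [not_or] at h
        rw [if_neg h.1, if_neg h.2, mul_zero, mul_zero, sub_zero, mul_zero] at h1
        exact mul_ne_zero (hr j hj) (hd0 i) h1
      · rw [e] at h1
        simp only [if_true, if_neg hji.symm, mul_zero, sub_zero, mul_one] at h1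
        exact mul_left_cancel₀ (hr j hj) (by linear_combination h1)
    obtain ⟨j, hj, j', hj', hjj'⟩ := Finset.one_lt_card.1
      (by rw [Finset.card_erase_of_mem hi, hS]; omega : 1 < (S.erase i).card)
    rw [Finset.mem_erase] at hj hj'
    have hfix : π i = i := by
      rcases (hpair j hj.2 hj.1).1 with e | e
      · exact e
      rcases (hpair j' hj'.2 hj'.1).1 with e' | e'
      · exact e'
      exact absurd (e.symm.trans e') hjj'
    rw [hπ, hfix, (hpair j hj.2 hj.1).2 hfix]
  have hzM : f.flip S ∈ M := flip_mem hM (by rw [hS]; decide)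
  obtain ⟨c', hc'M, hc'1, hc'c, hc'm, hc'z, hc'S, hc'y⟩ : ∃ c' ∈ M, c' ≠ 1 ∧ c' * c' = 1 ∧ f.Mono c' ∧
      c' * f.flip S = f.flip S * c' ∧ (∀ i ∈ S, ap c' (f.b i) = f.b i) ∧
      ∀ y, ap c' y - y ∈ f.sub S ⊔ B.P := by
    rcases hδ with e | e
    · exact ⟨c, hcM, hc1, hcc, hmono, hcz, fun i hi => by rw [hcol i hi, e, one_smul], hcy⟩
    · refine ⟨c * f.flip S, M.mul_mem hcM hzM, fun h => hcS ?_, ?_, Mono.mul f hmono (f.mono_flip S), ?_,
        fun i hi => ?_, fun y => ?_⟩
      · rw [mul_eq_one_iff_eq_inv.1 h, inv_eq_of_mul_eq_one_right (f.flip_mul_self S)]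
      · rw [← mul_assoc, mul_assoc c, ← hcz, ← mul_assoc, hcc, one_mul, flip_mul_self]
      · conv_rhs => rw [← mul_assoc, ← hcz]
      · rw [ap_mul, flip_b, if_pos hi, map_smul, hcol i hi, e, smul_smul, neg_one_mul, neg_neg, one_smul]
      · have h1 : ap (f.flip S) y - y ∈ f.sub S := fun l hl => by
          rw [map_sub, Pi.sub_apply, co_flip, if_neg hl, sub_self]
        have e' : ap (c * f.flip S) y - y = (ap c (ap (f.flip S) y) - ap (f.flip S) y) + (ap (f.flip S) y - y) := by
          rw [ap_mul]; abel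
        rw [e']
        exact Submodule.add_mem _ (hcy _) (Submodule.mem_sup_left h1)
  obtain ⟨i₀, hi₀⟩ : ∃ i, ap c' (f.b i) - f.b i ≠ 0 := by
    by_contra h
    push Not at h
    exact hc'1 (f.ext_b fun i => by rw [ap_one, ← sub_eq_zero, h])
  have hi₀S : i₀ ∉ S := fun h => hi₀ (by rw [hc'S i₀ h, sub_self])
  obtain ⟨hS₀, j₀, x', hx', hsupp', hco'⟩ := B.col_support hH hc'm hc'z hc'y hi₀S
  obtain ⟨e, he⟩ : ∃ e, e = ap c' (f.b i₀) - f.b i₀ := ⟨_, rfl⟩
  rw [← he] at hS₀ hco' hi₀
  have hx'0 : x' ≠ 0 := fun h => hi₀ (f.co_ext fun l => by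
    rw [map_zero, Pi.zero_apply]
    by_cases hl : l ∈ S
    · exact hS₀ l hl
    · rw [hco' l hl, h, map_zero, Pi.zero_apply])
  refine false_of_line hM hMΩ hc'M (e := e) ?_ ?_ fun i => ?_
  · obtain ⟨π', d', hd', hπ'⟩ := hc'm.exists_perm f
    have hq : Q e = f.c * (d' i₀ * d' i₀) + f.c - 2 * f.c * d' i₀ * (if π' i₀ = i₀ then 1 else 0) := by
      rw [he, hπ', sub_eq_add_neg, QuadraticMap.map_add (⇑Q), QuadraticMap.map_smul, QuadraticMap.map_neg, f.quad,
        f.quad, QuadraticMap.polar_neg_right, QuadraticMap.polar_smul_left, f.polar_b, smul_eq_mul, smul_eq_mul]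
      split_ifs <;> ring
    have hsq : d' i₀ * d' i₀ = 1 := by rcases hd' i₀ with h | h <;> rw [h] <;> ring
    rw [hq, hsq]
    split_ifs with hfix
    · rcases hd' i₀ with h | h
      · exfalso
        apply hi₀
        rw [he, hπ', hfix, h, one_smul, sub_self]
      · rw [h]
        have : f.c * 1 + f.c - 2 * f.c * -1 * 1 = (2 * f.c) * 2 := by ring
        rw [this]
        exact mul_ne_zero f.two_c f.two
    · rw [mul_zero, sub_zero, mul_one, ← two_mul]
      exact f.two_c
  · rw [he, map_sub, ← ap_mul, hc'c, ap_one, neg_sub]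
  · by_cases hiS : i ∈ S
    · exact ⟨0, by rw [hc'S i hiS, zero_smul, add_zero]⟩
    obtain ⟨hSi, j, x, hx, hsupp, hco⟩ := B.col_support hH hc'm hc'z hc'y hiS
    obtain ⟨t, ht⟩ : ∃ t : F, x = t • x' := by
      by_contra h
      push Not at h
      obtain ⟨k, -, hk⟩ := Finset.exists_mem_notMem_of_card_lt_card
        (s := insert i (insert j (insert i₀ (insert j₀ S)))) (t := Finset.univ) (by
          rw [Finset.card_univ, Fintype.card_fin]
          have := Finset.card_insert_le i (insert j (insert i₀ (insert j₀ S)))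
          have := Finset.card_insert_le j (insert i₀ (insert j₀ S))
          have := Finset.card_insert_le i₀ (insert j₀ S)
          have := Finset.card_insert_le j₀ S
          omega)
      simp only [Finset.mem_insert, not_or] at hk
      obtain ⟨y, hy, hyk⟩ := B.exists_co_ne hH k
      obtain ⟨a, b, rfl⟩ := B.exists_coeffs₂ hx hx' hx'0 h hy
      refine hyk ?_
      have h1 : f.co x k = 0 := f.notMem_supp.1 fun h' => by
        have := hsupp h'; simp [hk.1, hk.2.1, hk.2.2.2.2] at this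
      have h2 : f.co x' k = 0 := f.notMem_supp.1 fun h' => by
        have := hsupp' h'; simp [hk.2.2.1, hk.2.2.2.1, hk.2.2.2.2] at this
      simp [h1, h2]
    refine ⟨t, ?_⟩
    rw [← sub_eq_iff_eq_add']
    refine f.co_ext fun l => ?_
    rw [map_smul, Pi.smul_apply]
    by_cases hl : l ∈ S
    · rw [hSi l hl, hS₀ l hl, smul_zero]
    · rw [hco l hl, hco' l hl, ht, map_smul, Pi.smul_apply]

/-- Otherwise three pairwise independent coordinates give a contradiction. -/
theorem false_of_large (hlarge : ∀ x ∈ B.P, x ≠ 0 → n ≤ (f.supp x).card + 3) : False := by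
  classical
  -- coordinates depending on a given one are at most three
  obtain ⟨C, hC⟩ : ∃ C : Fin n → Finset (Fin n),
      C = fun i => Finset.univ.filter fun l => ∀ x ∈ B.P, f.co x i = 0 → f.co x l = 0 := ⟨_, rfl⟩
  have memC : ∀ {i l}, l ∈ C i ↔ ∀ x ∈ B.P, f.co x i = 0 → f.co x l = 0 := fun {i l} => by simp [hC]
  have hCcard : ∀ i, (C i).card ≤ 3 := by
    intro i
    obtain ⟨u, hu, hui⟩ := B.exists_co_ne hH i
    obtain ⟨v, hv, hv0, hvi⟩ : ∃ v ∈ B.P, v ≠ 0 ∧ f.co v i = 0 := by
      obtain ⟨r, hr, hr0⟩ := (LinearMap.ker ((LinearMap.proj i ∘ₗ f.co) ∘ₗ B.P.subtype)).ne_bot_iff.1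
        (LinearMap.ker_ne_bot_of_finrank_lt (by rw [B.finrank_P, Module.finrank_self]; norm_num))
      exact ⟨r, r.2, fun h => hr0 (Subtype.ext h), LinearMap.mem_ker.1 hr⟩
    have hsub : C i ⊆ (f.supp v)ᶜ := fun l hl => Finset.mem_compl.2 (f.notMem_supp.2 (memC.1 hl v hv hvi))
    have := Finset.card_le_card hsub
    rw [Finset.card_compl, Fintype.card_fin] at this
    have := hlarge v hv hv0
    have := Finset.card_le_univ (f.supp v)
    omega
  obtain ⟨i, -⟩ : ∃ i : Fin n, True := ⟨⟨0, by omega⟩, trivial⟩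
  obtain ⟨j, -, hj⟩ := Finset.exists_mem_notMem_of_card_lt_card (s := C i) (t := Finset.univ) (by
    rw [Finset.card_univ, Fintype.card_fin]; have := hCcard i; omega)
  obtain ⟨k, -, hk⟩ := Finset.exists_mem_notMem_of_card_lt_card (s := C i ∪ C j) (t := Finset.univ) (by
    rw [Finset.card_univ, Fintype.card_fin]
    have := hCcard i; have := hCcard j; have := Finset.card_union_le (C i) (C j); omega)
  rw [Finset.mem_union, not_or] at hk
  have hself : ∀ a, a ∈ C a := fun a => memC.2 fun x _ h => h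
  have hij : i ≠ j := fun h => hj (by rw [← h]; exact hself i)
  have hik : i ≠ k := fun h => hk.1 (by rw [← h]; exact hself i)
  have hjk : j ≠ k := fun h => hk.2 (by rw [← h]; exact hself j)
  obtain ⟨l, -, hl⟩ := Finset.exists_mem_notMem_of_card_lt_card (s := ({i, j, k} : Finset (Fin n)))
    (t := Finset.univ) (lt_of_le_of_lt Finset.card_le_three (by rw [Finset.card_univ, Fintype.card_fin]; omega))
  simp only [Finset.mem_insert, Finset.mem_singleton, not_or] at hl
  obtain ⟨S, hSdef⟩ : ∃ S : Finset (Fin n), S = {i, j, k, l} := ⟨_, rfl⟩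
  have hS : S.card = 4 := by
    rw [hSdef, Finset.card_insert_of_notMem (by simp [hij, hik, Ne.symm hl.1]),
      Finset.card_insert_of_notMem (by simp [hjk, Ne.symm hl.2.1]), Finset.card_pair (Ne.symm hl.2.2)]
  obtain ⟨c, hcM, δ, hc1, -, hcc, hmono, hcz, -, hcy, hcP, -⟩ := B.exists_c hM hH hn hS
  obtain ⟨π, d, hd, hπ⟩ := hmono.exists_perm f
  have hd0 : ∀ q, d q ≠ 0 := fun q => by rcases hd q with e | e <;> simp [e]
  have hsmall : ∀ x ∈ B.P, (f.supp x).card ≤ 6 → x = 0 := fun x hx h => by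
    by_contra h'
    have := hlarge x hx h'
    omega
  have hout : ∀ q, q ∉ S → ap c (f.b q) = f.b q := by
    intro q hq
    obtain ⟨hSq, j', x, hx, hsupp, hco⟩ := B.col_support hH hmono hcz hcy hq
    have hx0 := hsmall x hx (by
      have := Finset.card_le_card hsupp
      have := Finset.card_insert_le q (insert j' S)
      have := Finset.card_insert_le j' S
      omega)
    rw [← sub_eq_zero]
    refine f.co_ext fun m => ?_
    rw [map_zero, Pi.zero_apply]
    by_cases hm : m ∈ S
    · exact hSq m hm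
    · rw [hco m hm, hx0, map_zero, Pi.zero_apply]
  have hin : ∀ q ∈ S, π q ∈ S := fun q hq => by
    by_contra h
    have h1 := hπ q
    have h2 := hout _ h
    have h3 : ap c (ap c (f.b q)) = f.b q := by rw [← ap_mul, hcc, ap_one]
    rw [h1, map_smul, h2] at h3
    have h4 := congrArg (fun v => f.co v (π q)) h3
    simp [f.co_b] at h4
    rw [if_neg fun e : π q = q => h (e.symm ▸ hq)] at h4
    exact hd0 q h4
  have hrel : ∀ x ∈ B.P, ∀ q, f.co x (π q) = d q * f.co x q := by
    intro x hx q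
    have h0 : ap c x - x = 0 := by
      refine hsmall _ (Submodule.sub_mem _ (hcP x hx) hx) ?_
      have hsub : f.supp (ap c x - x) ⊆ S := fun m hm => by
        by_contra h
        apply f.mem_supp.1 hm
        have h1 := f.co_mono hπ x m
        have h2 : π m = m ∧ d m = 1 := by
          have h3 := congrArg (fun v => f.co v (π m)) ((hπ m).symm.trans (hout m h))
          simp only [map_smul, Pi.smul_apply, f.co_b, if_true, smul_eq_mul, mul_one] at h3
          by_cases e : π m = m
          · exact ⟨e, by rwa [if_pos e] at h3⟩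
          · rw [if_neg e] at h3; exact absurd h3 (hd0 m)
        rw [h2.1, h2.2, one_mul] at h1
        rw [map_sub, Pi.sub_apply, h1, sub_self]
      have := Finset.card_le_card hsub
      omega
    rw [← f.co_mono hπ x q, sub_eq_zero.1 h0]
  have hback : ∀ q m, π q = m → q ∈ C m := fun q m e => memC.2 fun x hx hx0 => by
    have h1 := hrel x hx q
    rw [e, hx0] at h1
    exact (mul_eq_zero.1 h1.symm).resolve_left (hd0 q)
  have hfwd : ∀ q m, π q = m → m ∈ C q := fun q m e => memC.2 fun x hx hx0 => by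
    rw [← e, hrel x hx q, hx0, mul_zero]
  have hS' : ∀ q, q ∈ S ↔ q = i ∨ q = j ∨ q = k ∨ q = l := fun q => by simp [hSdef]
  have hi' : π i = i ∨ π i = l := by
    rcases (hS' _).1 (hin i ((hS' i).2 (Or.inl rfl))) with e | e | e | e
    · exact Or.inl e
    · exact absurd (hfwd i j e) hj
    · exact absurd (hfwd i k e) hk.1
    · exact Or.inr e
  have hj' : π j = j ∨ π j = l := by
    rcases (hS' _).1 (hin j ((hS' j).2 (Or.inr (Or.inl rfl)))) with e | e | e | e
    · exact absurd (hback j i e) hj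
    · exact Or.inl e
    · exact absurd (hfwd j k e) hk.2
    · exact Or.inr e
  have hk' : π k = k ∨ π k = l := by
    rcases (hS' _).1 (hin k ((hS' k).2 (Or.inr (Or.inr (Or.inl rfl))))) with e | e | e | e
    · exact absurd (hback k i e) hk.1
    · exact absurd (hback k j e) hk.2
    · exact Or.inl e
    · exact Or.inr e
  have hfix : ∀ q, π q = q → ap c (f.b q) = f.b q := by
    intro q e
    obtain ⟨x, hx, hxq⟩ := B.exists_co_ne hH q
    have h1 := hrel x hx q
    rw [e] at h1
    have hd1 : d q = 1 := mul_right_cancel₀ hxq (h1.symm.trans (one_mul _).symm)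
    rw [hπ, e, hd1, one_smul]
  -- the moved coordinate
  obtain ⟨q, hql, hqπ, hothers⟩ : ∃ q, q ≠ l ∧ π q = l ∧ ∀ m, m ≠ q → m ≠ l → ap c (f.b m) = f.b m := by
    have hmove : ∀ q, π q = l → ∀ m, m ≠ q → π m ≠ l := fun q hq m hm e => hm (π.injective (e.trans hq.symm))
    by_cases e1 : π i = l
    · refine ⟨i, Ne.symm hl.1, e1, fun m h1 h2 => ?_⟩
      by_cases hm : m ∈ S
      · rcases (hS' m).1 hm with rfl | rfl | rfl | rfl
        · exact absurd rfl h1
        · exact hfix _ (hj'.resolve_right (hmove i e1 _ h1))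
        · exact hfix _ (hk'.resolve_right (hmove i e1 _ h1))
        · exact absurd rfl h2
      · exact hout m hm
    by_cases e2 : π j = l
    · refine ⟨j, Ne.symm hl.2.1, e2, fun m h1 h2 => ?_⟩
      by_cases hm : m ∈ S
      · rcases (hS' m).1 hm with rfl | rfl | rfl | rfl
        · exact hfix _ (hi'.resolve_right e1)
        · exact absurd rfl h1
        · exact hfix _ (hk'.resolve_right (hmove j e2 _ h1))
        · exact absurd rfl h2
      · exact hout m hm
    by_cases e3 : π k = l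
    · refine ⟨k, Ne.symm hl.2.2, e3, fun m h1 h2 => ?_⟩
      by_cases hm : m ∈ S
      · rcases (hS' m).1 hm with rfl | rfl | rfl | rfl
        · exact hfix _ (hi'.resolve_right e1)
        · exact hfix _ (hj'.resolve_right e2)
        · exact absurd rfl h1
        · exact absurd rfl h2
      · exact hout m hm
    exfalso
    have h1 := hi'.resolve_right e1
    have h2 := hj'.resolve_right e2
    have h3 := hk'.resolve_right e3
    have h4 : π l = l := by
      rcases (hS' _).1 (hin l ((hS' l).2 (Or.inr (Or.inr (Or.inr rfl))))) with e | e | e | e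
      · exact absurd (π.injective (e.trans h1.symm)) hl.1
      · exact absurd (π.injective (e.trans h2.symm)) hl.2.1
      · exact absurd (π.injective (e.trans h3.symm)) hl.2.2
      · exact e
    refine hc1 (f.ext_b fun m => ?_)
    rw [ap_one]
    by_cases hm : m ∈ S
    · rcases (hS' m).1 hm with rfl | rfl | rfl | rfl <;> exact hfix _ (by assumption)
    · exact hout m hm
  have hcq : ap c (f.b q) = d q • f.b l := by rw [hπ, hqπ]
  refine false_of_line hM hMΩ hcM (e := d q • f.b l - f.b q) ?_ ?_ fun m => ?_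
  · have : Q (d q • f.b l - f.b q) = 2 * f.c := by
      rw [sub_eq_add_neg, QuadraticMap.map_add (⇑Q), QuadraticMap.map_smul, QuadraticMap.map_neg, f.quad, f.quad,
        QuadraticMap.polar_neg_right, QuadraticMap.polar_smul_left, f.orth l q hql.symm, smul_eq_mul, smul_zero,
        neg_zero, add_zero]
      rcases hd q with e | e <;> rw [e] <;> ring
    rw [this]
    exact f.two_c
  · rw [map_sub, ← hcq, ← ap_mul, hcc, ap_one, neg_sub]
  · rcases eq_or_ne m q with rfl | hmq
    · exact ⟨1, by rw [hcq, one_smul, add_sub_cancel]⟩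
    rcases eq_or_ne m l with rfl | hml
    · refine ⟨-(d q), ?_⟩
      have h1 : ap c (ap c (f.b q)) = f.b q := by rw [← ap_mul, hcc, ap_one]
      rw [hcq, map_smul] at h1
      have hdd : d q * d q = 1 := by rcases hd q with e | e <;> rw [e] <;> ring
      have h2 : ap c (f.b m) = d q • f.b q := by
        conv_rhs => rw [← h1, smul_smul, hdd, one_smul]
      rw [h2, smul_sub, smul_smul, neg_mul, hdd]
      module
    · exact ⟨0, by rw [hothers m hmq hml, zero_smul, add_zero]⟩

include B in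
/-- There is no bad plane. -/
theorem elim : False := by
  classical
  by_cases h : ∃ x ∈ B.P, x ≠ 0 ∧ (f.supp x).card + 4 ≤ n
  · obtain ⟨x, hx, hx0, hc⟩ := h
    obtain ⟨S, hSsub, hS⟩ := Finset.exists_subset_card_eq (s := (f.supp x)ᶜ) (n := 4) (by
      rw [Finset.card_compl, Fintype.card_fin]; omega)
    exact B.false_of_zeros hM hH hMΩ hn hS hx hx0 fun l hl => f.notMem_supp.1 (Finset.mem_compl.1 (hSsub hl))
  · push Not at h
    exact B.false_of_large hM hH hMΩ hn fun x hx hx0 => by have := h x hx hx0; omega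

end BadPlane

/-- A subgroup of `Ω` with the monomial elements and one more contains all of `Ω`. -/
theorem omega_le_of_nonmono (hM : f.HasMono M) (hp : (Fintype.card F).Prime) (hMΩ : M ≤ Cfsg.Omega F ⇑Q)
    (hn : 10 ≤ n) {x : Isom Q} (hx : x ∈ M) (hnm : ¬f.Mono x) : Cfsg.Omega F ⇑Q ≤ M := by
  by_cases hH : f.NoCol M
  · exfalso
    obtain ⟨e, d, hed, hbad⟩ := exists_bad_conj hM hH hn hx hnm
    exact BadPlane.elim ⟨x, e, d, hed, M.mul_mem (M.mul_mem hx (flip_mem hM (by rw [Finset.card_pair hed]; decide)))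
      (M.inv_mem hx), hbad⟩ hM hH hMΩ hn
  · unfold NoCol at hH
    push Not at hH
    obtain ⟨y, hy, i, j, a, hcol, hynm⟩ := hH
    exact omega_le_of_col hM hp hMΩ hn hy hcol hynm

end Frame

end CfsgLib.OrthMono
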