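import Cfsg.Agent.OrthMono.MaximalOdd

/-!
# Stabilisers of orthogonal frames in odd dimension five or more over prime fields

In odd dimension the negatives of the reflections in the frame vectors are monomial elements of `Ω`, so every
element of `M` sends `RR M` into itself, and a column off the frame is a vector of `RR M` of support two or more.
-/

set_option autoImplicit false
set_option linter.unusedSectionVars false

namespace CfsgLib.OrthMono

open Matrix Module CfsgLib.Spinor CfsgLib.Forms CfsgLib.OrthMax Cfsg.Geo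

variable {F : Type*} [Field F] [Fintype F] {ι : Type} [Fintype ι] [DecidableEq ι] {Q : QuadraticForm F (ι → F)}

namespace Frame

variable {n : ℕ} {f : Frame Q n} {M : Subgroup (Isom Q)}

/-- In odd dimension the columns of an element of `M` lie in `RR M`. -/
theorem col_mem_RR_of_odd (hM : f.HasMono M) (hnodd : Odd n) {x : Isom Q} (hx : x ∈ M) (i : Fin n) :
    ap x (f.b i) ∈ f.RR M := by
  classical
  obtain ⟨N, hN⟩ : ∃ N, N = f.flip (Finset.univ : Finset (Fin n)) := ⟨_, rfl⟩
  obtain ⟨Z, hZ⟩ : ∃ Z : Fin n → Isom Q, Z = fun k => f.flip ((Finset.univ : Finset (Fin n)).erase k) := ⟨_, rfl⟩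
  have hZM : ∀ k, Z k ∈ M := fun k => hZ ▸ flip_mem hM (by
    rw [Finset.card_erase_of_mem (Finset.mem_univ k), Finset.card_univ, Fintype.card_fin]
    obtain ⟨r, hr⟩ := hnodd
    exact ⟨r, by omega⟩)
  have hrf : ∀ k, rf (f.b k) = N * Z k := fun k => by
    rw [← f.flip_singleton_eq, hN, hZ, flip_mul]
    congr 1
    ext z
    simp [Finset.mem_symmDiff]
  have hcomm : ∀ g, Commute N g := fun g => hN ▸ f.commute_flip_univ g
  refine hM.mem_RR (by rw [quad_ap, f.quad]) (j := i) ?_
  have e : rf (ap x (f.b i)) * rf (f.b i) = x * Z i * x⁻¹ * Z i := by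
    rw [← conj_rf]
    conv_lhs => rw [hrf i]
    calc x * (N * Z i) * x⁻¹ * (N * Z i) = (x * N) * (Z i * x⁻¹) * (N * Z i) := by group
      _ = N * (x * Z i * x⁻¹) * N * Z i := by rw [← (hcomm x).eq]; group
      _ = (N * N) * (x * Z i * x⁻¹) * Z i := by
        rw [mul_assoc N (x * Z i * x⁻¹) N, ← (hcomm (x * Z i * x⁻¹)).eq, ← mul_assoc]
      _ = _ := by rw [hN, flip_mul_self, one_mul]
  rw [e]
  exact M.mul_mem (M.mul_mem (M.mul_mem hx (hZM i)) (M.inv_mem hx)) (hZM i)

/-- In odd dimension `M` preserves `RR M`. -/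
theorem ap_mem_RR_of_odd (hM : f.HasMono M) (hnodd : Odd n) {x : Isom Q} (hx : x ∈ M) {u : ι → F}
    (hu : u ∈ f.RR M) : ap x u ∈ f.RR M := by
  obtain ⟨i, -⟩ := f.supp_nonempty hu.1
  refine hM.mem_RR (by rw [quad_ap, hu.1]) (j := i) ?_
  have h1 : rf (ap x u) * rf (ap x (f.b i)) = x * (rf u * rf (f.b i)) * x⁻¹ := by
    rw [← conj_rf, ← conj_rf]; group
  have h2 := M.mul_mem (h1 ▸ M.mul_mem (M.mul_mem hx (hu.2 i)) (M.inv_mem hx))
    ((col_mem_RR_of_odd hM hnodd hx i).2 i)
  rwa [mul_assoc, ← mul_assoc (rf (ap x (f.b i))), rf_mul_self, one_mul] at h2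

/-- A subgroup of `Ω` with the monomial elements and one more contains all of `Ω`, in odd dimension from five on. -/
theorem omega_le_of_nonmono_five (hM : f.HasMono M) (hp : (Fintype.card F).Prime) (hMΩ : M ≤ Cfsg.Omega F ⇑Q)
    (hnodd : Odd n) (hn : 5 ≤ n) {x : Isom Q} (hx : x ∈ M) (hnm : ¬f.Mono x) : Cfsg.Omega F ⇑Q ≤ M := by
  classical
  have fin : ∀ u ∈ f.RR M, 2 ≤ (f.supp u).card → ((f.supp u).card = 2 → ∃ l ∈ f.supp u, 2 * f.co u l ^ 2 ≠ 1) →
      Cfsg.Omega F ⇑Q ≤ M := fun u hu h2 hg => by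
    obtain ⟨v, hv, hcase⟩ := Seven.exists_small_good hM hn hp hu h2 hg
    exact Seven.omega_le_of_small hM hp hMΩ hn hv hcase
  obtain ⟨k, hk⟩ : ∃ k, ∀ j, ∀ a : F, ap x (f.b k) ≠ a • f.b j := by
    by_contra h
    push Not at h
    exact hnm h
  obtain ⟨V, hV⟩ : ∃ V : Fin n → Finset (Fin n), V = fun l => f.supp (ap x (f.b l)) := ⟨_, rfl⟩
  have hQ : ∀ l, Q (ap x (f.b l)) = f.c := fun l => by rw [quad_ap, f.quad]
  have hk2 : 2 ≤ (V k).card := by
    by_contra h
    simp only [hV] at h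
    obtain ⟨j', a', e⟩ := f.coord_of_card_le (hQ k) (by omega)
    exact hk j' a' e
  have hkR := col_mem_RR_of_odd hM hnodd hx k
  by_cases hall : ∀ l, (V l).card ≤ 1 ∨ ((V l).card = 2 ∧ ∀ m ∈ V l, 2 * f.co (ap x (f.b l)) m ^ 2 = 1)
  swap
  · push Not at hall
    obtain ⟨l, h2, hl⟩ := hall
    simp only [hV] at h2 hl
    exact fin _ (col_mem_RR_of_odd hM hnodd hx l) (by omega) hl
  -- all columns are coordinates or half sums
  obtain ⟨hc2, hsq⟩ := (hall k).resolve_left (by omega)
  obtain ⟨m, hm⟩ := Finset.card_pos.1 (by omega : 0 < (V k).card)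
  obtain ⟨l, hlk, hl⟩ : ∃ l, l ≠ k ∧ V l ≠ V k := by
    by_contra hno
    push Not at hno
    -- at most two orthogonal vectors in a coordinate plane
    have hle : (f.sub (Finset.univ : Finset (Fin n))).map (ap x) ≤ f.sub (V k) := by
      rintro _ ⟨y, -, rfl⟩
      rw [← f.vec_co y, f.vec_apply, map_sum]
      refine Submodule.sum_mem _ fun a _ => ?_
      rw [map_smul]
      refine Submodule.smul_mem _ _ fun q hq => ?_
      rcases eq_or_ne a k with rfl | ha
      · rw [hV] at hq; exact f.notMem_supp.1 hq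
      · rw [← hno a ha, hV] at hq; exact f.notMem_supp.1 hq
    have h := Submodule.finrank_mono hle
    rw [(Submodule.equivMapOfInjective _ (ap_injective x) _).finrank_eq.symm, f.finrank_sub, f.finrank_sub,
      Finset.card_univ, Fintype.card_fin] at h
    omega
  have horth : f.dot (ap x (f.b k)) (ap x (f.b l)) = 0 := by
    have h1 := polar_ap x (f.b k) (f.b l)
    rw [f.orth k l (Ne.symm hlk), f.polar_eq] at h1
    exact (mul_eq_zero.1 h1).resolve_left f.two_c
  have hl1 : 1 ≤ (V l).card := by rw [hV]; exact Finset.card_pos.2 (f.supp_nonempty (hQ l))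
  have hdisj : Disjoint (V k) (V l) := by
    rw [Finset.disjoint_left]
    intro q hqk hql
    have hone : V k ∩ V l = {q} := by
      refine (Finset.eq_of_subset_of_card_le (by simp [hqk, hql]) ?_).symm
      rw [Finset.card_singleton]
      by_contra h
      have h2 : 2 ≤ (V k ∩ V l).card := by omega
      have e1 := Finset.eq_of_subset_of_card_le (Finset.inter_subset_left (s₁ := V k) (s₂ := V l)) (by omega)
      have e2 := Finset.eq_of_subset_of_card_le (Finset.inter_subset_right (s₁ := V k) (s₂ := V l)) (by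
        rcases hall l with h' | h' <;> omega)
      exact hl (e2.symm.trans e1)
    rw [Frame.dot, Finset.sum_eq_single q (fun y _ hy => ?_) (fun h => absurd (Finset.mem_univ q) h)] at horth
    · rw [hV] at hqk hql
      exact mul_ne_zero (f.mem_supp.1 hqk) (f.mem_supp.1 hql) horth
    · by_contra h
      have h' := mul_ne_zero_iff.1 h
      rw [← f.mem_supp, ← f.mem_supp, ← Finset.mem_inter] at h'
      rw [hV] at hone
      rw [hone, Finset.mem_singleton] at h'
      exact hy h'
  obtain ⟨t, ht⟩ : ∃ t, t = f.co (ap x (f.b k)) m := ⟨_, rfl⟩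
  have ht0 : t ≠ 0 := by rw [hV] at hm; exact ht ▸ f.mem_supp.1 hm
  have hwR : t • (f.b k + f.b l) ∈ f.RR M := swap_mem_RR hM (Ne.symm hlk) (ht ▸ hsq m hm)
  have hsupp : f.supp (ap x (t • (f.b k + f.b l))) = V k ∪ V l := by
    ext z
    rw [f.mem_supp, map_smul, map_add, map_smul, map_add, Pi.smul_apply, Pi.add_apply, Finset.mem_union,
      smul_eq_mul, mul_ne_zero_iff, hV]
    by_cases hz : z ∈ V k
    · have hz' := Finset.disjoint_left.1 hdisj hz
      rw [hV] at hz hz'
      rw [f.notMem_supp.1 hz', add_zero]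
      exact ⟨fun h => Or.inl hz, fun _ => ⟨ht0, f.mem_supp.1 hz⟩⟩
    · rw [hV] at hz
      rw [f.notMem_supp.1 hz, zero_add, ← f.mem_supp]
      exact ⟨fun h => Or.inr h.2, fun h => ⟨ht0, h.resolve_left hz⟩⟩
  have h3 : 3 ≤ (f.supp (ap x (t • (f.b k + f.b l)))).card := by
    rw [hsupp, Finset.card_union_of_disjoint hdisj]
    omega
  exact fin _ (ap_mem_RR_of_odd hM hnodd hx hwR) (by omega) (fun h => absurd h (by omega))

end Frame

variable {t : ℕ} {D : Fin t → Submodule F (ι → F)}

/-- The stabiliser of a frame in odd dimension five or more is maximal. -/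
theorem isMaximalIn_frame_five (h : DSys Q 1 D) (hnodd : Odd (Fintype.card ι)) (hn : 5 ≤ Fintype.card ι)
    (ht : t = Fintype.card ι) (hp : (Fintype.card F).Prime) (h2 : (2 : F) ≠ 0) :
    IsMaximalIn (omegaGL ⇑Q) (decompositionStabilizer D ⊓ omegaGL ⇑Q) := by
  obtain ⟨f, hf⟩ := exists_frame h h2
  refine isMaximalIn_omega _ ?_ fun M hM g hgM hgΩ hgS => ?_
  · obtain ⟨i⟩ : Nonempty (Fin t) := ⟨⟨0, by omega⟩⟩
    refine exists_move_decomp h.nondeg (by omega) h.orth (h.nd i) (fun e => ?_) ?_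
    · have := h.dim i
      rw [e, finrank_bot] at this
      omega
    · rw [finrank_qperp h.nondeg, h.dim]
      omega
  · refine le_trans (Frame.omega_le_of_nonmono_five (f := f) (M := M ⊓ Cfsg.Omega F ⇑Q) ?_ hp inf_le_right
      (ht ▸ hnodd) (by omega) (x := g) ⟨hgM, hgΩ⟩ fun hm => hgS ((f.mem_stab_iff hf g).2 hm)) inf_le_left
    exact fun k hk hkm => ⟨hM k hk ((f.mem_stab_iff hf k).2 hkm), hk⟩

end CfsgLib.OrthMono
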