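import Cfsg.Agent.OrthMono.TernaryOmega
import Cfsg.Agent.AbelianPerm.Basic

/-!
# Sign changes and their conjugates

`flip U` negates the frame vectors in `U`; `exists_flip_image`: if an element conjugates the sign changes
inside `T` to monomial elements on `T`, then some of them other than that of `T` to a sign change.
-/

set_option autoImplicit false
set_option linter.unusedSectionVars false

namespace CfsgLib.OrthMono

open Matrix Module CfsgLib.Spinor CfsgLib.Forms CfsgLib.OrthMax

variable {F : Type*} [Field F] [Fintype F] {ι : Type} [Fintype ι] [DecidableEq ι] {Q : QuadraticForm F (ι → F)}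

theorem two_mul_maxProd_lt : ∀ m : ℕ, 5 ≤ m → 2 * AbelianPerm.maxProd m < 2 ^ (m - 1) := by
  intro m
  induction m using Nat.strong_induction_on with
  | _ m ih =>
    intro hm
    rcases Nat.lt_or_ge m 8 with h | h
    · interval_cases m <;> decide
    · obtain ⟨k, rfl⟩ : ∃ k, m = k + 3 := ⟨m - 3, by omega⟩
      have h1 := ih k (by omega) (by omega)
      have h2 : 2 ^ (k + 3 - 1) = 8 * 2 ^ (k - 1) := by
        rw [show k + 3 - 1 = 3 + (k - 1) by omega, pow_add]; norm_num
      rw [AbelianPerm.maxProd_add_three (by omega : 2 ≤ k), h2]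
      omega

theorem even_card_symmDiff {α : Type*} [DecidableEq α] {s t : Finset α} :
    Even (symmDiff s t).card ↔ (Even s.card ↔ Even t.card) := by
  have h1 : (symmDiff s t).card + 2 * (s ∩ t).card = s.card + t.card := by
    rw [symmDiff_def, Finset.sup_eq_union, Finset.card_union_of_disjoint disjoint_sdiff_sdiff]
    have := Finset.card_sdiff_add_card_inter s t
    have := Finset.card_sdiff_add_card_inter t s
    rw [Finset.inter_comm t s] at this
    omega
  simp only [Nat.even_iff]
  omega

namespace Frame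

variable {n : ℕ} (f : Frame Q n)

/-- The sign change on a set of frame vectors. -/
noncomputable def flip (U : Finset (Fin n)) : Isom Q :=
  f.monIso 1 (fun i => if i ∈ U then -1 else 1) fun i => by split_ifs <;> simp

theorem flip_b (U : Finset (Fin n)) (i : Fin n) :
    ap (f.flip U) (f.b i) = (if i ∈ U then -1 else 1 : F) • f.b i := by
  rw [flip, monIso_b, Equiv.Perm.one_apply]

theorem co_flip (U : Finset (Fin n)) (x : ι → F) (i : Fin n) :
    f.co (ap (f.flip U) x) i = if i ∈ U then -f.co x i else f.co x i := by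
  have h := f.co_mono (π := 1) (d := fun i => if i ∈ U then (-1 : F) else 1)
    (g := f.flip U) (fun i => f.flip_b U i) x i
  rw [Equiv.Perm.one_apply] at h
  rw [h]
  split_ifs <;> simp

theorem mono_flip (U : Finset (Fin n)) : f.Mono (f.flip U) := fun i => ⟨i, _, f.flip_b U i⟩

theorem flip_mul (U V : Finset (Fin n)) : f.flip U * f.flip V = f.flip (symmDiff U V) := f.ext_b fun i => by
  rw [ap_mul, flip_b, map_smul, flip_b, flip_b, smul_smul]
  congr 1
  simp only [Finset.mem_symmDiff]
  by_cases h1 : i ∈ U <;> by_cases h2 : i ∈ V <;> simp [h1, h2]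

theorem flip_empty : f.flip ∅ = 1 := f.ext_b fun i => by simp [flip_b, ap_one]

theorem flip_mul_self (U : Finset (Fin n)) : f.flip U * f.flip U = 1 := by
  rw [flip_mul, symmDiff_self, Finset.bot_eq_empty, flip_empty]

theorem flip_inj {U V : Finset (Fin n)} (h : f.flip U = f.flip V) : U = V := by
  ext i
  have h1 := congrArg (fun g => f.co (ap g (f.b i)) i) h
  simp only [co_flip, co_b, if_true] at h1
  by_cases hU : i ∈ U <;> by_cases hV : i ∈ V <;> simp [hU, hV] at h1 ⊢
  · exact f.two (by linear_combination -h1)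
  · exact f.two (by linear_combination h1)

theorem flip_pair {a d : Fin n} (h : a ≠ d) : f.flip {a, d} = rf (f.b a) * rf (f.b d) := f.ext_b fun i => by
  rw [flip_b, ap_mul, rf_b_b]
  by_cases h1 : d = i
  · subst h1; simp [h, rf_b_b, map_neg]
  by_cases h2 : a = i
  · subst h2; simp [h1, rf_b_b]
  simp [h1, h2, rf_b_b, Ne.symm h1, Ne.symm h2]

theorem mem_sub_iff_flip {U : Finset (Fin n)} {x : ι → F} : x ∈ f.sub U ↔ ap (f.flip U) x = -x := by
  constructor
  · intro h
    refine f.co_ext fun i => ?_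
    rw [co_flip, map_neg, Pi.neg_apply]
    split_ifs with hi
    · rfl
    · rw [h i hi, neg_zero]
  · intro h i hi
    have h1 := congrArg (fun v => f.co v i) h
    simp only [co_flip, if_neg hi, map_neg, Pi.neg_apply] at h1
    exact (mul_eq_zero.1 (by linear_combination h1 : (2 : F) * f.co x i = 0)).resolve_left f.two

theorem card_eq_of_conj {g : Isom Q} {U V : Finset (Fin n)} (h : g * f.flip U * g⁻¹ = f.flip V) :
    U.card = V.card := by
  have hm : (f.sub U).map (ap g) = f.sub V := by
    ext x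
    rw [Submodule.mem_map]
    constructor
    · rintro ⟨y, hy, rfl⟩
      rw [f.mem_sub_iff_flip, ← h, ap_mul, ap_mul, ap_inv_ap, f.mem_sub_iff_flip.1 hy, map_neg]
    · intro hx
      refine ⟨ap g⁻¹ x, ?_, ap_ap_inv g x⟩
      have h1 := f.mem_sub_iff_flip.1 hx
      rw [← h, ap_mul, ap_mul] at h1
      rw [f.mem_sub_iff_flip, ← map_neg]
      conv_rhs => rw [← h1]
      rw [ap_inv_ap]
  rw [← f.finrank_sub U, ← f.finrank_sub V, ← hm]
  exact (Submodule.equivMapOfInjective _ (ap_injective g) _).finrank_eq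

/-- The permutation of a monomial element. -/
noncomputable def permOf (g : f.monoSub) : Equiv.Perm (Fin n) := (g.2.exists_perm f).choose

theorem permOf_spec (g : f.monoSub) :
    ∃ d : Fin n → F, (∀ i, d i = 1 ∨ d i = -1) ∧ ∀ i, ap (g : Isom Q) (f.b i) = d i • f.b (f.permOf g i) :=
  (g.2.exists_perm f).choose_spec

theorem permOf_eq (g : f.monoSub) {π : Equiv.Perm (Fin n)}
    (h : ∀ i, ∃ a : F, ap (g : Isom Q) (f.b i) = a • f.b (π i)) : f.permOf g = π := by
  obtain ⟨d, hd, hg⟩ := f.permOf_spec g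
  refine Equiv.ext fun i => ?_
  obtain ⟨a, ha⟩ := h i
  by_contra hne
  have h1 := congrArg (fun v => f.co v (f.permOf g i)) ((hg i).symm.trans ha)
  rcases hd i with e | e <;> simp [f.co_b, hne, e] at h1

/-- The permutation of a monomial element, as a homomorphism. -/
noncomputable def permOfHom : f.monoSub →* Equiv.Perm (Fin n) :=
  MonoidHom.mk' f.permOf fun g h => f.permOf_eq _ fun i => by
    obtain ⟨d, -, hg⟩ := f.permOf_spec g
    obtain ⟨e, -, hh⟩ := f.permOf_spec h
    exact ⟨e i * d (f.permOf h i), by rw [Subgroup.coe_mul, ap_mul, hh, map_smul, hg, smul_smul]; rfl⟩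

theorem exists_flip_of_perm (g : f.monoSub) (h : f.permOf g = 1) : ∃ V, (g : Isom Q) = f.flip V := by
  classical
  obtain ⟨d, hd, hg⟩ := f.permOf_spec g
  refine ⟨Finset.univ.filter fun i => d i = -1, f.ext_b fun i => ?_⟩
  rw [hg, h, Equiv.Perm.one_apply, flip_b]
  congr 1
  have hne : (1 : F) ≠ -1 := fun e => f.two (by linear_combination e)
  rcases hd i with e | e <;> simp [e, hne]

/-- Some sign change goes to a sign change. -/
theorem exists_flip_image {g : Isom Q} {T : Finset (Fin n)} (hT : 5 ≤ T.card)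
    (hmono : ∀ U ⊆ T, Even U.card → f.Mono (g * f.flip U * g⁻¹) ∧
      ∀ l, l ∉ T → ap (g * f.flip U * g⁻¹) (f.b l) = f.b l) :
    ∃ U ⊆ T, U.Nonempty ∧ U ≠ T ∧ Even U.card ∧ ∃ V, g * f.flip U * g⁻¹ = f.flip V := by
  classical
  let P : Finset (Finset (Fin n)) := T.powerset.filter fun U => Even U.card
  have hmem : ∀ U : {U // U ∈ P}, (U : Finset (Fin n)) ⊆ T ∧ Even (U : Finset (Fin n)).card := fun U => by
    exact ⟨Finset.mem_powerset.1 (Finset.mem_filter.1 U.2).1, (Finset.mem_filter.1 U.2).2⟩
  let el : {U // U ∈ P} → f.monoSub := fun U => ⟨g * f.flip U * g⁻¹, (hmono U (hmem U).1 (hmem U).2).1⟩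
  have hfix : ∀ U, ∀ x, x ∉ T → f.permOf (el U) x = x := by
    intro U x hx
    obtain ⟨d, hd, he⟩ := f.permOf_spec (el U)
    by_contra hne
    have h1 := congrArg (fun v => f.co v x) ((he x).symm.trans ((hmono U (hmem U).1 (hmem U).2).2 x hx))
    simp [f.co_b, Ne.symm hne] at h1
  have hmap : ∀ U x, x ∈ T ↔ f.permOf (el U) x ∈ T := by
    intro U x
    refine ⟨fun hx => ?_, fun hx => ?_⟩
    · by_contra h
      exact h (by rw [(Equiv.injective (f.permOf (el U))) (hfix U _ h)]; exact hx)
    · by_contra h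
      exact h (hfix U x h ▸ hx)
  let φ : {U // U ∈ P} → Equiv.Perm {x // x ∈ T} := fun U =>
    (f.permOf (el U)).subtypePerm fun x => (hmap U x).symm
  have hmul : ∀ U V W : {U // U ∈ P}, (W : Finset (Fin n)) = symmDiff (U : Finset (Fin n)) V →
      φ U * φ V = φ W := by
    intro U V W h
    have e : el U * el V = el W := Subtype.ext (by
      show g * f.flip U * g⁻¹ * (g * f.flip V * g⁻¹) = g * f.flip W * g⁻¹
      rw [h, ← f.flip_mul]
      group)
    refine Equiv.ext fun x => Subtype.ext ?_
    show f.permOf (el U) (f.permOf (el V) x) = f.permOf (el W) x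
    rw [← e]
    exact (congrArg (fun π : Equiv.Perm (Fin n) => π (x : Fin n)) (map_mul f.permOfHom (el U) (el V))).symm
  have hclosed : ∀ U V : {U // U ∈ P}, symmDiff (U : Finset (Fin n)) V ∈ P := fun U V => by
    refine Finset.mem_filter.2 ?_
    rw [Finset.mem_powerset]
    exact ⟨symmDiff_le_sup.trans (sup_le (hmem U).1 (hmem V).1),
      even_card_symmDiff.2 ⟨fun _ => (hmem V).2, fun _ => (hmem U).2⟩⟩
  have hcomm : ∀ U V, φ U * φ V = φ V * φ U := fun U V => by
    rw [hmul U V ⟨_, hclosed U V⟩ rfl, hmul V U ⟨_, hclosed U V⟩ (symmDiff_comm _ _)]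
  obtain ⟨A, hA⟩ : ∃ A, A = Subgroup.closure (Set.range φ) := ⟨_, rfl⟩
  have hAc : IsMulCommutative A := by
    rw [hA]
    exact Subgroup.isMulCommutative_closure fun a ⟨U, hU⟩ b ⟨V, hV⟩ => hU ▸ hV ▸ hcomm U V
  have hbound := AbelianPerm.card_le_maxProd A hAc
  rw [Fintype.card_coe] at hbound
  have hodd : (T.powerset.filter fun U => Even U.card).card = 2 ^ (T.card - 1) := by
    obtain ⟨a, ha⟩ : T.Nonempty := Finset.card_pos.1 (by omega)
    rw [← Finset.card_erase_of_mem ha, ← Finset.card_powerset]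
    refine Finset.card_bij (fun U _ => U.erase a) (fun U hU => ?_) (fun U hU V hV h => ?_) fun W hW => ?_
    · rw [Finset.mem_powerset]
      exact Finset.erase_subset_erase a (Finset.mem_powerset.1 (Finset.mem_filter.1 hU).1)
    · have eU := (Finset.mem_filter.1 hU).2
      have eV := (Finset.mem_filter.1 hV).2
      by_cases h1 : a ∈ U <;> by_cases h2 : a ∈ V
      · rw [← Finset.insert_erase h1, h, Finset.insert_erase h2]
      · exfalso
        rw [← Finset.card_erase_add_one h1, h, Finset.erase_eq_of_notMem h2] at eU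
        simp only [Nat.even_iff] at eU eV
        omega
      · exfalso
        rw [← Finset.card_erase_add_one h2, ← h, Finset.erase_eq_of_notMem h1] at eV
        simp only [Nat.even_iff] at eU eV
        omega
      · rwa [Finset.erase_eq_of_notMem h1, Finset.erase_eq_of_notMem h2] at h
    · rw [Finset.mem_powerset] at hW
      have haW : a ∉ W := fun h => (Finset.mem_erase.1 (hW h)).1 rfl
      by_cases he : Even W.card
      · exact ⟨W, Finset.mem_filter.2 ⟨Finset.mem_powerset.2 (hW.trans (Finset.erase_subset _ _)), he⟩,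
          Finset.erase_eq_of_notMem haW⟩
      · refine ⟨insert a W, Finset.mem_filter.2 ⟨Finset.mem_powerset.2
          (Finset.insert_subset ha (hW.trans (Finset.erase_subset _ _))), ?_⟩, Finset.erase_insert haW⟩
        rw [Finset.card_insert_of_notMem haW, Nat.even_add_one]
        exact he
  have himg : (Finset.univ.image φ).card * 2 < (Finset.univ : Finset {U // U ∈ P}).card := by
    rw [Finset.card_univ, Fintype.card_coe, show P.card = 2 ^ (T.card - 1) from hodd]
    have h1 : (Finset.univ.image φ).card ≤ Nat.card A := by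
      rw [Nat.card_eq_fintype_card]
      refine le_trans ?_ (le_of_eq (Fintype.card_of_subtype (Finset.univ.filter fun π => π ∈ A) (by simp)).symm)
      refine Finset.card_le_card fun π hπ => ?_
      obtain ⟨U, -, rfl⟩ := Finset.mem_image.1 hπ
      exact Finset.mem_filter.2 ⟨Finset.mem_univ _, hA ▸ Subgroup.subset_closure ⟨U, rfl⟩⟩
    have := two_mul_maxProd_lt T.card hT
    omega
  obtain ⟨π, -, hπ⟩ := Finset.exists_lt_card_fiber_of_mul_lt_card_of_maps_to
    (fun U _ => Finset.mem_image_of_mem φ (Finset.mem_univ U)) himg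
  obtain ⟨U₁, U₂, U₃, h1, h2, h3, h12, h13, h23⟩ := Finset.two_lt_card_iff.1 hπ
  simp only [Finset.mem_filter, Finset.mem_univ, true_and] at h1 h2 h3
  have key : ∀ U V : {U // U ∈ P}, φ U = π → φ V = π → U ≠ V → symmDiff (U : Finset (Fin n)) V ≠ T →
      ∃ U ⊆ T, U.Nonempty ∧ U ≠ T ∧ Even U.card ∧ ∃ V, g * f.flip U * g⁻¹ = f.flip V := by
    intro U V hU hV hUV hne
    obtain ⟨W, hW⟩ : ∃ W : {U // U ∈ P}, W = ⟨_, hclosed U V⟩ := ⟨_, rfl⟩
    have hWc : (W : Finset (Fin n)) = symmDiff (U : Finset (Fin n)) V := by rw [hW]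
    have hone : φ W = 1 := by
      have hVV := hmul V V ⟨∅, Finset.mem_filter.2 ⟨Finset.mem_powerset.2 (Finset.empty_subset _), by simp⟩⟩ (symmDiff_self _).symm
      have h0 : φ ⟨∅, Finset.mem_filter.2 ⟨Finset.mem_powerset.2 (Finset.empty_subset _), by simp⟩⟩ = 1 := by
        have := hmul ⟨∅, Finset.mem_filter.2 ⟨Finset.mem_powerset.2 (Finset.empty_subset _), by simp⟩⟩ ⟨∅, Finset.mem_filter.2 ⟨Finset.mem_powerset.2 (Finset.empty_subset _), by simp⟩⟩ ⟨∅, Finset.mem_filter.2 ⟨Finset.mem_powerset.2 (Finset.empty_subset _), by simp⟩⟩ (symmDiff_self _).symm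
        exact mul_eq_left.1 this
      rw [← hmul U V W hWc, hU, ← hV, hVV, h0]
    obtain ⟨V', hV'⟩ := f.exists_flip_of_perm (el W) (Equiv.ext fun x => by
      by_cases hx : x ∈ T
      · exact congrArg Subtype.val (Equiv.ext_iff.1 hone ⟨x, hx⟩)
      · exact hfix W x hx)
    refine ⟨W, (hmem W).1, ?_, hWc ▸ hne, (hmem W).2, V', hV'⟩
    rw [hWc, Finset.nonempty_iff_ne_empty]
    exact fun h => hUV (Subtype.ext (symmDiff_eq_bot.1 h))
  by_cases hc : symmDiff (U₁ : Finset (Fin n)) U₂ = T
  · refine key U₁ U₃ h1 h3 h13 fun h => h23 (Subtype.ext ?_)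
    exact symmDiff_right_injective (U₁ : Finset (Fin n)) (hc.trans h.symm)
  · exact key U₁ U₂ h1 h2 h12 hc

end Frame

end CfsgLib.OrthMono
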