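import Cfsg.Agent.OrthMax.DecompSys

/-!
# Orthogonal frames: coordinates, reflections, sign changes and permutations

`Frame Q n`: pairwise orthogonal vectors `b i` of one nonzero value, spanning. `Mono`: the isometries
permuting the lines of the frame.
-/

set_option autoImplicit false
set_option linter.unusedSectionVars false

namespace CfsgLib.OrthMono

open Matrix Module CfsgLib.Spinor CfsgLib.Forms CfsgLib.Forms4 CfsgLib.OrthMax CfsgLib.OmegaOrbits

variable {F : Type*} [Field F] {ι : Type} [Fintype ι] [DecidableEq ι] {Q : QuadraticForm F (ι → F)}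

set_option quotPrecheck false in
local notation "𝔅" => QuadraticMap.polar (⇑Q)

/-- An orthogonal frame of vectors of one value. -/
structure Frame (Q : QuadraticForm F (ι → F)) (n : ℕ) where
  b : Fin n → ι → F
  c : F
  c_ne : c ≠ 0
  two : (2 : F) ≠ 0
  nondeg : (QuadraticMap.polarBilin Q).Nondegenerate
  quad : ∀ i, Q (b i) = c
  orth : ∀ i j, i ≠ j → QuadraticMap.polar (⇑Q) (b i) (b j) = 0
  span : Submodule.span F (Set.range b) = ⊤

/-- The linear map of an isometry. -/
def ap (g : Isom Q) : (ι → F) →ₗ[F] (ι → F) := Matrix.toLin' (mat Q g)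

theorem ap_def (g : Isom Q) (x : ι → F) : ap g x = mat Q g *ᵥ x := Matrix.toLin'_apply _ _

theorem ap_mul (g h : Isom Q) (x : ι → F) : ap (g * h) x = ap g (ap h x) := by
  rw [ap_def, ap_def, ap_def, mat_mul, mulVec_mulVec]

theorem ap_one (x : ι → F) : ap (1 : Isom Q) x = x := by
  rw [ap_def, mat_one, one_mulVec]

theorem ap_inv_ap (g : Isom Q) (x : ι → F) : ap g⁻¹ (ap g x) = x := by
  rw [← ap_mul, inv_mul_cancel, ap_one]

theorem ap_ap_inv (g : Isom Q) (x : ι → F) : ap g (ap g⁻¹ x) = x := by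
  rw [← ap_mul, mul_inv_cancel, ap_one]

theorem ap_injective (g : Isom Q) : Function.Injective (ap g) :=
  Function.LeftInverse.injective (ap_inv_ap g)

theorem quad_ap (g : Isom Q) (x : ι → F) : Q (ap g x) = Q x := by rw [ap_def, quad_mulVec]

theorem polar_ap (g : Isom Q) (x y : ι → F) : 𝔅 (ap g x) (ap g y) = 𝔅 x y := by
  rw [ap_def, ap_def, polar_mulVec]

theorem ext_ap {g h : Isom Q} (e : ∀ x, ap g x = ap h x) : g = h :=
  mat_ext Q (Matrix.ext_iff_mulVec.2 fun x => by rw [← ap_def, ← ap_def, e])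

/-- The reflection in `v`, or one when `v` is singular. -/
noncomputable def rf (v : ι → F) : Isom Q := by
  classical exact if h : Q v ≠ 0 then reflIso Q v h else 1

theorem rf_eq {v : ι → F} (h : Q v ≠ 0) : (rf v : Isom Q) = reflIso Q v h := by
  classical exact dif_pos h

theorem ap_rf {v : ι → F} (h : Q v ≠ 0) (x : ι → F) :
    ap (rf v : Isom Q) x = x - ((Q v)⁻¹ * 𝔅 v x) • v := by
  rw [rf_eq h, ap_def, mat_reflIso_mulVec, refl_apply]

theorem ap_rf_self {v : ι → F} (h : Q v ≠ 0) : ap (rf v : Isom Q) v = -v := by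
  rw [ap_rf h, polar_self', show (Q v)⁻¹ * (2 * Q v) = 2 by field_simp]
  module

theorem rf_mul_self (v : ι → F) : (rf v : Isom Q) * rf v = 1 := by
  by_cases h : Q v ≠ 0
  · refine ext_ap fun x => ?_
    rw [ap_mul, ap_one, rf_eq h, ap_def, ap_def, mat_reflIso_mulVec, mat_reflIso_mulVec, refl_refl Q h]
  · unfold rf
    rw [dif_neg h, one_mul]

theorem rf_inv (v : ι → F) : (rf v : Isom Q)⁻¹ = rf v := inv_eq_of_mul_eq_one_right (rf_mul_self v)

theorem rf_smul {a : F} (ha : a ≠ 0) (v : ι → F) : (rf (a • v) : Isom Q) = rf v := by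
  by_cases h : Q v ≠ 0
  · have h' : Q (a • v) ≠ 0 := by
      rw [QuadraticMap.map_smul, smul_eq_mul]
      exact mul_ne_zero (mul_ne_zero ha ha) h
    refine ext_ap fun x => ?_
    rw [ap_rf h', ap_rf h, QuadraticMap.map_smul, QuadraticMap.polar_smul_left, smul_smul, smul_eq_mul,
      smul_eq_mul]
    congr 2
    field_simp
  · have h' : ¬ Q (a • v) ≠ 0 := by
      push Not at h ⊢
      rw [QuadraticMap.map_smul, h, smul_zero]
    unfold rf
    rw [dif_neg h', dif_neg h]

theorem conj_rf (g : Isom Q) (v : ι → F) : g * rf v * g⁻¹ = rf (ap g v) := by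
  by_cases h : Q v ≠ 0
  · have h' : Q (ap g v) ≠ 0 := by rwa [quad_ap]
    rw [rf_eq h, rf_eq h', conj_reflIso]
    rfl
  · have h' : ¬ Q (ap g v) ≠ 0 := by rwa [quad_ap]
    unfold rf
    rw [dif_neg h, dif_neg h', mul_one, mul_inv_cancel]

theorem det_rf {v : ι → F} (h : Q v ≠ 0) : (mat Q (rf v : Isom Q)).det = -1 := by
  rw [rf_eq h, det_reflIso]

theorem rf_mul_mem_omega [Fintype F] (hQ : (QuadraticMap.polarBilin Q).Nondegenerate) (h2 : (2 : F) ≠ 0)
    {v w : ι → F} (hv : Q v ≠ 0) (hw : Q w = Q v) : (rf v : Isom Q) * rf w ∈ Cfsg.Omega F ⇑Q := by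
  have hw' : Q w ≠ 0 := by rwa [hw]
  rw [rf_eq hv, rf_eq hw']
  exact (mem_omega_iff h2 hQ ((IsReflProd.reflIso v hv).mul (IsReflProd.reflIso w hw'))).2
    ⟨by simp, ⟨Q v, by simp [hw]⟩⟩

theorem det_of_omega {g : Isom Q} (hg : g ∈ Cfsg.Omega F ⇑Q) : (mat Q g).det = 1 :=
  (mem_special_iff g).1 (omega_le_special hg)

/-- An isometry from a linear involution preserving the form. -/
noncomputable def ofInvol (L : (ι → F) →ₗ[F] (ι → F)) (hL : ∀ x, L (L x) = x) (hQ : ∀ x, Q (L x) = Q x) :
    Isom Q :=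
  ⟨⟨LinearMap.toMatrix' L, LinearMap.toMatrix' L, by
      rw [← LinearMap.toMatrix'_comp, show L ∘ₗ L = LinearMap.id from LinearMap.ext hL, LinearMap.toMatrix'_id],
    by rw [← LinearMap.toMatrix'_comp, show L ∘ₗ L = LinearMap.id from LinearMap.ext hL, LinearMap.toMatrix'_id]⟩,
    fun x _ => by
      show Q (LinearMap.toMatrix' L *ᵥ x) = Q x
      rw [LinearMap.toMatrix'_mulVec]; exact hQ x⟩

theorem ap_ofInvol (L : (ι → F) →ₗ[F] (ι → F)) (hL : ∀ x, L (L x) = x) (hQ : ∀ x, Q (L x) = Q x) (x : ι → F) :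
    ap (ofInvol L hL hQ) x = L x := by
  rw [ap_def]
  show LinearMap.toMatrix' L *ᵥ x = L x
  rw [LinearMap.toMatrix'_mulVec]

namespace Frame

variable {n : ℕ} (f : Frame Q n)

theorem polar_b (i j : Fin n) : 𝔅 (f.b i) (f.b j) = if i = j then 2 * f.c else 0 := by
  split_ifs with h
  · rw [h, polar_self', f.quad]
  · exact f.orth i j h

theorem quad_ne (i : Fin n) : Q (f.b i) ≠ 0 := by rw [f.quad]; exact f.c_ne

theorem b_ne (i : Fin n) : f.b i ≠ 0 := fun h => f.quad_ne i (by rw [h, QuadraticMap.map_zero])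

theorem two_c : (2 * f.c : F) ≠ 0 := mul_ne_zero f.two f.c_ne

/-- The coordinates of a vector. -/
noncomputable def co : (ι → F) →ₗ[F] (Fin n → F) :=
  LinearMap.pi fun i => (2 * f.c)⁻¹ • QuadraticMap.polarBilin Q (f.b i)

theorem co_apply (x : ι → F) (i : Fin n) : f.co x i = (2 * f.c)⁻¹ * 𝔅 (f.b i) x := rfl

theorem polar_b_left (i : Fin n) (x : ι → F) : 𝔅 (f.b i) x = 2 * f.c * f.co x i := by
  rw [co_apply, mul_inv_cancel_left₀ f.two_c]

theorem polar_b_right (i : Fin n) (x : ι → F) : 𝔅 x (f.b i) = 2 * f.c * f.co x i := by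
  rw [QuadraticMap.polar_comm, polar_b_left]

theorem co_b (i j : Fin n) : f.co (f.b j) i = if i = j then 1 else 0 := by
  rw [co_apply, polar_b]
  split_ifs
  · exact inv_mul_cancel₀ f.two_c
  · exact mul_zero _

/-- The vector with given coordinates. -/
def vec : (Fin n → F) →ₗ[F] (ι → F) := Fintype.linearCombination F f.b

theorem vec_apply (a : Fin n → F) : f.vec a = ∑ i, a i • f.b i :=
  Fintype.linearCombination_apply ..

theorem co_vec (a : Fin n → F) : f.co (f.vec a) = a := by
  funext i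
  rw [vec_apply, map_sum, Finset.sum_apply, Finset.sum_eq_single i]
  · rw [map_smul, Pi.smul_apply, co_b, if_pos rfl, smul_eq_mul, mul_one]
  · intro j _ hj
    rw [map_smul, Pi.smul_apply, co_b, if_neg (Ne.symm hj), smul_zero]
  · exact fun h => absurd (Finset.mem_univ i) h

theorem co_ext {x y : ι → F} (h : ∀ i, f.co x i = f.co y i) : x = y := by
  have h0 : ∀ v : ι → F, v ∈ Submodule.span F (Set.range f.b) →
      QuadraticMap.polarBilin Q (x - y) v = 0 := by
    intro v hv
    induction hv using Submodule.span_induction with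
    | mem v hv =>
      obtain ⟨i, rfl⟩ := hv
      show 𝔅 (x - y) (f.b i) = 0
      rw [QuadraticMap.polar_sub_left, polar_b_right, polar_b_right, h i, sub_self]
    | zero => exact map_zero _
    | add a b _ _ ha hb => rw [map_add, ha, hb, add_zero]
    | smul a v _ hv => rw [map_smul, hv, smul_zero]
  exact sub_eq_zero.1 (f.nondeg.1 (x - y) fun v => h0 v (by rw [f.span]; exact Submodule.mem_top))

theorem vec_co (x : ι → F) : f.vec (f.co x) = x := f.co_ext fun i => by rw [co_vec]

theorem b_eq_vec (i : Fin n) : f.b i = f.vec (Pi.single i 1) :=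
  f.co_ext fun j => by rw [co_vec, co_b, Pi.single_apply]

/-- The standard product of coordinates. -/
noncomputable def dot (x y : ι → F) : F := ∑ i, f.co x i * f.co y i

theorem polar_eq (x y : ι → F) : 𝔅 x y = 2 * f.c * f.dot x y := by
  conv_lhs => rw [← f.vec_co y, vec_apply]
  show QuadraticMap.polarBilin Q x _ = _
  rw [map_sum, dot, Finset.mul_sum]
  refine Finset.sum_congr rfl fun i _ => ?_
  rw [map_smul, QuadraticMap.polarBilin_apply_apply, polar_b_right, smul_eq_mul]
  ring

theorem quad_eq (x : ι → F) : Q x = f.c * f.dot x x := by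
  have h := f.polar_eq x x
  rw [polar_self'] at h
  exact mul_left_cancel₀ f.two (by rw [h, mul_assoc])

theorem unit_iff {x : ι → F} : Q x = f.c ↔ f.dot x x = 1 := by
  rw [quad_eq]
  exact ⟨fun h => mul_left_cancel₀ f.c_ne (h.trans (mul_one _).symm), fun h => by rw [h, mul_one]⟩

theorem co_rf {v : ι → F} (hv : Q v = f.c) (x : ι → F) (i : Fin n) :
    f.co (ap (rf v : Isom Q) x) i = f.co x i - 2 * f.dot v x * f.co v i := by
  rw [ap_rf (by rw [hv]; exact f.c_ne), map_sub, map_smul, Pi.sub_apply, Pi.smul_apply, hv, polar_eq,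
    smul_eq_mul, ← mul_assoc, ← mul_assoc, mul_comm f.c⁻¹ 2, mul_assoc (2 : F), inv_mul_cancel₀ f.c_ne, mul_one]

theorem dot_b (i : Fin n) (x : ι → F) : f.dot (f.b i) x = f.co x i := by
  rw [dot, Finset.sum_eq_single i]
  · rw [co_b, if_pos rfl, one_mul]
  · intro j _ hj
    rw [co_b, if_neg hj, zero_mul]
  · exact fun h => absurd (Finset.mem_univ i) h

theorem dot_vec (a b : Fin n → F) : f.dot (f.vec a) (f.vec b) = ∑ i, a i * b i := by
  rw [dot, co_vec, co_vec]

/-- The support of a vector. -/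
noncomputable def supp (x : ι → F) : Finset (Fin n) := by
  classical exact Finset.univ.filter fun i => f.co x i ≠ 0

theorem mem_supp {x : ι → F} {i : Fin n} : i ∈ f.supp x ↔ f.co x i ≠ 0 := by
  classical simp [supp]

theorem notMem_supp {x : ι → F} {i : Fin n} : i ∉ f.supp x ↔ f.co x i = 0 := by
  rw [mem_supp, not_not]

theorem supp_b (i : Fin n) : f.supp (f.b i) = {i} := by
  ext j
  rw [mem_supp, co_b, Finset.mem_singleton]
  split_ifs with h <;> simp [h]

/-- An isometry permuting the lines of the frame. -/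
def Mono (g : Isom Q) : Prop := ∀ i, ∃ j, ∃ a : F, ap g (f.b i) = a • f.b j

theorem mono_one : f.Mono 1 := fun i => ⟨i, 1, by rw [ap_one, one_smul]⟩

theorem Mono.mul {g h : Isom Q} (hg : f.Mono g) (hh : f.Mono h) : f.Mono (g * h) := fun i => by
  obtain ⟨j, a, e⟩ := hh i
  obtain ⟨l, a', e'⟩ := hg j
  exact ⟨l, a * a', by rw [ap_mul, e, map_smul, e', smul_smul]⟩

theorem sq_one_of_smul {a : F} {i j : Fin n} {g : Isom Q} (h : ap g (f.b i) = a • f.b j) : a * a = 1 := by
  have := quad_ap g (f.b i)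
  rw [h, QuadraticMap.map_smul, f.quad, f.quad, smul_eq_mul] at this
  exact mul_right_cancel₀ f.c_ne (this.trans (one_mul _).symm)

theorem sign_of_smul {a : F} {i j : Fin n} {g : Isom Q} (h : ap g (f.b i) = a • f.b j) : a = 1 ∨ a = -1 :=
  mul_self_eq_one_iff.1 (f.sq_one_of_smul h)

theorem Mono.exists_perm {g : Isom Q} (hg : f.Mono g) :
    ∃ π : Equiv.Perm (Fin n), ∃ d : Fin n → F, (∀ i, d i = 1 ∨ d i = -1) ∧ ∀ i, ap g (f.b i) = d i • f.b (π i) := by
  choose j a hja using hg
  have hinj : Function.Injective j := by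
    intro i k e
    by_contra hik
    have h0 := polar_ap g (f.b i) (f.b k)
    rw [f.orth i k hik, hja, hja, e, QuadraticMap.polar_smul_left, QuadraticMap.polar_smul_right,
      polar_b, if_pos rfl, smul_eq_mul, smul_eq_mul] at h0
    rcases f.sign_of_smul (hja i) with h | h <;> rcases f.sign_of_smul (hja k) with h' | h' <;>
      simp [h, h', f.two, f.c_ne] at h0
  exact ⟨Equiv.ofBijective j ⟨hinj, Finite.injective_iff_surjective.1 hinj⟩, a,
    fun i => f.sign_of_smul (hja i), hja⟩

theorem Mono.inv {g : Isom Q} (hg : f.Mono g) : f.Mono g⁻¹ := by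
  obtain ⟨π, d, hd, hgd⟩ := hg.exists_perm f
  intro i
  refine ⟨π.symm i, (d (π.symm i))⁻¹, ?_⟩
  have h := congrArg (ap g⁻¹) (hgd (π.symm i))
  rw [ap_inv_ap, Equiv.apply_symm_apply, map_smul] at h
  rw [h, inv_smul_smul₀]
  rcases hd (π.symm i) with e | e <;> rw [e] <;> simp

/-- The monomial isometries as a subgroup. -/
def monoSub : Subgroup (Isom Q) where
  carrier := {g | f.Mono g}
  mul_mem' := Mono.mul f
  one_mem' := f.mono_one
  inv_mem' := Mono.inv f

theorem co_mono {g : Isom Q} {π : Equiv.Perm (Fin n)} {d : Fin n → F}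
    (h : ∀ i, ap g (f.b i) = d i • f.b (π i)) (x : ι → F) (i : Fin n) :
    f.co (ap g x) (π i) = d i * f.co x i := by
  conv_lhs => rw [← f.vec_co x, vec_apply, map_sum, map_sum, Finset.sum_apply]
  rw [Finset.sum_eq_single i]
  · rw [map_smul, h, map_smul, map_smul, Pi.smul_apply, Pi.smul_apply, co_b, if_pos rfl, smul_eq_mul,
      smul_eq_mul, mul_one, mul_comm]
  · intro j _ hj
    rw [map_smul, h, map_smul, map_smul, Pi.smul_apply, Pi.smul_apply, co_b,
      if_neg (fun e => hj (π.injective e.symm)), smul_zero, smul_zero]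
  · exact fun h => absurd (Finset.mem_univ i) h

theorem mono_rf_b (i : Fin n) : f.Mono (rf (f.b i) : Isom Q) := fun j => by
  rcases eq_or_ne j i with rfl | h
  · exact ⟨j, -1, by rw [ap_rf_self (f.quad_ne j), neg_one_smul]⟩
  · exact ⟨j, 1, by rw [ap_rf (f.quad_ne i), f.orth i j (Ne.symm h), mul_zero, zero_smul, sub_zero, one_smul]⟩

/-- The linear map of a signed permutation. -/
noncomputable def sgnPerm (π : Equiv.Perm (Fin n)) (d : Fin n → F) : (ι → F) →ₗ[F] (ι → F) :=
  f.vec ∘ₗ (LinearMap.pi fun i => d (π.symm i) • LinearMap.proj (π.symm i)) ∘ₗ f.co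

theorem co_sgnPerm (π : Equiv.Perm (Fin n)) (d : Fin n → F) (x : ι → F) (i : Fin n) :
    f.co (f.sgnPerm π d x) i = d (π.symm i) * f.co x (π.symm i) := by
  rw [sgnPerm, LinearMap.comp_apply, LinearMap.comp_apply, co_vec]
  rfl

theorem quad_sgnPerm (π : Equiv.Perm (Fin n)) {d : Fin n → F} (hd : ∀ i, d i = 1 ∨ d i = -1) (x : ι → F) :
    Q (f.sgnPerm π d x) = Q x := by
  rw [f.quad_eq, f.quad_eq, dot, dot]
  simp only [co_sgnPerm]
  rw [Equiv.sum_comp π.symm (fun i => d i * f.co x i * (d i * f.co x i))]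
  congr 1
  refine Finset.sum_congr rfl fun i _ => ?_
  rcases hd i with e | e <;> rw [e] <;> ring

/-- The signed permutation as an isometry. -/
noncomputable def monIso (π : Equiv.Perm (Fin n)) (d : Fin n → F) (hd : ∀ i, d i = 1 ∨ d i = -1) : Isom Q :=
  have key : ∀ x, f.sgnPerm π⁻¹ (fun i => d (π.symm i)) (f.sgnPerm π d x) = x := fun x => f.co_ext fun i => by
    simp only [co_sgnPerm, Equiv.Perm.inv_def, Equiv.symm_symm, Equiv.symm_apply_apply]
    rcases hd i with e | e <;> rw [e] <;> ring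
  have key' : ∀ x, f.sgnPerm π d (f.sgnPerm π⁻¹ (fun i => d (π.symm i)) x) = x := fun x => f.co_ext fun i => by
    simp only [co_sgnPerm, Equiv.Perm.inv_def, Equiv.symm_symm, Equiv.apply_symm_apply]
    rcases hd (π.symm i) with e | e <;> rw [e] <;> ring
  ⟨⟨LinearMap.toMatrix' (f.sgnPerm π d), LinearMap.toMatrix' (f.sgnPerm π⁻¹ (fun i => d (π.symm i))), by
      rw [← LinearMap.toMatrix'_comp,
        show f.sgnPerm π d ∘ₗ f.sgnPerm π⁻¹ (fun i => d (π.symm i)) = LinearMap.id from LinearMap.ext key',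
        LinearMap.toMatrix'_id],
    by
      rw [← LinearMap.toMatrix'_comp,
        show f.sgnPerm π⁻¹ (fun i => d (π.symm i)) ∘ₗ f.sgnPerm π d = LinearMap.id from LinearMap.ext key,
        LinearMap.toMatrix'_id]⟩,
    fun x _ => by
      show Q (LinearMap.toMatrix' (f.sgnPerm π d) *ᵥ x) = Q x
      rw [LinearMap.toMatrix'_mulVec]; exact f.quad_sgnPerm π hd x⟩

theorem ap_monIso (π : Equiv.Perm (Fin n)) (d : Fin n → F) (hd : ∀ i, d i = 1 ∨ d i = -1) (x : ι → F) :
    ap (f.monIso π d hd) x = f.sgnPerm π d x := by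
  rw [ap_def]
  show LinearMap.toMatrix' (f.sgnPerm π d) *ᵥ x = _
  rw [LinearMap.toMatrix'_mulVec]

theorem monIso_b (π : Equiv.Perm (Fin n)) (d : Fin n → F) (hd : ∀ i, d i = 1 ∨ d i = -1) (i : Fin n) :
    ap (f.monIso π d hd) (f.b i) = d i • f.b (π i) := f.co_ext fun j => by
  rw [ap_monIso, co_sgnPerm, map_smul, Pi.smul_apply, co_b, co_b, smul_eq_mul]
  by_cases h : j = π i
  · subst h
    rw [Equiv.symm_apply_apply, if_pos rfl, if_pos rfl]
  · rw [if_neg h, if_neg fun e => h (by rw [← e, Equiv.apply_symm_apply])]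
    simp

theorem ext_b {g h : Isom Q} (e : ∀ i, ap g (f.b i) = ap h (f.b i)) : g = h :=
  ext_ap fun x => by
    rw [← f.vec_co x, vec_apply, map_sum, map_sum]
    exact Finset.sum_congr rfl fun i _ => by rw [map_smul, map_smul, e]

/-- The permutation matrices as a homomorphism. -/
noncomputable def permHom : Equiv.Perm (Fin n) →* Isom Q :=
  MonoidHom.mk' (fun π => f.monIso π 1 fun _ => Or.inl rfl) fun π τ => f.ext_b fun i => by
    rw [ap_mul, monIso_b, monIso_b, map_smul, monIso_b]
    simp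

theorem permHom_b (π : Equiv.Perm (Fin n)) (i : Fin n) : ap (f.permHom π) (f.b i) = f.b (π i) := by
  show ap (f.monIso π 1 fun _ => Or.inl rfl) (f.b i) = _
  rw [monIso_b, Pi.one_apply, one_smul]

theorem mono_permHom (π : Equiv.Perm (Fin n)) : f.Mono (f.permHom π) := fun i =>
  ⟨π i, 1, by rw [permHom_b, one_smul]⟩

theorem quad_diff {i j : Fin n} (h : i ≠ j) : Q (f.b i - f.b j) = 2 * f.c := by
  rw [sub_eq_add_neg, QuadraticMap.map_add (⇑Q), QuadraticMap.map_neg, f.quad, f.quad,
    QuadraticMap.polar_neg_right, f.orth i j h]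
  ring

theorem permHom_swap {i j : Fin n} (h : i ≠ j) : f.permHom (Equiv.swap i j) = rf (f.b i - f.b j) := by
  have hq : Q (f.b i - f.b j) ≠ 0 := by rw [f.quad_diff h]; exact f.two_c
  refine f.ext_b fun k => ?_
  have hc := f.c_ne
  have h2 := f.two
  rw [permHom_b, ap_rf hq, f.quad_diff h, QuadraticMap.polar_sub_left, polar_b, polar_b]
  rcases eq_or_ne k i with rfl | hki
  · rw [Equiv.swap_apply_left, if_pos rfl, if_neg (Ne.symm h), sub_zero, inv_mul_cancel₀ f.two_c]
    module
  rcases eq_or_ne k j with rfl | hkj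
  · rw [Equiv.swap_apply_right, if_neg h, if_pos rfl, zero_sub, mul_neg, inv_mul_cancel₀ f.two_c]
    module
  · rw [Equiv.swap_apply_of_ne_of_ne hki hkj, if_neg (Ne.symm hki), if_neg (Ne.symm hkj), sub_zero, mul_zero,
      zero_smul, sub_zero]

theorem permHom_mem_omega [Fintype F] {π : Equiv.Perm (Fin n)} (h : Equiv.Perm.sign π = 1) :
    f.permHom π ∈ Cfsg.Omega F ⇑Q := by
  have hle : alternatingGroup (Fin n) ≤ (Cfsg.Omega F ⇑Q).comap f.permHom := by
    rw [← Equiv.Perm.closure_three_cycles_eq_alternating, Subgroup.closure_le]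
    intro σ hσ
    show f.permHom σ ∈ Cfsg.Omega F ⇑Q
    obtain ⟨a, ha⟩ : σ.support.Nonempty := by
      rw [← Finset.card_pos, hσ.card_support]; omega
    rw [Equiv.Perm.mem_support] at ha
    have hne : σ a ≠ σ (σ a) := fun e => ha (σ.injective e).symm
    have hswap : σ = Equiv.swap a (σ a) * Equiv.swap (σ a) (σ (σ a)) := by
      have h3 : σ (σ (σ a)) = a := by
        have := hσ.orderOf
        have hpow := pow_orderOf_eq_one σ
        rw [this] at hpow
        exact Equiv.ext_iff.1 hpow a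
      have ha2 : a ≠ σ (σ a) := fun e => ha ((congrArg σ e).trans h3)
      refine Equiv.ext fun x => ?_
      rw [Equiv.Perm.mul_apply]
      rcases eq_or_ne x a with rfl | hxa
      · rw [Equiv.swap_apply_of_ne_of_ne (Ne.symm ha) ha2, Equiv.swap_apply_left]
      rcases eq_or_ne x (σ a) with rfl | hxb
      · rw [Equiv.swap_apply_left, Equiv.swap_apply_of_ne_of_ne ha2.symm hne.symm]
      rcases eq_or_ne x (σ (σ a)) with rfl | hxc
      · rw [Equiv.swap_apply_right, Equiv.swap_apply_right, h3]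
      rw [Equiv.swap_apply_of_ne_of_ne hxb hxc, Equiv.swap_apply_of_ne_of_ne hxa hxb]
      by_contra hx
      have hx' : x ∈ σ.support := Equiv.Perm.mem_support.2 hx
      have hsub : ({a, σ a, σ (σ a), x} : Finset (Fin n)) ⊆ σ.support := by
        intro y hy
        simp only [Finset.mem_insert, Finset.mem_singleton] at hy
        rcases hy with rfl | rfl | rfl | rfl
        · exact Equiv.Perm.mem_support.2 ha
        · exact Equiv.Perm.apply_mem_support.2 (Equiv.Perm.mem_support.2 ha)
        · exact Equiv.Perm.apply_mem_support.2 (Equiv.Perm.apply_mem_support.2 (Equiv.Perm.mem_support.2 ha))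
        · exact hx'
      have h4 : ({a, σ a, σ (σ a), x} : Finset (Fin n)).card = 4 := by
        rw [Finset.card_insert_of_notMem (by simp [Ne.symm ha, ha2, hxa.symm]),
          Finset.card_insert_of_notMem (by simp [hne, hxb.symm]),
          Finset.card_insert_of_notMem (by simp [hxc.symm]), Finset.card_singleton]
      have := Finset.card_le_card hsub
      rw [h4, hσ.card_support] at this
      omega
    have ha2 : σ a ≠ σ (σ a) := hne
    rw [hswap, map_mul, f.permHom_swap (Ne.symm ha), f.permHom_swap ha2]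
    exact rf_mul_mem_omega f.nondeg f.two (by rw [f.quad_diff (Ne.symm ha)]; exact f.two_c)
      (by rw [f.quad_diff ha2, f.quad_diff (Ne.symm ha)])
  exact hle h

end Frame

end CfsgLib.OrthMono
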