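import Cfsg.Agent.OrthMono.Core
import Cfsg.Agent.OrthMax.DecompTools
import Cfsg.Agent.OrthMax.Models

/-!
# Stabilisers of orthogonal frames over prime fields

`isMaximalIn_frame`: in dimension ten or more the elements of `Ω` permuting the lines of an orthogonal
decomposition into isometric lines form a maximal subgroup, over a prime field of odd order.
-/

set_option autoImplicit false
set_option linter.unusedSectionVars false

namespace CfsgLib.OrthMono

open Matrix Module CfsgLib.Spinor CfsgLib.Forms CfsgLib.OrthMax Cfsg.Geo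

variable {F : Type*} [Field F] [Fintype F] {ι : Type} [Fintype ι] [DecidableEq ι] {Q : QuadraticForm F (ι → F)}
  {t : ℕ} {D : Fin t → Submodule F (ι → F)}

/-- A frame spanning the lines of a decomposition into isometric lines. -/
theorem exists_frame (h : DSys Q 1 D) (h2 : (2 : F) ≠ 0) :
    ∃ f : Frame Q t, ∀ i, D i = Submodule.span F {f.b i} := by
  classical
  obtain ⟨i₀⟩ : Nonempty (Fin t) := ⟨⟨0, by have := h.two_le; omega⟩⟩
  have hne : D i₀ ≠ ⊥ := fun e => by
    have := h.dim i₀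
    rw [e, finrank_bot] at this
    omega
  obtain ⟨b₀, hb₀, hb₀0⟩ := Submodule.exists_mem_ne_zero_of_ne_bot hne
  choose e he using fun i => h.iso i₀ i
  have hb : ∀ i, ((e i ⟨b₀, hb₀⟩ : D i) : ι → F) ≠ 0 := fun i h0 => hb₀0
    (congrArg Subtype.val ((e i).map_eq_zero_iff.1 (Subtype.ext h0 : e i ⟨b₀, hb₀⟩ = 0)))
  have hline : ∀ i, D i = Submodule.span F {((e i ⟨b₀, hb₀⟩ : D i) : ι → F)} := fun i =>
    (Submodule.eq_of_le_of_finrank_eq ((Submodule.span_singleton_le_iff_mem _ _).2 (e i ⟨b₀, hb₀⟩).2)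
      (by rw [finrank_span_singleton (hb i), h.dim])).symm
  have hc : Q b₀ ≠ 0 := fun h0 => by
    refine hb₀0 (h.nd i₀ b₀ hb₀ fun z hz => ?_)
    obtain ⟨y, hy⟩ : ∃ y, y = ((e i₀ ⟨b₀, hb₀⟩ : D i₀) : ι → F) := ⟨_, rfl⟩
    have hq : Q y = 0 := by rw [hy, he]; exact h0
    have hyy : QuadraticMap.polar (⇑Q) y y = 0 := by rw [polar_self', hq, mul_zero]
    obtain ⟨a, ha⟩ := Submodule.mem_span_singleton.1
      (show z ∈ Submodule.span F {y} by rw [hy, ← hline]; exact hz)
    obtain ⟨a', ha'⟩ := Submodule.mem_span_singleton.1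
      (show b₀ ∈ Submodule.span F {y} by rw [hy, ← hline]; exact hb₀)
    rw [← ha, ← ha', QuadraticMap.polar_smul_left, QuadraticMap.polar_smul_right, hyy, smul_zero, smul_zero]
  exact ⟨⟨fun i => (e i ⟨b₀, hb₀⟩ : D i), Q b₀, hc, h2, h.nondeg, fun i => he i _,
    fun i j hij => h.perp hij (e i _).2 (e j _).2, by
      rw [Submodule.span_range_eq_iSup, ← iSup_congr hline, h.top]⟩, hline⟩

theorem Frame.mem_stab_iff {n : ℕ} (f : Frame Q n) {E : Fin n → Submodule F (ι → F)}
    (hE : ∀ i, E i = Submodule.span F {f.b i}) (g : Isom Q) :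
    (g : GL ι F) ∈ decompositionStabilizer E ↔ f.Mono g := by
  constructor
  · rintro ⟨σ, hσ⟩ i
    have h1 : ap g (f.b i) ∈ E (σ i) := by
      rw [← hσ i]
      exact Submodule.mem_map_of_mem (by rw [hE]; exact Submodule.mem_span_singleton_self _)
    rw [hE, Submodule.mem_span_singleton] at h1
    obtain ⟨a, ha⟩ := h1
    exact ⟨σ i, a, ha.symm⟩
  · intro hg
    obtain ⟨π, d, hd, hπ⟩ := hg.exists_perm f
    refine ⟨π, fun i => ?_⟩
    show (E i).map (ap g) = E (π i)
    rw [hE, hE, Submodule.map_span, Set.image_singleton, hπ, Submodule.span_singleton_smul_eq]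
    rcases hd i with e | e <;> rw [e] <;> simp

/-- The stabiliser of a frame is maximal. -/
theorem isMaximalIn_frame (h : DSys Q 1 D) (hn : 10 ≤ Fintype.card ι) (ht : t = Fintype.card ι)
    (hp : (Fintype.card F).Prime) (h2 : (2 : F) ≠ 0) :
    IsMaximalIn (omegaGL ⇑Q) (decompositionStabilizer D ⊓ omegaGL ⇑Q) := by
  obtain ⟨f, hf⟩ := exists_frame h h2
  refine isMaximalIn_omega _ ?_ fun M hM g hgM hgΩ hgS => ?_
  · obtain ⟨i⟩ : Nonempty (Fin t) := ⟨⟨0, by omega⟩⟩
    refine exists_move_decomp h.nondeg (by omega) h.orth (h.nd i) (fun e => ?_) ?_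
    · have := h.dim i
      rw [e, finrank_bot] at this
      omega
    · rw [finrank_qperp h.nondeg, h.dim]
      omega
  · refine le_trans (Frame.omega_le_of_nonmono (f := f) (M := M ⊓ Cfsg.Omega F ⇑Q) ?_ hp inf_le_right
      (by omega) (x := g) ⟨hgM, hgΩ⟩ fun hm => hgS ((f.mem_stab_iff hf g).2 hm)) inf_le_left
    exact fun k hk hkm => ⟨hM k hk ((f.mem_stab_iff hf k).2 hkm), hk⟩

end CfsgLib.OrthMono
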