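import Cfsg.Agent.OrthMono.Spread

/-!
# Small supports give all of `Ω` in dimension five or more

The statements of `SmallThree`, `Roots`, `TernaryOmega` and `Spread` that assume dimension ten, under the bound
five; the arguments are unchanged, as they use at most five coordinates, and either two spare ones or two
coordinates of equal squares for the parity of a permutation.
-/

set_option autoImplicit false
set_option linter.unusedSectionVars false

namespace CfsgLib.OrthMono

open Matrix Module CfsgLib.Spinor CfsgLib.Forms CfsgLib.OrthMax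

variable {F : Type*} [Field F] [Fintype F] {ι : Type} [Fintype ι] [DecidableEq ι] {Q : QuadraticForm F (ι → F)}

set_option quotPrecheck false in
local notation "𝔅" => QuadraticMap.polar (⇑Q)

namespace Frame

namespace Seven

variable {n : ℕ} {f : Frame Q n} {M : Subgroup (Isom Q)}

section Small

variable (hM : f.HasMono M)
include hM

variable (hn : 5 ≤ n) (h3 : (3 : F) ≠ 0) (hmin : f.MinSupp M 3)
include hn h3 hmin

/-- The condition on one coordinate of a vector of support three. -/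
theorem three_cond {u : ι → F} (hu : u ∈ f.RR M) {a b c : Fin n} (hab : a ≠ b) (hac : a ≠ c) (hbc : b ≠ c)
    (hS : f.supp u = {a, b, c}) :
    f.co u a ^ 2 = 1 ∨ f.co u b ^ 2 = f.co u c ^ 2 ∨
      (2 * f.co u a ^ 2 = 3 ∧ (f.co u a ^ 2 = 4 * f.co u b ^ 2 ∨ f.co u a ^ 2 = 4 * f.co u c ^ 2)) := by
  classical
  obtain ⟨o, -, ho⟩ := Finset.exists_mem_notMem_of_card_lt_card (s := ({a, b, c} : Finset (Fin n)))
    (t := Finset.univ) (lt_of_le_of_lt Finset.card_le_three (by rw [Finset.card_univ, Fintype.card_fin]; omega))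
  simp only [Finset.mem_insert, Finset.mem_singleton, not_or] at ho
  obtain ⟨α, hα⟩ : ∃ α, α = f.co u a := ⟨_, rfl⟩
  obtain ⟨β, hβ⟩ : ∃ β, β = f.co u b := ⟨_, rfl⟩
  obtain ⟨γ, hγ⟩ : ∃ γ, γ = f.co u c := ⟨_, rfl⟩
  have hα0 : α ≠ 0 := hα ▸ f.mem_supp.1 (by rw [hS]; simp)
  have hβ0 : β ≠ 0 := hβ ▸ f.mem_supp.1 (by rw [hS]; simp)
  have hγ0 : γ ≠ 0 := hγ ▸ f.mem_supp.1 (by rw [hS]; simp)
  have hz : ∀ i, i ≠ a → i ≠ b → i ≠ c → f.co u i = 0 := fun i h1 h2 h3' =>
    f.notMem_supp.1 (by rw [hS]; simp [h1, h2, h3'])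
  have hnorm : α ^ 2 + β ^ 2 + γ ^ 2 = 1 := by
    have := f.unit_iff.1 hu.1
    rw [dot_supp, hS, Finset.sum_insert (by simp [hab, hac]), Finset.sum_pair hbc] at this
    rw [hα, hβ, hγ]
    linear_combination this
  obtain ⟨v, hvR, va, vb, vc, vo, hvs⟩ := shifted hM hu (by omega) hab hac hbc ho.1 ho.2.1 ho.2.2 (le_of_eq hS)
    (Equiv.swap a o) (f.co u b) (f.co u c) (f.co u a) fun i => by
      rcases eq_or_ne i a with rfl | h1
      · simp [ho.2.1, ho.2.2]
      rcases eq_or_ne i o with rfl | h2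
      · rw [Equiv.swap_apply_right, if_neg hab, if_neg hac, if_neg (Ne.symm h1), hz _ h1 ho.2.1 ho.2.2]
      rw [Equiv.swap_apply_of_ne_of_ne h1 h2]
      split_ifs with e1 e2
      · rw [e1]
      · rw [e2]
      · rw [hz i h1 e1 e2]
  simp only [← hα, ← hβ, ← hγ] at va vb vc vo ⊢
  obtain ⟨k, hk⟩ : ∃ k, k = β * β + γ * γ := ⟨_, rfl⟩
  rw [← hk] at va vb vc
  by_cases hk0 : k = 0
  · left; linear_combination hnorm + hk - hk0
  have ho' : o ∈ f.supp v := f.mem_supp.2 (by rw [vo]; exact hα0)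
  have ha' : a ∈ f.supp v := f.mem_supp.2 (by rw [va]; simp [hα0, hk0, f.two])
  by_cases hk1 : 1 - 2 * k = 0
  · exfalso
    have hsub : f.supp v ⊆ {a, o} := fun i hi => by
      have := hvs hi
      simp only [Finset.mem_insert, Finset.mem_singleton] at this ⊢
      rcases this with h | h | h | h
      · exact Or.inl h
      · exact absurd (by rw [h, vb]; linear_combination β * hk1) (f.mem_supp.1 hi)
      · exact absurd (by rw [h, vc]; linear_combination γ * hk1) (f.mem_supp.1 hi)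
      · exact Or.inr h
    have h2 := Finset.card_le_card hsub
    rw [Finset.card_pair (Ne.symm ho.1)] at h2
    rcases hmin v hvR (Finset.one_lt_card.2 ⟨a, ha', o, ho', Ne.symm ho.1⟩) with h | ⟨-, h, -⟩ <;> omega
  have hb' : b ∈ f.supp v := f.mem_supp.2 (by
    rw [vb, show β - 2 * k * β = (1 - 2 * k) * β by ring]; exact mul_ne_zero hk1 hβ0)
  have hc' : c ∈ f.supp v := f.mem_supp.2 (by
    rw [vc, show γ - 2 * k * γ = (1 - 2 * k) * γ by ring]; exact mul_ne_zero hk1 hγ0)
  have hr : (f.supp v).card ≤ 3 + 1 := (Finset.card_le_card hvs).trans Finset.card_le_four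
  rcases four hM le_rfl (Or.inr (by omega)) hmin hvR hr hb' hc' ha' ho' hab hac ho.2.1 ho.2.2 (Ne.symm ho.1) with h | h
  · rw [vb, vc] at h
    exact Or.inr (Or.inl (mul_left_cancel₀ (pow_ne_zero 2 hk1) (by linear_combination h)))
  rw [va, vo] at h
  rcases sq_eq_sq_iff_eq_or_eq_neg.1 (show (2 * k) ^ 2 = (1 : F) ^ 2 from
      mul_right_cancel₀ (pow_ne_zero 2 hα0) (by linear_combination h)) with h2k | h2k
  · exact absurd (by linear_combination -h2k) hk1
  have hα2 : 2 * α ^ 2 = 3 := by linear_combination -h2k + 2 * hnorm + 2 * hk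
  rcases four hM le_rfl (Or.inr (by omega)) hmin hvR hr ha' hb' hc' ho' hac.symm hbc.symm ho.1 ho.2.1 (Ne.symm ho.2.2) with h' | h'
  · rw [va, vb] at h'
    exact Or.inr (Or.inr ⟨hα2, Or.inl (by
      linear_combination h' + (-(α ^ 2 * (2 * k - 1)) + (2 * k - 3) * β ^ 2) * h2k)⟩)
  · rw [vc, vo] at h'
    exact Or.inr (Or.inr ⟨hα2, Or.inr (by linear_combination -h' + (2 * k - 3) * γ ^ 2 * h2k)⟩)

/-- Support three, two equal squares, with chosen signs: none over at least seven elements. -/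
theorem three_two (h5 : (5 : F) ≠ 0) {u : ι → F} (hu : u ∈ f.RR M) {a b c : Fin n} (hab : a ≠ b) (hac : a ≠ c)
    (hbc : b ≠ c) (hS : f.supp u = {a, b, c}) (hb : f.co u b ^ 2 = f.co u c ^ 2) : False := by
  classical
  obtain ⟨o, -, ho⟩ := Finset.exists_mem_notMem_of_card_lt_card (s := ({a, b, c} : Finset (Fin n)))
    (t := Finset.univ) (lt_of_le_of_lt Finset.card_le_three (by rw [Finset.card_univ, Fintype.card_fin]; omega))
  simp only [Finset.mem_insert, Finset.mem_singleton, not_or] at ho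
  have hα0 : f.co u a ≠ 0 := f.mem_supp.1 (by rw [hS]; simp)
  have hβ0 : f.co u b ≠ 0 := f.mem_supp.1 (by rw [hS]; simp)
  have hnorm : f.co u a ^ 2 + 2 * f.co u b ^ 2 = 1 := by
    have := f.unit_iff.1 hu.1
    rw [dot_supp, hS, Finset.sum_insert (by simp [hab, hac]), Finset.sum_pair hbc] at this
    linear_combination this + hb
  have hz : ∀ i, i ≠ a → i ≠ b → i ≠ c → f.co u i = 0 := fun i h1 h2 h3' =>
    f.notMem_supp.1 (by rw [hS]; simp [h1, h2, h3'])
  -- the test vector for any choice of signs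
  have test : ∀ x y : F, x ^ 2 = f.co u a ^ 2 → y ^ 2 = f.co u b ^ 2 → 1 - 2 * (x * y + y * y) ≠ 0 →
      x * y + y * y ≠ 0 → x - 2 * (x * y + y * y) * y ≠ 0 →
      ((2 * (x * y + y * y) * x) ^ 2 = (x - 2 * (x * y + y * y) * y) ^ 2 ∨
        (1 - 2 * (x * y + y * y)) ^ 2 * y ^ 2 = y ^ 2) ∧
      ((2 * (x * y + y * y) * x) ^ 2 = (1 - 2 * (x * y + y * y)) ^ 2 * y ^ 2 ∨
        (x - 2 * (x * y + y * y) * y) ^ 2 = y ^ 2) ∧
      ((x - 2 * (x * y + y * y) * y) ^ 2 = (1 - 2 * (x * y + y * y)) ^ 2 * y ^ 2 ∨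
        (2 * (x * y + y * y) * x) ^ 2 = y ^ 2) := by
    intro x y hx hy hk1 hk0 hkb
    have hx0 : x ≠ 0 := fun e => hα0 (by simpa [e] using hx.symm)
    have hy0 : y ≠ 0 := fun e => hβ0 (by simpa [e] using hy.symm)
    obtain ⟨u₀, hu₀⟩ : ∃ w, w = f.vec (fun i => if i = a then x else if i = b then y else if i = c then y else 0) :=
      ⟨_, rfl⟩
    have hc0 : ∀ i, f.co u₀ i = if i = a then x else if i = b then y else if i = c then y else 0 := fun i => by
      rw [hu₀, co_vec]
    have hu₀R : u₀ ∈ f.RR M := hM.sign_mem hu fun i => by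
      rw [hc0]
      split_ifs with e1 e2 e3
      · rw [e1, hx]
      · rw [e2, hy]
      · rw [e3, hy, hb]
      · rw [hz i e1 e2 e3]
    have hS0 : f.supp u₀ ⊆ {a, b, c} := fun i hi => by
      by_contra h
      simp only [Finset.mem_insert, Finset.mem_singleton, not_or] at h
      exact f.mem_supp.1 hi (by simp [hc0, h.1, h.2.1, h.2.2])
    have ua : f.co u₀ a = x := by simp [hc0]
    have ub : f.co u₀ b = y := by simp [hc0, hab.symm]
    have uc : f.co u₀ c = y := by simp [hc0, hac.symm, hbc.symm]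
    obtain ⟨v, hvR, va, vb, vc, vo, hvs⟩ := shifted hM hu₀R (by omega) hab hac hbc ho.1 ho.2.1 ho.2.2 hS0
      (Equiv.swap a b * Equiv.swap b c * Equiv.swap c o) x y y fun i => by
        rw [Equiv.Perm.mul_apply, Equiv.Perm.mul_apply, hc0]
        rcases eq_or_ne i a with rfl | h1
        · simp [Equiv.swap_apply_of_ne_of_ne hac (Ne.symm ho.1), Equiv.swap_apply_of_ne_of_ne hab hac]
        rcases eq_or_ne i b with rfl | h2
        · simp [Equiv.swap_apply_of_ne_of_ne hbc (Ne.symm ho.2.1), Equiv.swap_apply_of_ne_of_ne hac.symm hbc.symm,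
            hbc.symm, h1]
        rcases eq_or_ne i c with rfl | h3'
        · simp [Equiv.swap_apply_of_ne_of_ne ho.2.1 ho.2.2, Equiv.swap_apply_of_ne_of_ne ho.1 ho.2.1, ho.2.1,
            ho.2.2, h1, h2]
        rcases eq_or_ne i o with rfl | h4
        · simp [hab, hac, ho.1, ho.2.1, ho.2.2, Ne.symm ho.1]
        simp [Equiv.swap_apply_of_ne_of_ne h3' h4, Equiv.swap_apply_of_ne_of_ne h2 h3',
          Equiv.swap_apply_of_ne_of_ne h1 h2, h1, h2, h3', h4]
    rw [ua, ub, uc] at va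
    rw [ub, uc] at vb vc
    rw [mul_comm y x] at va vb vc
    have mo : o ∈ f.supp v := f.mem_supp.2 (by rw [vo]; exact hy0)
    have ma : a ∈ f.supp v := f.mem_supp.2 (by rw [va]; simp [f.two, hk0, hx0])
    have mb : b ∈ f.supp v := f.mem_supp.2 (by rw [vb]; exact hkb)
    have mc : c ∈ f.supp v := f.mem_supp.2 (by
      rw [vc, show y - 2 * (x * y + y * y) * y = (1 - 2 * (x * y + y * y)) * y by ring]
      exact mul_ne_zero hk1 hy0)
    have hr : (f.supp v).card ≤ 3 + 1 := (Finset.card_le_card hvs).trans Finset.card_le_four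
    refine ⟨?_, ?_, ?_⟩
    · rcases four hM le_rfl (Or.inr (by omega)) hmin hvR hr ma mb mc mo hac.symm hbc.symm ho.1 ho.2.1 (Ne.symm ho.2.2) with h | h
      · left; rw [va, vb] at h; linear_combination h
      · right; rw [vc, vo] at h; linear_combination h
    · rcases four hM le_rfl (Or.inr (by omega)) hmin hvR hr ma mc mb mo hab.symm hbc ho.1 ho.2.2 (Ne.symm ho.2.1) with h | h
      · left; rw [va, vc] at h; linear_combination h
      · right; rw [vb, vo] at h; linear_combination h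
    · rcases four hM le_rfl (Or.inr (by omega)) hmin hvR hr mb mc ma mo hab hac ho.2.1 ho.2.2 (Ne.symm ho.1) with h | h
      · left; rw [vb, vc] at h; linear_combination h
      · right; rw [va, vo] at h; linear_combination h
  have hC := three_cond hM hn h3 hmin hu hab.symm hbc hac (by
    rw [hS]; ext; simp only [Finset.mem_insert, Finset.mem_singleton]; tauto)
  rw [← hb] at hC
  obtain ⟨α, hα⟩ : ∃ α, α = f.co u a := ⟨_, rfl⟩
  obtain ⟨β, hβ⟩ : ∃ β, β = f.co u b := ⟨_, rfl⟩
  rw [← hα, ← hβ] at hC hnorm test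
  rw [← hα] at hα0
  rw [← hβ] at hβ0
  rcases hC with hβ1 | he | ⟨hβ2, hα2 | h4⟩
  · -- `β² = 1`
    have hαm : α ^ 2 = -1 := by linear_combination hnorm - 2 * hβ1
    have t := test α 1 rfl (by linear_combination -hβ1)
    have hk1 : 1 - 2 * (α * 1 + 1 * 1) ≠ 0 := fun h => h5 (by
      linear_combination (2 * α - 1) * h + 4 * hαm)
    have hk0 : α * 1 + 1 * 1 ≠ 0 := fun h => f.two (by linear_combination (1 - α) * h + hαm)
    have hkb : α - 2 * (α * 1 + 1 * 1) * 1 ≠ 0 := fun h => h5 (by linear_combination (α - 2) * h + hαm)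
    obtain ⟨t1, -, t3⟩ := t hk1 hk0 hkb
    rcases t3 with t3 | t3
    · exact h3 ((mul_eq_zero.1 (by linear_combination t3 + 3 * hαm : (2 : F) * 3 = 0)).resolve_left f.two)
    · have hα8 : 8 * α = -1 := by linear_combination -t3 + (4 * α ^ 2 + 8 * α) * hαm
      rcases t1 with t1 | t1
      · exact h3 ((mul_eq_zero.1 (by
          linear_combination -4 * t1 + 4 * (4 * α ^ 2 + 8 * α - 1) * hαm - 6 * hα8 :
              (2 : F) * 3 = 0)).resolve_left f.two)
      · exact h3 ((mul_eq_zero.1 (by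
          linear_combination -2 * t1 + 8 * hαm + hα8 : (3 : F) * 3 = 0)).elim id id)
  · -- all three equal
    have h3β : 3 * β ^ 2 = 1 := by linear_combination hnorm - he
    have t := test β β (by linear_combination -he) rfl
    have hk1 : 1 - 2 * (β * β + β * β) ≠ 0 := fun h => one_ne_zero (α := F) (by
      linear_combination -3 * h - 4 * h3β)
    have hk0 : β * β + β * β ≠ 0 := by
      rw [← two_mul]; exact mul_ne_zero f.two (mul_ne_zero hβ0 hβ0)
    have hkb : β - 2 * (β * β + β * β) * β ≠ 0 := by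
      rw [show β - 2 * (β * β + β * β) * β = (1 - 2 * (β * β + β * β)) * β by ring]
      exact mul_ne_zero hk1 hβ0
    obtain ⟨-, t2, -⟩ := t hk1 hk0 hkb
    have h15 : (3 : F) * 5 = 0 ∨ (2 : F) * 2 * 2 = 0 := by
      rcases t2 with t2 | t2
      · left
        have : (3 : F) * 5 * β ^ 2 = 0 := by
          linear_combination 9 * t2 - 24 * β ^ 2 * h3β
        simpa [hβ0] using this
      · right
        have : (2 : F) * 2 * 2 * β ^ 2 = 0 := by
          linear_combination -9 * t2 + β ^ 2 * (48 * β ^ 2 - 8) * h3β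
        simpa [hβ0] using this
    rcases h15 with h | h
    · exact (mul_ne_zero h3 h5) h
    · simp [f.two] at h
  · -- the exceptional squares
    have h8 : 8 * α ^ 2 = 3 := by linear_combination hβ2 - 2 * hα2
    have h19 : (19 : F) = 0 := by linear_combination 8 * hnorm - h8 - 8 * hβ2
    obtain ⟨x, hx, hxy⟩ : ∃ x, x ^ 2 = α ^ 2 ∧ 4 * (x * β) = 3 := by
      have h9 : (4 * (α * β)) ^ 2 = (3 : F) ^ 2 := by linear_combination 2 * β ^ 2 * h8 + 3 * hβ2
      rcases sq_eq_sq_iff_eq_or_eq_neg.1 h9 with e | e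
      · exact ⟨α, rfl, e⟩
      · exact ⟨-α, by ring, by linear_combination -e⟩
    have t := test x β hx rfl
    have hk : 4 * (x * β + β * β) = 9 := by linear_combination hxy + 2 * hβ2
    have hk1 : 1 - 2 * (x * β + β * β) ≠ 0 := fun h => by
      have h7 : (7 : F) = 0 := by linear_combination -2 * h - hk
      exact h5 (by linear_combination -2 * h7 + h19)
    have hk0 : x * β + β * β ≠ 0 := fun h => by
      have h9 : (3 : F) * 3 = 0 := by linear_combination 4 * h - hk
      simp [h3] at h9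
    have hkb : x - 2 * (x * β + β * β) * β ≠ 0 := fun h => by
      have h24 : (2 : F) * 2 * 2 * 3 = 0 := by
        linear_combination -4 * β * h + hxy - β ^ 2 * 2 * hk - 9 * hβ2
      simp [f.two, h3] at h24
    obtain ⟨-, -, t3⟩ := t hk1 hk0 hkb
    have h5' : (5 : F) = 0 := by
      rcases t3 with t3 | t3
      · have e : (135 : F) = 0 := by
          linear_combination 16 * β ^ 2 * t3 - (4 * (x - 2 * (x * β + β * β) * β) * β - 24) *
              (hxy - 2 * β ^ 2 * hk - 9 * hβ2) + 4 * β ^ 4 * (4 * (x * β + β * β) + 5) * hk +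
              49 * (2 * β ^ 2 + 3) * hβ2
        exact absurd (by linear_combination e - 7 * h19) f.two
      · have hx8 : 8 * x ^ 2 = 3 := by linear_combination h8 + 8 * hx
        have e : (195 : F) = 0 := by
          linear_combination 32 * t3 - x ^ 2 * 8 * (4 * (x * β + β * β) + 9) * hk - 81 * hx8 + 16 * hβ2
        linear_combination e - 10 * h19
    exact h5 h5'
  · exact h3 ((mul_eq_zero.1 (by linear_combination -h4 : (3 : F) * β ^ 2 = 0)).resolve_right (pow_ne_zero 2 hβ0))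

/-- No minimal support three over at least seven elements. -/
theorem min_ne_three (h5 : (5 : F) ≠ 0) {u : ι → F} (hu : u ∈ f.RR M) (hs : (f.supp u).card = 3) : False := by
  classical
  obtain ⟨a, b, c, hab, hac, hbc, hS⟩ := Finset.card_eq_three.1 hs
  by_contra
  have perm₁ : f.supp u = {b, a, c} := by rw [hS]; ext; simp only [Finset.mem_insert, Finset.mem_singleton]; tauto
  have perm₂ : f.supp u = {c, a, b} := by rw [hS]; ext; simp only [Finset.mem_insert, Finset.mem_singleton]; tauto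
  have hbc' : f.co u b ^ 2 ≠ f.co u c ^ 2 := fun e => three_two hM hn h3 hmin h5 hu hab hac hbc hS e
  have hac' : f.co u a ^ 2 ≠ f.co u c ^ 2 := fun e => three_two hM hn h3 hmin h5 hu hab.symm hbc hac perm₁ e
  have hab' : f.co u a ^ 2 ≠ f.co u b ^ 2 := fun e => three_two hM hn h3 hmin h5 hu hac.symm hbc.symm hab perm₂ e
  have val : ∀ {x y z : Fin n}, x ≠ y → x ≠ z → y ≠ z → f.supp u = {x, y, z} → f.co u y ^ 2 ≠ f.co u z ^ 2 →
      f.co u x ^ 2 = 1 ∨ 2 * f.co u x ^ 2 = 3 := fun h1 h2 h3' h4 h6 => by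
    rcases three_cond hM hn h3 hmin hu h1 h2 h3' h4 with h | h | h
    · exact Or.inl h
    · exact absurd h h6
    · exact Or.inr h.1
  rcases val hab hac hbc hS hbc' with A | A <;> rcases val hab.symm hbc hac perm₁ hac' with B | B <;>
    rcases val hac.symm hbc.symm hab perm₂ hab' with C | C <;>
    first
    | exact hab' (mul_left_cancel₀ f.two (by linear_combination A - B))
    | exact hab' (A.trans B.symm)
    | exact hac' (mul_left_cancel₀ f.two (by linear_combination A - C))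
    | exact hac' (A.trans C.symm)
    | exact hbc' (mul_left_cancel₀ f.two (by linear_combination B - C))
    | exact hbc' (B.trans C.symm)

omit h3 hmin in
/-- A vector of small support, given any vector off the frame. -/
theorem exists_small (hp : (Fintype.card F).Prime) {u : ι → F} (hu : u ∈ f.RR M) (h2 : 2 ≤ (f.supp u).card) :
    ∃ v ∈ f.RR M, (f.supp v).card = 2 ∨ ((f.supp v).card = 3 ∧ (5 : F) = 0) ∨
      ((f.supp v).card = 4 ∧ (3 : F) = 0) := by
  classical
  have hex : ∃ s, ∃ v ∈ f.RR M, 2 ≤ (f.supp v).card ∧ (f.supp v).card = s := ⟨_, u, hu, h2, rfl⟩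
  obtain ⟨v, hv, hv2, hvs⟩ := Nat.find_spec hex
  have hmin : f.MinSupp M (f.supp v).card := fun w hw hw2 => Or.inl (by
    rw [hvs]; exact Nat.find_le ⟨w, hw, hw2, rfl⟩)
  refine ⟨v, hv, ?_⟩
  rcases (by omega : (f.supp v).card = 2 ∨ (f.supp v).card = 3 ∨ (f.supp v).card = 4 ∨ 5 ≤ (f.supp v).card) with
    h | h | h | h
  · exact Or.inl h
  · refine Or.inr (Or.inl ⟨h, ?_⟩)
    by_contra h5
    have h3 : (3 : F) ≠ 0 := fun h3 => by
      haveI : Fact (Fintype.card F).Prime := ⟨hp⟩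
      have hcard : Fintype.card F = 3 := by
        haveI : CharP F (Fintype.card F) := charP_of_card_eq_prime rfl
        have : ((3 : ℕ) : F) = 0 := by exact_mod_cast h3
        exact (Nat.prime_dvd_prime_iff_eq hp Nat.prime_three).1 ((CharP.cast_eq_zero_iff F _ 3).1 this)
      have hd := f.unit_iff.1 hv.1
      rw [dot_supp, Finset.sum_congr rfl (g := fun _ => (1 : F)) (fun i hi => by
        have := FiniteField.pow_card_sub_one_eq_one _ (f.mem_supp.1 hi)
        rw [hcard] at this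
        rw [← sq]; exact this), Finset.sum_const, h, nsmul_eq_mul, mul_one, Nat.cast_ofNat, h3] at hd
      exact zero_ne_one hd
    rw [h] at hmin
    exact min_ne_three hM hn h3 hmin h5 hv h
  · refine Or.inr (Or.inr ⟨h, ?_⟩)
    by_contra h3
    rw [h] at hmin
    exact min_ne_four hM (by omega) h3 hmin hv h
  · exact (min_le_four hM h hmin hv rfl).elim

omit h3 hmin in
/-- A vector of small support whose reflection does not permute the frame, given any such vector. -/
theorem exists_small_good (hp : (Fintype.card F).Prime) {u : ι → F} (hu : u ∈ f.RR M) (h2 : 2 ≤ (f.supp u).card)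
    (hg : (f.supp u).card = 2 → ∃ i ∈ f.supp u, 2 * f.co u i ^ 2 ≠ 1) :
    ∃ v ∈ f.RR M, ((f.supp v).card = 2 ∧ ∃ i ∈ f.supp v, 2 * f.co v i ^ 2 ≠ 1) ∨
      ((f.supp v).card = 3 ∧ ((5 : F) = 0 ∨ ∃ h : F, 2 * h ^ 2 = 1)) ∨
      ((f.supp v).card = 4 ∧ (3 : F) = 0) := by
  classical
  by_cases hsq : ∃ h : F, 2 * h ^ 2 = 1
  swap
  · obtain ⟨v, hv, hcase⟩ := exists_small hM hn hp hu h2
    refine ⟨v, hv, ?_⟩
    rcases hcase with h | h | h
    · obtain ⟨i, hi⟩ := f.supp_nonempty hv.1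
      exact Or.inl ⟨h, i, hi, fun e => hsq ⟨_, e⟩⟩
    · exact Or.inr (Or.inl ⟨h.1, Or.inl h.2⟩)
    · exact Or.inr (Or.inr h)
  obtain ⟨h, hh⟩ := hsq
  have h3 : (3 : F) ≠ 0 := fun h3 => by
    haveI : Fact (Fintype.card F).Prime := ⟨hp⟩
    have hcard : Fintype.card F = 3 := by
      haveI : CharP F (Fintype.card F) := charP_of_card_eq_prime rfl
      have : ((3 : ℕ) : F) = 0 := by exact_mod_cast h3
      exact (Nat.prime_dvd_prime_iff_eq hp Nat.prime_three).1 ((CharP.cast_eq_zero_iff F _ 3).1 this)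
    have hh0 : h ≠ 0 := fun e => by simp [e] at hh
    have := FiniteField.pow_card_sub_one_eq_one _ hh0
    rw [hcard] at this
    exact one_ne_zero (α := F) (by linear_combination hh - 2 * this)
  by_cases hA : ∃ v ∈ f.RR M, (f.supp v).card = 2 ∧ ∃ i ∈ f.supp v, 2 * f.co v i ^ 2 ≠ 1
  · obtain ⟨v, hv, h'⟩ := hA
    exact ⟨v, hv, Or.inl h'⟩
  by_cases hB : ∃ v ∈ f.RR M, (f.supp v).card = 3
  · obtain ⟨v, hv, h'⟩ := hB
    exact ⟨v, hv, Or.inr (Or.inl ⟨h', Or.inr ⟨h, hh⟩⟩)⟩
  exfalso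
  have hbig : ∀ w ∈ f.RR M, 3 ≤ (f.supp w).card → 4 ≤ (f.supp w).card := fun w hw hw3 => by
    rcases eq_or_ne (f.supp w).card 3 with e | e
    · exact absurd ⟨w, hw, e⟩ hB
    · omega
  have hu3 : 3 ≤ (f.supp u).card := by
    rcases eq_or_ne (f.supp u).card 2 with e | e
    · exact absurd ⟨u, hu, e, hg e⟩ hA
    · omega
  have hex : ∃ s, ∃ v ∈ f.RR M, 3 ≤ (f.supp v).card ∧ (f.supp v).card = s := ⟨_, u, hu, hu3, rfl⟩
  obtain ⟨v, hv, hv3, hvs⟩ := Nat.find_spec hex
  have hv4 := hbig v hv hv3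
  have hmin : f.MinSupp M (f.supp v).card := fun w hw hw2 => by
    rcases eq_or_ne (f.supp w).card 2 with e | e
    · exact Or.inr ⟨e, hv4, h3⟩
    · exact Or.inl (by rw [hvs]; exact Nat.find_le ⟨w, hw, by omega, rfl⟩)
  rcases hv4.eq_or_lt with e | e
  · rw [← e] at hmin
    exact min_ne_four hM (by omega) h3 hmin hv e.symm
  · exact min_le_four hM e hmin hv rfl

end Small

section Omega

/-- Signed rearrangements of vectors with two equal squares. -/
theorem move_sq' (hM : f.HasMono M) {k : ℕ} {u w : ι → F} (hu : u ∈ f.RR M) {k₀ l₀ : Fin n} (hkl : k₀ ≠ l₀)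
    (hsq : f.co u k₀ ^ 2 = f.co u l₀ ^ 2) (g h : Fin k → Fin n)
    (hg : Function.Injective g) (hh : Function.Injective h) (hug : ∀ i, i ∉ Set.range g → f.co u i = 0)
    (hwh : ∀ i, i ∉ Set.range h → f.co w i = 0) (he : ∀ i, f.co w (h i) ^ 2 = f.co u (g i) ^ 2) :
    w ∈ f.RR M := by
  classical
  let e : {x // x ∈ Set.range g} ≃ {x // x ∈ Set.range h} :=
    (Equiv.ofInjective g hg).symm.trans (Equiv.ofInjective h hh)
  refine hM.move_sq hu hkl hsq e.extendSubtype fun i => ?_
  by_cases hi : i ∈ Set.range g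
  · obtain ⟨j, rfl⟩ := hi
    rw [Equiv.extendSubtype_apply_of_mem e _ ⟨j, rfl⟩,
      show ((e ⟨g j, ⟨j, rfl⟩⟩ : {x // x ∈ Set.range h}) : Fin n) = h j from ?_, he]
    simp only [e, Equiv.trans_apply]
    rw [Equiv.ofInjective_symm_apply hg]
    rfl
  · rw [hug i hi, hwh _ (Equiv.extendSubtype_not_mem e _ hi)]

variable (hM : f.HasMono M) (hp : (Fintype.card F).Prime)
include hM hp

/-- Three elements: supports of four. -/
theorem omega_le_char_three (hn : 5 ≤ n) (h3 : (3 : F) = 0) {v : ι → F} (hv : v ∈ f.RR M)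
    (hc : (f.supp v).card = 4) : Cfsg.Omega F ⇑Q ≤ M := by
  classical
  haveI : Fact (Fintype.card F).Prime := ⟨hp⟩
  haveI : CharP F (Fintype.card F) := charP_of_card_eq_prime rfl
  have hcard : Fintype.card F = 3 := (Nat.prime_dvd_prime_iff_eq hp Nat.prime_three).1
    ((CharP.cast_eq_zero_iff F _ 3).1 (by exact_mod_cast h3))
  have hsq : ∀ x : F, x ≠ 0 → x ^ 2 = 1 := fun x hx => by
    have := FiniteField.pow_card_sub_one_eq_one x hx
    rwa [hcard] at this
  obtain ⟨a, b, c, d, hab, hac, had, hbc, hbd, hcd, hS⟩ := Finset.card_eq_four.1 hc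
  have hunits : ∀ (h : Fin 4 → Fin n) (w : ι → F), Function.Injective h →
      (∀ i, i ∉ Set.range h → f.co w i = 0) → (∀ i, f.co w (h i) ≠ 0) → w ∈ f.RR M := fun h w hh hw hne => by
    refine move_sq' hM hv (k₀ := a) (l₀ := b) hab (by
      rw [hsq _ (f.mem_supp.1 (by rw [hS]; simp)), hsq _ (f.mem_supp.1 (by rw [hS]; simp))]) ![a, b, c, d] h (fun x y e => ?_) hh (fun i hi => ?_) hw fun i => ?_
    · fin_cases x <;> fin_cases y <;> simp_all [eq_comm]
    · refine f.notMem_supp.1 fun h' => hi ?_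
      rw [hS] at h'
      simp only [Finset.mem_insert, Finset.mem_singleton] at h'
      rcases h' with e | e | e | e
      · exact ⟨0, e.symm⟩
      · exact ⟨1, e.symm⟩
      · exact ⟨2, e.symm⟩
      · exact ⟨3, e.symm⟩
    · rw [hsq _ (hne i), hsq]
      rw [← f.mem_supp, hS]
      fin_cases i <;> simp
  have hlt : ∀ j : ℕ, j < 5 → j < n := fun j hj => lt_of_lt_of_le hj hn
  obtain ⟨i, hi⟩ : ∃ i : Fin n, (i : ℕ) = 0 := ⟨⟨0, hlt 0 (by norm_num)⟩, rfl⟩
  obtain ⟨j, hj⟩ : ∃ i : Fin n, (i : ℕ) = 1 := ⟨⟨1, hlt 1 (by norm_num)⟩, rfl⟩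
  obtain ⟨k, hk⟩ : ∃ i : Fin n, (i : ℕ) = 2 := ⟨⟨2, hlt 2 (by norm_num)⟩, rfl⟩
  obtain ⟨l₁, hl₁⟩ : ∃ i : Fin n, (i : ℕ) = 3 := ⟨⟨3, hlt 3 (by norm_num)⟩, rfl⟩
  obtain ⟨l₂, hl₂⟩ : ∃ i : Fin n, (i : ℕ) = 4 := ⟨⟨4, hlt 4 (by norm_num)⟩, rfl⟩
  have hij : i ≠ j := fun e => by simp [e, hj] at hi
  have hik : i ≠ k := fun e => by simp [e, hk] at hi
  have hjk : j ≠ k := fun e => by simp [e, hk] at hj
  obtain ⟨u, hu'⟩ : ∃ u, u = f.b i + f.b j + f.b k := ⟨_, rfl⟩
  have huc : ∀ l, f.co u l = (if l = i then 1 else 0) + (if l = j then 1 else 0) + (if l = k then 1 else 0) :=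
    fun l => by rw [hu', map_add, map_add, Pi.add_apply, Pi.add_apply, f.co_b, f.co_b, f.co_b]
  have hus : ∀ l, l ∉ ({i, j, k} : Finset (Fin n)) → f.co u l = 0 := fun l hl => by
    simp only [Finset.mem_insert, Finset.mem_singleton, not_or] at hl
    simp [huc, hl.1, hl.2.1, hl.2.2]
  have hu : Q u = 0 := by
    rw [hu', QuadraticMap.map_add (⇑Q), QuadraticMap.map_add (⇑Q), f.quad, f.quad, f.quad, f.orth i j hij,
      QuadraticMap.polar_add_left, f.orth i k hik, f.orth j k hjk]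
    linear_combination f.c * h3
  have hub : ∀ l, l ∉ ({i, j, k} : Finset (Fin n)) → f.b l ∈ rootSpace M hu := fun l hl => by
    have hl' := hl
    simp only [Finset.mem_insert, Finset.mem_singleton, not_or] at hl'
    refine rootSpace_of_pair hM hp hu (by rw [f.polar_b_right, hus l hl, mul_zero]) (hM.b_mem l) ?_
    refine hunits ![l, i, j, k] _ (fun x y e => ?_) (fun z hz => ?_) fun z => ?_
    · fin_cases x <;> fin_cases y <;> simp_all [eq_comm]
    · have : z ≠ l ∧ z ≠ i ∧ z ≠ j ∧ z ≠ k := ⟨fun e => hz ⟨0, e.symm⟩, fun e => hz ⟨1, e.symm⟩,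
        fun e => hz ⟨2, e.symm⟩, fun e => hz ⟨3, e.symm⟩⟩
      simp [f.co_b, huc, this.1, this.2.1, this.2.2.1, this.2.2.2]
    · fin_cases z <;> simp [f.co_b, huc, hl'.1, hl'.2.1, hl'.2.2, Ne.symm hl'.1, Ne.symm hl'.2.1, Ne.symm hl'.2.2,
        hij, hik, hjk, hij.symm, hik.symm, hjk.symm]
  have hdiff : ∀ p q r : Fin n, p ≠ q → p ≠ r → q ≠ r → ({i, j, k} : Finset (Fin n)) = {p, q, r} →
      f.b p - f.b q ∈ rootSpace M hu := by
    intro p q r hpq hpr hqr hset
    have hmem : ∀ z : Fin n, z ∈ ({i, j, k} : Finset (Fin n)) ↔ z = p ∨ z = q ∨ z = r := fun z => by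
      rw [hset]; simp
    have hn1 : l₁ ∉ ({i, j, k} : Finset (Fin n)) := by simp [Fin.ext_iff, hi, hj, hk, hl₁]
    have hn2 : l₂ ∉ ({i, j, k} : Finset (Fin n)) := by simp [Fin.ext_iff, hi, hj, hk, hl₂]
    have h12 : l₁ ≠ l₂ := by simp [Fin.ext_iff, hl₁, hl₂]
    have hu1 : ∀ z, f.co u z = if z = p ∨ z = q ∨ z = r then 1 else 0 := fun z => by
      by_cases h : z ∈ ({i, j, k} : Finset (Fin n))
      · rw [if_pos ((hmem z).1 h)]
        simp only [Finset.mem_insert, Finset.mem_singleton] at h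
        rcases h with rfl | rfl | rfl <;> simp [huc, hij, hik, hjk, hij.symm, hik.symm, hjk.symm]
      · rw [hus z h, if_neg fun h' => h ((hmem z).2 h')]
    have hn1' := fun h => hn1 ((hmem l₁).2 h)
    have hn2' := fun h => hn2 ((hmem l₂).2 h)
    have a1 : l₁ ≠ p ∧ l₁ ≠ q ∧ l₁ ≠ r := by simpa [not_or] using hn1'
    have a2 : l₂ ≠ p ∧ l₂ ≠ q ∧ l₂ ≠ r := by simpa [not_or] using hn2'
    have h2' : (1 + 1 : F) ≠ 0 := by rw [one_add_one_eq_two]; exact f.two
    have key : f.b p - f.b q + f.b l₁ + f.b l₂ ∈ rootSpace M hu := by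
      refine rootSpace_of_pair hM hp hu ?_ ?_ ?_
      · rw [QuadraticMap.polar_add_right, QuadraticMap.polar_add_right, QuadraticMap.polar_sub_right,
          f.polar_b_right, f.polar_b_right, f.polar_b_right, f.polar_b_right, hu1, hu1, hu1, hu1]
        simp [a1, a2]
      · refine hunits ![p, q, l₁, l₂] _ (fun x y e => ?_) (fun z hz => ?_) fun z => ?_
        · fin_cases x <;> fin_cases y <;> simp_all [eq_comm]
        · have : z ≠ p ∧ z ≠ q ∧ z ≠ l₁ ∧ z ≠ l₂ := ⟨fun e => hz ⟨0, e.symm⟩, fun e => hz ⟨1, e.symm⟩,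
            fun e => hz ⟨2, e.symm⟩, fun e => hz ⟨3, e.symm⟩⟩
          simp [f.co_b, this.1, this.2.1, this.2.2.1, this.2.2.2]
        · fin_cases z <;> simp [f.co_b, hpq, hpq.symm, h12, h12.symm, a1, a2, Ne.symm a1.1, Ne.symm a1.2.1,
            Ne.symm a2.1, Ne.symm a2.2.1]
      · refine hunits ![p, r, l₁, l₂] _ (fun x y e => ?_) (fun z hz => ?_) fun z => ?_
        · fin_cases x <;> fin_cases y <;> simp_all [eq_comm]
        · have : z ≠ p ∧ z ≠ r ∧ z ≠ l₁ ∧ z ≠ l₂ := ⟨fun e => hz ⟨0, e.symm⟩, fun e => hz ⟨1, e.symm⟩,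
            fun e => hz ⟨2, e.symm⟩, fun e => hz ⟨3, e.symm⟩⟩
          rcases eq_or_ne z q with rfl | hzq
          · simp [f.co_b, hu1, this.1, this.2.1, this.2.2.1, this.2.2.2]
          · simp [f.co_b, hu1, this.1, this.2.1, this.2.2.1, this.2.2.2, hzq]
        · fin_cases z <;> simp [f.co_b, hu1, hpq, hpq.symm, hpr, hpr.symm, hqr, hqr.symm, h12, h12.symm, a1, a2,
            Ne.symm a1.1, Ne.symm a1.2.1, Ne.symm a1.2.2, Ne.symm a2.1, Ne.symm a2.2.1, Ne.symm a2.2.2, h2']
    have := Submodule.sub_mem _ (Submodule.sub_mem _ key (hub l₂ hn2)) (hub l₁ hn1)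
    simpa using this
  refine omega_le_of_point hM hp (by omega) hu (i := i) (j := l₁) (by simp [huc, hij, hik]) (hus l₁ (by
    simp [Fin.ext_iff, hi, hj, hk, hl₁])) (mem_of_split hu _ hus hub fun x hx hux => ?_)
  have e1 := hdiff i j k hij hik hjk rfl
  have e2 := hdiff j k i hjk hij.symm hik.symm (by
    ext; simp only [Finset.mem_insert, Finset.mem_singleton]; tauto)
  have hsum : f.co x i + f.co x j + f.co x k = 0 := by
    rw [hu', QuadraticMap.polar_add_left, QuadraticMap.polar_add_left, f.polar_b_left, f.polar_b_left,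
      f.polar_b_left, ← mul_add, ← mul_add] at hux
    exact (mul_eq_zero.1 hux).resolve_left f.two_c
  have hxe : x = f.co x i • (f.b i - f.b j) + (f.co x i + f.co x j) • (f.b j - f.b k) := f.co_ext fun z => by
    simp only [map_add, map_smul, map_sub, Pi.add_apply, Pi.smul_apply, Pi.sub_apply, f.co_b, smul_eq_mul]
    rcases eq_or_ne z i with rfl | z1
    · simp [hij, hik]
    rcases eq_or_ne z j with rfl | z2
    · simp [hij.symm, hjk]
    rcases eq_or_ne z k with rfl | z3
    · simp [hik.symm, hjk.symm]; linear_combination hsum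
    simp [z1, z2, z3, hx z (by simp [z1, z2, z3])]
  rw [hxe]
  exact Submodule.add_mem _ (Submodule.smul_mem _ _ e1) (Submodule.smul_mem _ _ e2)

/-- Five elements: supports of three. -/
theorem omega_le_char_five (hn : 5 ≤ n) (h5 : (5 : F) = 0) {v : ι → F} (hv : v ∈ f.RR M)
    (hc : (f.supp v).card = 3) : Cfsg.Omega F ⇑Q ≤ M := by
  classical
  haveI : Fact (Fintype.card F).Prime := ⟨hp⟩
  haveI : CharP F (Fintype.card F) := charP_of_card_eq_prime rfl
  have hcard : Fintype.card F = 5 := (Nat.prime_dvd_prime_iff_eq hp (by norm_num)).1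
    ((CharP.cast_eq_zero_iff F _ 5).1 (by exact_mod_cast h5))
  have h3 : (3 : F) ≠ 0 := fun h => f.two (by linear_combination h5 - h)
  have hsq : ∀ x : F, x ≠ 0 → x ^ 2 = 1 ∨ x ^ 2 = -1 := fun x hx => by
    have := FiniteField.pow_card_sub_one_eq_one x hx
    rw [hcard] at this
    exact sq_eq_one_iff.1 (by rw [← pow_mul]; exact this)
  obtain ⟨a, b, c, hab, hac, hbc, hS⟩ := Finset.card_eq_three.1 hc
  -- put the square `-1` last
  obtain ⟨g, hg, hgs, g0, g1, g2⟩ : ∃ g : Fin 3 → Fin n, Function.Injective g ∧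
      (∀ i, i ∉ Set.range g → f.co v i = 0) ∧ f.co v (g 0) ^ 2 = 1 ∧ f.co v (g 1) ^ 2 = 1 ∧
      f.co v (g 2) ^ 2 = -1 := by
    have hnorm := f.unit_iff.1 hv.1
    rw [dot_supp, hS, Finset.sum_insert (by simp [hab, hac]), Finset.sum_pair hbc] at hnorm
    have m : ∀ z, z ∈ ({a, b, c} : Finset (Fin n)) → f.co v z ≠ 0 := fun z hz => f.mem_supp.1 (hS ▸ hz)
    have rest : ∀ g : Fin 3 → Fin n, ({a, b, c} : Finset (Fin n)) ⊆ {g 0, g 1, g 2} →
        ∀ i, i ∉ Set.range g → f.co v i = 0 := fun g hgs i hi => f.notMem_supp.1 fun h => hi (by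
      have := hgs (hS ▸ h)
      simp only [Finset.mem_insert, Finset.mem_singleton] at this
      rcases this with e | e | e
      · exact ⟨0, e.symm⟩
      · exact ⟨1, e.symm⟩
      · exact ⟨2, e.symm⟩)
    rcases hsq _ (m a (by simp)) with A | A <;> rcases hsq _ (m b (by simp)) with B | B <;>
      rcases hsq _ (m c (by simp)) with C | C <;>
      first
      | exact ⟨![a, b, c], fun x y e => by fin_cases x <;> fin_cases y <;> simp_all [eq_comm],
          rest _ (by intro z; simp), by simpa using A, by simpa using B, by simpa using C⟩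
      | exact ⟨![a, c, b], fun x y e => by fin_cases x <;> fin_cases y <;> simp_all [eq_comm],
          rest _ (by intro z; simp only [Finset.mem_insert, Finset.mem_singleton]; tauto),
          by simpa using A, by simpa using C, by simpa using B⟩
      | exact ⟨![b, c, a], fun x y e => by fin_cases x <;> fin_cases y <;> simp_all [eq_comm],
          rest _ (by intro z; simp only [Finset.mem_insert, Finset.mem_singleton]; tauto),
          by simpa using B, by simpa using C, by simpa using A⟩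
      | exact absurd (by linear_combination hnorm - A - B - C : (2 : F) = 0) f.two
      | exact absurd (by linear_combination -hnorm + A + B + C : (2 : F) = 0) f.two
      | exact absurd (by linear_combination -hnorm + A + B + C : (2 : F) * 2 = 0) (mul_ne_zero f.two f.two)
  have hlt : ∀ j : ℕ, j < 5 → j < n := fun j hj => lt_of_lt_of_le hj hn
  obtain ⟨i, hi⟩ : ∃ i : Fin n, (i : ℕ) = 0 := ⟨⟨0, hlt 0 (by norm_num)⟩, rfl⟩
  obtain ⟨j, hj⟩ : ∃ i : Fin n, (i : ℕ) = 1 := ⟨⟨1, hlt 1 (by norm_num)⟩, rfl⟩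
  obtain ⟨k, hk⟩ : ∃ i : Fin n, (i : ℕ) = 2 := ⟨⟨2, hlt 2 (by norm_num)⟩, rfl⟩
  have hij : i ≠ j := fun e => by simp [e, hj] at hi
  obtain ⟨u, hu'⟩ : ∃ u, u = f.b i + (2 : F) • f.b j := ⟨_, rfl⟩
  have huc : ∀ l, f.co u l = (if l = i then 1 else 0) + 2 * (if l = j then 1 else 0) := fun l => by
    rw [hu', map_add, map_smul, Pi.add_apply, Pi.smul_apply, f.co_b, f.co_b, smul_eq_mul]
  have hus : ∀ l, l ∉ ({i, j} : Finset (Fin n)) → f.co u l = 0 := fun l hl => by
    simp only [Finset.mem_insert, Finset.mem_singleton, not_or] at hl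
    simp [huc, hl.1, hl.2]
  have hu : Q u = 0 := by
    rw [hu', QuadraticMap.map_add (⇑Q), QuadraticMap.map_smul, f.quad, f.quad, QuadraticMap.polar_smul_right,
      f.orth i j hij, smul_eq_mul, smul_eq_mul]
    linear_combination f.c * h5
  refine omega_le_of_point hM hp (by omega) hu (i := i) (j := k) (by simp [huc, hij]) (hus k (by
    simp [Fin.ext_iff, hi, hj, hk])) (mem_of_split hu _ hus (fun l hl => ?_) fun x hx hux => ?_)
  · have hl' := hl
    simp only [Finset.mem_insert, Finset.mem_singleton, not_or] at hl'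
    refine rootSpace_of_pair hM hp hu (by rw [f.polar_b_right, hus l hl, mul_zero]) (hM.b_mem l) ?_
    refine move' hM hv (by omega) g ![l, i, j] hg (fun x y e => ?_) hgs (fun z hz => ?_) fun z => ?_
    · fin_cases x <;> fin_cases y <;> simp_all [eq_comm]
    · have : z ≠ l ∧ z ≠ i ∧ z ≠ j := ⟨fun e => hz ⟨0, e.symm⟩, fun e => hz ⟨1, e.symm⟩, fun e => hz ⟨2, e.symm⟩⟩
      simp [f.co_b, huc, this.1, this.2.1, this.2.2]
    · fin_cases z
      · simp [f.co_b, huc, hl'.1, hl'.2, g0]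
      · simp [f.co_b, huc, Ne.symm hl'.1, hij, g1]
      · simp [f.co_b, huc, Ne.symm hl'.2, hij.symm, g2]
        linear_combination h5
  · have hsum : f.co x i + 2 * f.co x j = 0 := by
      rw [hu', QuadraticMap.polar_add_left, QuadraticMap.polar_smul_left, f.polar_b_left, f.polar_b_left,
        smul_eq_mul, mul_left_comm, ← mul_add] at hux
      exact (mul_eq_zero.1 hux).resolve_left f.two_c
    have hxe : x = f.co x i • u := f.co_ext fun z => by
      rw [map_smul, Pi.smul_apply, huc, smul_eq_mul]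
      rcases eq_or_ne z i with rfl | z1
      · simp [hij]
      rcases eq_or_ne z j with rfl | z2
      · simp [hij.symm]; linear_combination f.co x z * h5 - 2 * hsum
      simp [z1, z2, hx z (by simp [z1, z2])]
    rw [hxe]
    exact Submodule.smul_mem _ _ self_mem_rootSpace

end Omega

/-- A vector of small support gives all of `Ω`. -/
theorem omega_le_of_small (hM : f.HasMono M) (hp : (Fintype.card F).Prime)
    (hMΩ : M ≤ Cfsg.Omega F ⇑Q) (hn : 5 ≤ n) {v : ι → F} (hv : v ∈ f.RR M)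
    (h : ((f.supp v).card = 2 ∧ ∃ i ∈ f.supp v, 2 * f.co v i ^ 2 ≠ 1) ∨
      ((f.supp v).card = 3 ∧ ((5 : F) = 0 ∨ ∃ h : F, 2 * h ^ 2 = 1)) ∨
      ((f.supp v).card = 4 ∧ (3 : F) = 0)) : Cfsg.Omega F ⇑Q ≤ M := by
  classical
  have hdot : ∀ i, f.dot v (f.b i) = f.co v i := fun i => by rw [dot_comm, f.dot_b]
  rcases h with ⟨hc, a, ha, hne⟩ | ⟨hc, h5 | ⟨h, hh⟩⟩ | ⟨hc, h3⟩
  · obtain ⟨d, hd, hda⟩ := Finset.exists_mem_ne (by omega : 1 < (f.supp v).card) a
    obtain ⟨e, -, he⟩ := Finset.exists_mem_notMem_of_card_lt_card (s := f.supp v) (t := Finset.univ)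
      (by rw [Finset.card_univ, Fintype.card_fin]; omega)
    have hsupp : ({a, d} : Finset (Fin n)) = f.supp v := Finset.eq_of_subset_of_card_le
      (fun i hi => by
        simp only [Finset.mem_insert, Finset.mem_singleton] at hi
        rcases hi with rfl | rfl <;> assumption) (by rw [Finset.card_pair hda.symm, hc])
    have hz : ∀ i, i ≠ a → i ≠ d → f.co v i = 0 := fun i h1 h2 => f.notMem_supp.1 (by rw [← hsupp]; simp [h1, h2])
    refine omega_le_of_local hM hp (by omega) hMΩ (e := e) hda.symm (fun h => he (h ▸ ha)) (fun h => he (h ▸ hd)) hv hz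
      (f.mem_supp.1 ha) (f.mem_supp.1 hd) (g₀ := rf v * rf (f.b a)) (pair_mem_local hM hv (hM.b_mem a)
        (fun i hi => hz i (by rintro rfl; simp at hi) (by rintro rfl; simp at hi)) (f.b_mem_sub _ (by simp)))
      (x := a) (by simp) (Finset.one_lt_card.2 ⟨a, f.mem_supp.2 ?_, d, f.mem_supp.2 ?_, hda.symm⟩)
    all_goals rw [ap_mul, rf_b_b, if_pos rfl, map_neg, map_neg, Pi.neg_apply, neg_ne_zero, f.co_rf hv.1, hdot, f.co_b]
    · rw [if_pos rfl]
      exact fun e' => hne (by linear_combination -e')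
    · rw [if_neg hda, zero_sub, neg_ne_zero]
      exact mul_ne_zero (mul_ne_zero f.two (f.mem_supp.1 ha)) (f.mem_supp.1 hd)
  · exact omega_le_char_five hM hp hn h5 hv hc
  · obtain ⟨a, d, e, had, hae, hde, hS⟩ := Finset.card_eq_three.1 hc
    have hu₀ := swap_mem_RR hM had hh
    have hh0 : h ≠ 0 := fun e => by simp [e] at hh
    have hm : ∀ i ∈ ({a, d, e} : Finset (Fin n)), f.co v i ≠ 0 := fun i hi => f.mem_supp.1 (hS ▸ hi)
    refine omega_le_of_local hM hp (by omega) hMΩ had hae hde hu₀ (fun i h1 h2 => ?_) ?_ ?_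
      (g₀ := rf v * rf (f.b a)) (pair_mem_local hM hv (hM.b_mem a)
        (fun i hi => f.notMem_supp.1 (hS ▸ hi)) (f.b_mem_sub _ (by simp)))
      (x := a) (by simp) (Finset.one_lt_card.2 ⟨d, f.mem_supp.2 ?_, e, f.mem_supp.2 ?_, hde⟩)
    · simp [f.co_b, h1, h2]
    · simpa [f.co_b, had] using hh0
    · simpa [f.co_b, had.symm] using hh0
    all_goals
      rw [ap_mul, rf_b_b, if_pos rfl, map_neg, map_neg, Pi.neg_apply, neg_ne_zero, f.co_rf hv.1, hdot, f.co_b]
    · rw [if_neg had.symm, zero_sub, neg_ne_zero]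
      exact mul_ne_zero (mul_ne_zero f.two (hm a (by simp))) (hm d (by simp))
    · rw [if_neg hae.symm, zero_sub, neg_ne_zero]
      exact mul_ne_zero (mul_ne_zero f.two (hm a (by simp))) (hm e (by simp))
  · exact omega_le_char_three hM hp hn h3 hv hc

/-- An element with one monomial column and another column off the frame gives all of `Ω`. -/
theorem omega_le_of_col (hM : f.HasMono M) (hp : (Fintype.card F).Prime) (hMΩ : M ≤ Cfsg.Omega F ⇑Q)
    (hn : 5 ≤ n) {x : Isom Q} (hx : x ∈ M) {i j : Fin n} {a : F} (hcol : ap x (f.b i) = a • f.b j)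
    (hnm : ¬f.Mono x) : Cfsg.Omega F ⇑Q ≤ M := by
  classical
  obtain ⟨k, hk⟩ : ∃ k, ∀ j, ∀ a : F, ap x (f.b k) ≠ a • f.b j := by
    by_contra h
    push Not at h
    exact hnm h
  obtain ⟨u, hu⟩ : ∃ u, u = ap x (f.b k) := ⟨_, rfl⟩
  have huR : u ∈ f.RR M := hu ▸ hM.ap_mem hx hcol (hM.b_mem k)
  have h2 : 2 ≤ (f.supp u).card := by
    by_contra h
    obtain ⟨j', a', e⟩ := f.coord_of_card_le huR.1 (by omega)
    exact hk j' a' (hu.symm.trans e)
  by_cases hg : (f.supp u).card = 2 → ∃ l ∈ f.supp u, 2 * f.co u l ^ 2 ≠ 1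
  · obtain ⟨v, hv, hcase⟩ := exists_small_good hM hn hp huR h2 hg
    exact omega_le_of_small hM hp hMΩ hn hv hcase
  push Not at hg
  obtain ⟨hc, hsq⟩ := hg
  obtain ⟨l, hl⟩ := f.supp_nonempty huR.1
  have hki : k ≠ i := fun e => hk j a (by rw [e, hcol])
  obtain ⟨w, hw⟩ : ∃ w, w = f.co u l • (f.b k + f.b i) := ⟨_, rfl⟩
  have hwR : w ∈ f.RR M := hw ▸ swap_mem_RR hM hki (hsq l hl)
  have ha : a ≠ 0 := fun e => by
    rcases f.sign_of_smul hcol with h' | h' <;> simp [e] at h'
  have huj : f.co u j = 0 := by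
    have h := polar_ap x (f.b k) (f.b i)
    rw [f.orth k i hki, hcol, ← hu, QuadraticMap.polar_smul_right, f.polar_b_right, smul_eq_mul] at h
    exact (mul_eq_zero.1 ((mul_eq_zero.1 h).resolve_left ha)).resolve_left f.two_c
  have hwR' : ap x w ∈ f.RR M := hM.ap_mem hx hcol hwR
  have hl0 := f.mem_supp.1 hl
  have hsupp : f.supp (ap x w) = insert j (f.supp u) := by
    ext z
    rw [f.mem_supp, hw, map_smul, map_add, hcol, ← hu, map_smul, map_add, map_smul, Pi.smul_apply, Pi.add_apply,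
      Pi.smul_apply, f.co_b, Finset.mem_insert, f.mem_supp]
    rcases eq_or_ne z j with rfl | hz
    · simp [huj, hl0, ha]
    · simp [hz, hl0]
  have h3 : (f.supp (ap x w)).card = 3 := by
    rw [hsupp, Finset.card_insert_of_notMem (f.notMem_supp.2 huj), hc]
  obtain ⟨v, hv, hcase⟩ := exists_small_good hM hn hp hwR' (by omega) (fun h => absurd h (by omega))
  exact omega_le_of_small hM hp hMΩ hn hv hcase

end Seven

end Frame

end CfsgLib.OrthMono
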