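import Cfsg.Agent.OrthMono.Core
import Cfsg.Agent.OrthMono.SevenSmall

/-!
# An element outside the monomial group, odd dimension

In odd dimension the negative of the reflection in a frame vector is a monomial element of `Ω`.  The central
involution of that reflection and of a conjugate pair puts, for every coordinate, a vector of support at most
three into the negative plane of the pair; two such vectors cannot cover seven coordinates.
-/

set_option autoImplicit false
set_option linter.unusedSectionVars false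

namespace CfsgLib.OrthMono

open Matrix Module CfsgLib.Spinor CfsgLib.Forms CfsgLib.OrthMax

variable {F : Type*} [Field F] [Fintype F] {ι : Type} [Fintype ι] [DecidableEq ι] {Q : QuadraticForm F (ι → F)}

set_option quotPrecheck false in
local notation "𝔅" => QuadraticMap.polar (⇑Q)

namespace Frame

variable {n : ℕ} {f : Frame Q n} {M : Subgroup (Isom Q)}

variable (f) in
theorem ap_flip_univ (x : ι → F) : ap (f.flip Finset.univ) x = -x :=
  f.mem_sub_iff_flip.1 fun i hi => absurd (Finset.mem_univ i) hi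

variable (f) in
theorem commute_flip_univ (g : Isom Q) : Commute (f.flip Finset.univ) g := by
  refine ext_ap fun x => ?_
  rw [ap_mul, ap_mul, f.ap_flip_univ, f.ap_flip_univ, map_neg]

variable (f) in
theorem flip_singleton_eq (o : Fin n) : f.flip {o} = rf (f.b o) := f.ext_b fun i => by
  rw [flip_b, rf_b_b]
  by_cases h : o = i
  · subst h; simp
  · simp [h, Ne.symm h]

variable (f) in
/-- A vector negated by the sign change at one coordinate lies on that axis. -/
theorem eq_smul_of_flip {o : Fin n} {x : ι → F} (h : ap (f.flip {o}) x = -x) : x = f.co x o • f.b o :=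
  f.eq_smul_b fun k hk => f.mem_sub_iff_flip.2 h k (by simpa using hk)

variable (f) in
/-- A commuting element keeps the axis. -/
theorem smul_of_commute {o : Fin n} {g : Isom Q} (h : g * f.flip {o} = f.flip {o} * g) :
    ap g (f.b o) = f.co (ap g (f.b o)) o • f.b o := by
  refine f.eq_smul_of_flip ?_
  rw [← ap_mul, ← h, ap_mul, flip_b, if_pos (Finset.mem_singleton_self o), map_smul, neg_one_smul]

/-- A monomial reflection has support two and equal squares. -/
theorem supp_of_mono_rf {v : ι → F} (hv : Q v = f.c) (h : f.Mono (rf v : Isom Q)) : (f.supp v).card ≤ 2 := by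
  classical
  obtain ⟨k, hk⟩ := f.supp_nonempty hv
  obtain ⟨j, a, hj⟩ := h k
  refine (Finset.card_le_card (t := {k, j}) fun l hl => ?_).trans Finset.card_le_two
  by_contra hl'
  simp only [Finset.mem_insert, Finset.mem_singleton, not_or] at hl'
  have h1 := congrArg (fun x => f.co x l) hj
  simp only [f.co_rf hv, dot_comm v (f.b k), f.dot_b, f.co_b, map_smul, Pi.smul_apply, smul_eq_mul,
    if_neg hl'.1, if_neg hl'.2, mul_zero, zero_sub, neg_eq_zero] at h1
  exact mul_ne_zero (mul_ne_zero f.two (f.mem_supp.1 hk)) (f.mem_supp.1 hl) h1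

/-- Pairs with monomial conjugates give monomial conjugates of the reflections in the frame. -/
theorem mono_conj_flip_singleton (hnodd : Odd n) {g : Isom Q}
    (hall : ∀ e d : Fin n, e ≠ d → f.Mono (g * f.flip {e, d} * g⁻¹)) (o : Fin n) :
    f.Mono (g * f.flip {o} * g⁻¹) := by
  classical
  obtain ⟨K, hK⟩ : ∃ K : Subgroup (Isom Q), K = f.monoSub.comap (MulAut.conj g).toMonoidHom := ⟨_, rfl⟩
  have memK : ∀ x, x ∈ K ↔ f.Mono (g * x * g⁻¹) := fun x => by rw [hK]; rfl
  have hpair : ∀ a : Fin n, f.flip {a} * f.flip {o} ∈ K := fun a => by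
    rcases eq_or_ne a o with rfl | h
    · rw [flip_mul_self]; exact K.one_mem
    · rw [f.flip_singleton_eq, f.flip_singleton_eq, ← f.flip_pair h, memK]
      exact hall a o h
  have hU : ∀ U : Finset (Fin n), f.flip U * f.flip {o} ^ U.card ∈ K := by
    intro U
    induction U using Finset.induction with
    | empty => rw [Finset.card_empty, pow_zero, mul_one, flip_empty]; exact K.one_mem
    | @insert a U ha ih =>
      have hd : f.flip (insert a U) = f.flip {a} * f.flip U := by
        rw [flip_mul]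
        congr 1
        ext z
        simp only [Finset.mem_insert, Finset.mem_symmDiff, Finset.mem_singleton]
        constructor
        · rintro (rfl | hz)
          · exact Or.inl ⟨rfl, ha⟩
          · exact Or.inr ⟨hz, fun e => ha (e ▸ hz)⟩
        · rintro (⟨rfl, -⟩ | ⟨hz, -⟩)
          · exact Or.inl rfl
          · exact Or.inr hz
      have hc : Commute (f.flip U) (f.flip {o}) := by
        show _ = _
        rw [flip_mul, flip_mul, symmDiff_comm]
      rw [Finset.card_insert_of_notMem ha, pow_succ', hd, mul_assoc, ← mul_assoc (f.flip U), hc.eq,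
        mul_assoc (f.flip {o}), ← mul_assoc (f.flip {a})]
      exact K.mul_mem (hpair a) ih
  have h1 := hU (Finset.univ.erase o)
  have hev : Even (Finset.univ.erase o).card := by
    rw [Finset.card_erase_of_mem (Finset.mem_univ o), Finset.card_univ, Fintype.card_fin]
    obtain ⟨r, hr⟩ := hnodd
    exact ⟨r, by omega⟩
  obtain ⟨r, hr⟩ := hev
  rw [hr, ← two_mul, pow_mul, pow_two, flip_mul_self, one_pow, mul_one, memK] at h1
  have hsd : symmDiff (Finset.univ : Finset (Fin n)) (Finset.univ.erase o) = {o} := by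
    ext z
    simp [Finset.mem_symmDiff]
  rw [← hsd, ← flip_mul, ← mul_assoc, ← (f.commute_flip_univ g).eq, mul_assoc (f.flip Finset.univ),
    mul_assoc (f.flip Finset.univ)]
  exact Mono.mul f (f.mono_flip _) h1

/-- Some conjugate of a pair is off the monomial group, given an element off it. -/
theorem exists_bad_conj_odd (hH : f.NoCol M) (hnodd : Odd n) {g : Isom Q} (hg : g ∈ M) (hnm : ¬f.Mono g) :
    ∃ e d, e ≠ d ∧ ¬f.Mono (g * f.flip {e, d} * g⁻¹) := by
  classical
  by_contra hall
  push Not at hall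
  obtain ⟨V, hV⟩ : ∃ V : Fin n → Finset (Fin n), V = fun o => f.supp (ap g (f.b o)) := ⟨_, rfl⟩
  have hQ : ∀ o, Q (ap g (f.b o)) = f.c := fun o => by rw [quad_ap, f.quad]
  have hcard : ∀ o, (V o).card = 2 := fun o => by
    have h := mono_conj_flip_singleton hnodd hall o
    rw [f.flip_singleton_eq, conj_rf] at h
    have h2 := supp_of_mono_rf (hQ o) h
    rw [hV]
    show (f.supp (ap g (f.b o))).card = 2
    refine le_antisymm h2 (Nat.le_of_not_lt fun h1 => hnm ?_)
    obtain ⟨j, a, hj⟩ := f.coord_of_card_le (hQ o) (by omega)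
    exact hH g hg o j a hj
  have horth : ∀ o o', o ≠ o' → ∑ l ∈ V o, f.co (ap g (f.b o)) l * f.co (ap g (f.b o')) l = 0 := by
    intro o o' h
    rw [hV, ← dot_supp]
    have h1 := polar_ap g (f.b o) (f.b o')
    rw [f.orth o o' h, f.polar_eq] at h1
    exact (mul_eq_zero.1 h1).resolve_left f.two_c
  have hfib : ∀ S ∈ Finset.univ.image V, (Finset.univ.filter fun o => V o = S).card ≤ 2 := by
    intro S hS
    by_contra h3
    obtain ⟨o₁, o₂, o₃, h1, h2, h3', h12, h13, h23⟩ := Finset.two_lt_card_iff.1 (Nat.lt_of_not_le h3)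
    simp only [Finset.mem_filter, Finset.mem_univ, true_and] at h1 h2 h3'
    obtain ⟨k, j, hkj, hS'⟩ := Finset.card_eq_two.1 (h1 ▸ hcard o₁)
    have e12 := horth o₁ o₂ h12
    have e13 := horth o₁ o₃ h13
    have e23 := horth o₂ o₃ h23
    have hn1 := f.unit_iff.1 (hQ o₁)
    have hne : ∀ o, V o = S → ∀ l ∈ S, f.co (ap g (f.b o)) l ≠ 0 := fun o ho l hl => by
      rw [← f.mem_supp]
      have : l ∈ V o := ho ▸ hl
      rwa [hV] at this
    rw [dot_supp, show f.supp (ap g (f.b o₁)) = S by rw [← h1, hV]] at hn1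
    rw [h1, hS', Finset.sum_pair hkj] at e12 e13
    rw [h2, hS', Finset.sum_pair hkj] at e23
    rw [hS', Finset.sum_pair hkj] at hn1
    have hk : k ∈ S := by rw [hS']; simp
    have n1 := hne o₁ h1 k hk
    have n2 := hne o₂ h2 k hk
    have n3 := hne o₃ h3' k hk
    have hj : j ∈ S := by rw [hS']; simp
    have m1 := hne o₁ h1 j hj
    obtain ⟨x, hx⟩ : ∃ x, x = f.co (ap g (f.b o₁)) k := ⟨_, rfl⟩
    obtain ⟨y, hy⟩ : ∃ y, y = f.co (ap g (f.b o₁)) j := ⟨_, rfl⟩
    rw [← hx, ← hy] at e12 e13 hn1
    refine mul_ne_zero (mul_ne_zero n2 n3) one_ne_zero ?_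
    linear_combination (-f.co (ap g (f.b o₂)) k * f.co (ap g (f.b o₃)) k) * hn1 +
      y ^ 2 * e23 - y * f.co (ap g (f.b o₃)) j * e12 + x * f.co (ap g (f.b o₂)) k * e13
  have hdisj : ∀ S ∈ Finset.univ.image V, ∀ T ∈ Finset.univ.image V, S ≠ T → Disjoint S T := by
    intro S hS T hT hne
    obtain ⟨o, -, rfl⟩ := Finset.mem_image.1 hS
    obtain ⟨o', -, rfl⟩ := Finset.mem_image.1 hT
    rw [Finset.disjoint_left]
    intro k hk hk'
    refine hne ?_
    obtain ⟨j, hj, hjk⟩ := Finset.exists_mem_ne (by rw [hcard]; omega : 1 < (V o).card) k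
    have hset : V o = {k, j} := (Finset.eq_of_subset_of_card_le (fun z hz => by
      simp only [Finset.mem_insert, Finset.mem_singleton] at hz
      rcases hz with rfl | rfl <;> assumption) (by rw [hcard, Finset.card_pair hjk.symm])).symm
    have hj' : j ∈ V o' := by
      by_contra h
      have e := horth o o' fun e => hne (by rw [e])
      rw [hset, Finset.sum_pair hjk.symm] at e
      rw [hV] at hk hk' h
      rw [f.notMem_supp.1 h, mul_zero, add_zero] at e
      exact mul_ne_zero (f.mem_supp.1 hk) (f.mem_supp.1 hk') e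
    rw [hset]
    exact Finset.eq_of_subset_of_card_le (fun z hz => by
      simp only [Finset.mem_insert, Finset.mem_singleton] at hz
      rcases hz with rfl | rfl <;> assumption) (by rw [hcard, Finset.card_pair hjk.symm])
  have h1 := Finset.card_le_mul_card_image (Finset.univ : Finset (Fin n)) 2 hfib
  have h2 := Finset.card_le_univ ((Finset.univ.image V).biUnion fun S => S)
  rw [Finset.card_biUnion (fun S hS T hT h => hdisj S hS T hT h), Finset.sum_const_nat (m := 2) fun S hS => by
    obtain ⟨o, -, rfl⟩ := Finset.mem_image.1 hS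
    exact hcard o, Fintype.card_fin] at h2
  rw [Finset.card_univ, Fintype.card_fin] at h1
  obtain ⟨r, hr⟩ := hnodd
  omega

namespace BadPlane

variable (B : BadPlane f M)

/-- The central involution for one coordinate. -/
theorem exists_c_single (hM : f.HasMono M) (hH : f.NoCol M) (hnodd : Odd n) (o : Fin n) :
    ∃ c : Isom Q, ∃ a : F, c ≠ 1 ∧ c ≠ f.flip {o} ∧ f.Mono c ∧ c * B.w = B.w * c ∧
      ap c (f.b o) = a • f.b o ∧ ∀ y, ap c y - y ∈ f.sub {o} ⊔ B.P := by
  classical
  haveI : Finite (Isom Q) := by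
    haveI : Finite (GL ι F) := Finite.of_injective _ Units.val_injective
    infer_instance
  obtain ⟨r, hr⟩ : ∃ r, r = f.flip {o} := ⟨_, rfl⟩
  have hrr : r * r = 1 := hr ▸ f.flip_mul_self _
  have heven : Even (orderOf (r * B.w)) := by
    rcases Nat.even_or_odd (orderOf (r * B.w)) with h | h
    · exact h
    exfalso
    obtain ⟨h', hh'⟩ := exists_conj_of_odd hrr B.w_mul_self h
    have e : B.g⁻¹ * h' * f.flip {o} * (B.g⁻¹ * h')⁻¹ = f.flip {B.e, B.d} := by
      rw [show B.g⁻¹ * h' * f.flip {o} * (B.g⁻¹ * h')⁻¹ = B.g⁻¹ * (h' * f.flip {o} * h'⁻¹) * B.g by group, ← hr,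
        hh', w]
      group
    have := f.card_eq_of_conj e
    rw [Finset.card_singleton, Finset.card_pair B.ne] at this
    omega
  obtain ⟨m, hc1, -, hcr, hcw⟩ := exists_central hrr B.w_mul_self heven
  obtain ⟨N, hN⟩ : ∃ N, N = f.flip (Finset.univ : Finset (Fin n)) := ⟨_, rfl⟩
  obtain ⟨Z, hZ⟩ : ∃ Z, Z = f.flip ((Finset.univ : Finset (Fin n)).erase o) := ⟨_, rfl⟩
  have hrNZ : r = N * Z := by
    rw [hr, hN, hZ, flip_mul]
    congr 1
    ext z
    simp [Finset.mem_symmDiff]
  have hZM : Z ∈ M := hZ ▸ flip_mem hM (by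
    rw [Finset.card_erase_of_mem (Finset.mem_univ o), Finset.card_univ, Fintype.card_fin]
    obtain ⟨k, hk⟩ := hnodd
    exact ⟨k, by omega⟩)
  have hcomm : ∀ g, Commute N g := fun g => hN ▸ f.commute_flip_univ g
  have hpow : (r * B.w) ^ m = N ^ m * (Z * B.w) ^ m := by
    rw [hrNZ, mul_assoc]
    exact (hcomm _).mul_pow m
  have hx : (Z * B.w) ^ m * r = r * (Z * B.w) ^ m := by
    refine mul_left_cancel (a := N ^ m) ?_
    rw [← mul_assoc, ← hpow, ← hcr, ← mul_assoc, ((hcomm r).pow_left m).eq, mul_assoc, ← hpow]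
  have hmono : f.Mono ((r * B.w) ^ m) := by
    rw [hpow]
    refine Mono.mul f (show N ^ m ∈ f.monoSub from f.monoSub.pow_mem (hN ▸ f.mono_flip _) m) ?_
    exact hH _ (M.pow_mem (M.mul_mem hZM B.mem) m) o o _ (f.smul_of_commute (hr ▸ hx))
  refine ⟨(r * B.w) ^ m, _, hc1, fun e => B.bad ?_, hmono, hcw.symm, f.smul_of_commute (hr ▸ hcr.symm),
    fun y => ?_⟩
  · rw [e] at hcw
    exact hH _ B.mem o o _ (f.smul_of_commute (o := o) (g := B.w) hcw)
  · have hsum : ∀ (i : ℕ) y, ap ((r * B.w) ^ i) y - y ∈ f.sub {o} ⊔ B.P := by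
      intro i
      induction i with
      | zero => intro y; rw [pow_zero, ap_one, sub_self]; exact Submodule.zero_mem _
      | succ i ih =>
        intro y
        have h1 : ap r (ap B.w y) - ap B.w y ∈ f.sub {o} := fun l hl => by
          rw [hr, map_sub, Pi.sub_apply, co_flip, if_neg hl, sub_self]
        rw [pow_succ, ap_mul, ap_mul]
        have e : ap ((r * B.w) ^ i) (ap r (ap B.w y)) - y =
            (ap ((r * B.w) ^ i) (ap r (ap B.w y)) - ap r (ap B.w y)) + (ap r (ap B.w y) - ap B.w y) +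
              (ap B.w y - y) := by abel
        rw [e]
        exact Submodule.add_mem _ (Submodule.add_mem _ (ih _) (Submodule.mem_sup_left h1))
          (Submodule.mem_sup_right (B.sub_mem_P y))
    exact hsum m y

/-- The plane contains no axis. -/
theorem b_notMem (hH : f.NoCol M) (k : Fin n) : f.b k ∉ B.P := fun h =>
  B.bad (hH _ B.mem k k (-1) (by rw [neg_one_smul]; exact B.mem_P.1 h))

/-- Two independent vectors of support at most three do not cover seven coordinates. -/
theorem false_of_two_small (hH : f.NoCol M) (hn : 7 ≤ n) {x y : ι → F} (hx : x ∈ B.P) (hy : y ∈ B.P) (hy0 : y ≠ 0)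
    (hxy : ∀ t : F, x ≠ t • y) (hxs : (f.supp x).card ≤ 3) (hys : (f.supp y).card ≤ 3) : False := by
  classical
  obtain ⟨k, -, hk⟩ := Finset.exists_mem_notMem_of_card_lt_card (s := f.supp x ∪ f.supp y) (t := Finset.univ)
    (by rw [Finset.card_univ, Fintype.card_fin]; have := Finset.card_union_le (f.supp x) (f.supp y); omega)
  rw [Finset.mem_union, not_or] at hk
  obtain ⟨z, hz, hzk⟩ := B.exists_co_ne hH k
  obtain ⟨a, b, rfl⟩ := B.exists_coeffs₂ hx hy hy0 hxy hz
  refine hzk ?_
  rw [map_add, map_smul, map_smul, Pi.add_apply, Pi.smul_apply, Pi.smul_apply, f.notMem_supp.1 hk.1,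
    f.notMem_supp.1 hk.2, smul_zero, smul_zero, add_zero]

/-- Off the axis, a moved column of the central involution is a plane vector of support at most three. -/
theorem exists_col {o : Fin n} {c : Isom Q} (hc : f.Mono c) (hcy : ∀ y, ap c y - y ∈ f.sub {o} ⊔ B.P) (i : Fin n) :
    ∃ q ∈ B.P, (f.supp q).card ≤ 3 ∧ ∀ l, l ≠ o → f.co (ap c (f.b i) - f.b i) l = f.co q l := by
  classical
  obtain ⟨j, a, hj⟩ := hc i
  obtain ⟨s, hs, q, hq, e⟩ := Submodule.mem_sup.1 (hcy (f.b i))
  have he : ∀ l, l ≠ o → f.co (ap c (f.b i) - f.b i) l = f.co q l := fun l hl => by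
    rw [← e, map_add, Pi.add_apply, hs l (by simpa using hl), zero_add]
  refine ⟨q, hq, (Finset.card_le_card (t := {o, i, j}) fun l hl => ?_).trans Finset.card_le_three, he⟩
  by_contra h
  simp only [Finset.mem_insert, Finset.mem_singleton, not_or] at h
  apply f.mem_supp.1 hl
  rw [← he l h.1, hj, map_sub, map_smul, Pi.sub_apply, Pi.smul_apply, f.co_b, f.co_b, if_neg h.2.1, if_neg h.2.2,
    smul_zero, sub_zero]

include B in
/-- There is no bad plane in odd dimension seven or more. -/
theorem elim_odd (hM : f.HasMono M) (hH : f.NoCol M) (hnodd : Odd n) (hn : 7 ≤ n) : False := by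
  classical
  -- a central involution moves a column off the axis
  have moved : ∀ (o : Fin n) (c : Isom Q) (a : F), c ≠ 1 → c ≠ f.flip {o} → ap c (f.b o) = a • f.b o →
      ∃ i, i ≠ o ∧ ap c (f.b i) ≠ f.b i := by
    intro o c a hc1 hcr hco
    by_contra h
    push Not at h
    rcases f.sign_of_smul hco with e | e
    · refine hc1 (f.ext_b fun i => ?_)
      rw [ap_one]
      by_cases hi : i = o
      · rw [hi, hco, e, one_smul]
      · exact h i hi
    · refine hcr (f.ext_b fun i => ?_)
      rw [flip_b]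
      by_cases hi : i = o
      · rw [hi, hco, e, if_pos (Finset.mem_singleton_self o)]
      · rw [if_neg (by simpa using hi), h i hi, one_smul]
  -- off `o`, a moved column is never zero
  have offo : ∀ (o i : Fin n) (c : Isom Q) (a : F), ap c (f.b o) = a • f.b o → f.Mono c → i ≠ o →
      f.co (ap c (f.b i) - f.b i) o = 0 := by
    intro o i c a hco hc hio
    have ha : a ≠ 0 := fun e => by rcases f.sign_of_smul hco with h | h <;> simp [e] at h
    have h := polar_ap c (f.b i) (f.b o)
    rw [f.orth i o hio, hco, QuadraticMap.polar_smul_right, f.polar_b_right, smul_eq_mul] at h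
    rw [map_sub, Pi.sub_apply, f.co_b, if_neg (Ne.symm hio), sub_zero]
    exact (mul_eq_zero.1 ((mul_eq_zero.1 h).resolve_left ha)).resolve_left f.two_c
  obtain ⟨o₀, -⟩ : ∃ o : Fin n, True := ⟨⟨0, by omega⟩, trivial⟩
  obtain ⟨c₀, a₀, hc01, hc0r, hc0m, -, hc0o, hc0y⟩ := B.exists_c_single hM hH hnodd o₀
  obtain ⟨i₀, hi₀, hi₀m⟩ := moved o₀ c₀ a₀ hc01 hc0r hc0o
  obtain ⟨q₀, hq₀, hq₀s, hq₀e⟩ := B.exists_col hc0m hc0y i₀
  have hq₀0 : q₀ ≠ 0 := fun h => hi₀m (sub_eq_zero.1 (f.co_ext fun l => by
    by_cases hl : l = o₀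
    · rw [hl, offo o₀ i₀ c₀ a₀ hc0o hc0m hi₀, map_zero, Pi.zero_apply]
    · rw [hq₀e l hl, h]))
  -- every small vector of the plane is a multiple of `q₀`
  have small : ∀ x ∈ B.P, (f.supp x).card ≤ 3 → ∃ t : F, x = t • q₀ := fun x hx hxs => by
    by_contra h
    push Not at h
    exact B.false_of_two_small hH hn hx hq₀ hq₀0 h hxs hq₀s
  obtain ⟨o, -, ho⟩ := Finset.exists_mem_notMem_of_card_lt_card (s := f.supp q₀) (t := Finset.univ)
    (by rw [Finset.card_univ, Fintype.card_fin]; omega)
  obtain ⟨c, a, hc1, hcr, hcm, -, hco, hcy⟩ := B.exists_c_single hM hH hnodd o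
  obtain ⟨i, hio, him⟩ := moved o c a hc1 hcr hco
  obtain ⟨j, d, hj⟩ := hcm i
  have hd : d = 1 ∨ d = -1 := f.sign_of_smul hj
  obtain ⟨t, ht⟩ : ∃ t : F, ap c (f.b i) - f.b i = t • q₀ := by
    obtain ⟨q, hq, hqs, hqe⟩ := B.exists_col hcm hcy i
    obtain ⟨t, rfl⟩ := small q hq hqs
    refine ⟨t, f.co_ext fun l => ?_⟩
    by_cases hl : l = o
    · rw [hl, offo o i c a hco hcm hio, map_smul, Pi.smul_apply, f.notMem_supp.1 ho, smul_zero]
    · rw [hqe l hl]
  obtain ⟨q, hq⟩ : ∃ q, q = d • f.b j - f.b i := ⟨_, rfl⟩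
  have hqP : q ∈ B.P := by rw [hq, ← hj, ht]; exact B.P.smul_mem t hq₀
  have hji : j ≠ i := by
    intro e
    rcases hd with h | h
    · exact him (by rw [hj, e, h, one_smul])
    · refine B.b_notMem hH i ?_
      rw [e, h] at hq
      have h2 : q = (-2 : F) • f.b i := by rw [hq]; module
      have := B.P.smul_mem (-2 : F)⁻¹ hqP
      rwa [h2, inv_smul_smul₀ (neg_ne_zero.2 f.two)] at this
  have hd0 : d ≠ 0 := by rcases hd with h | h <;> simp [h]
  have hqs : (f.supp q).card ≤ 3 := by
    refine (Finset.card_le_card (t := {i, j}) fun l hl => ?_).trans (Finset.card_le_two.trans (by norm_num))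
    by_contra h
    simp only [Finset.mem_insert, Finset.mem_singleton, not_or] at h
    exact f.mem_supp.1 hl (by simp [hq, f.co_b, h.1, h.2])
  have hqi : f.co q i = -1 := by simp [hq, f.co_b, Ne.symm hji]
  have hq0 : q ≠ 0 := fun h => by rw [h, map_zero, Pi.zero_apply] at hqi; exact one_ne_zero (by linear_combination hqi)
  have small' : ∀ x ∈ B.P, (f.supp x).card ≤ 3 → ∃ t : F, x = t • q := fun x hx hxs => by
    by_contra h
    push Not at h
    exact B.false_of_two_small hH hn hx hqP hq0 h hxs hqs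
  -- the involution of the axis `i` is the sign change on the pair
  obtain ⟨c', a', hc'1, hc'r, hc'm, hc'w, hc'o, hc'y⟩ := B.exists_c_single hM hH hnodd i
  have hfix : ∀ k, k ≠ i → (ap c' (f.b k) = f.b k ∨ (k = j ∧ ap c' (f.b k) = -f.b k)) := by
    intro k hk
    obtain ⟨l, e, hl⟩ := hc'm k
    obtain ⟨x, hx, hxs, hxe⟩ := B.exists_col hc'm hc'y k
    obtain ⟨s, rfl⟩ := small' x hx hxs
    have hz : ∀ m, m ≠ j → f.co (ap c' (f.b k) - f.b k) m = 0 := by
      intro m hm
      by_cases hmi : m = i
      · rw [hmi]; exact offo i k c' a' hc'o hc'm hk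
      · rw [hxe m hmi, map_smul, Pi.smul_apply, hq, map_sub, map_smul, Pi.sub_apply, Pi.smul_apply, f.co_b, f.co_b,
          if_neg hm, if_neg hmi, smul_zero, sub_zero, smul_zero]
    by_cases hkj : k = j
    · have hlk : l = k := by
        by_contra h
        have h1 := hz l (fun e' => h (e'.trans hkj.symm))
        rw [hl, map_sub, map_smul, Pi.sub_apply, Pi.smul_apply, f.co_b, f.co_b, if_pos rfl, if_neg h,
          smul_eq_mul, mul_one, sub_zero] at h1
        rcases f.sign_of_smul hl with h' | h' <;> simp [h1] at h'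
      rw [hlk] at hl
      rcases f.sign_of_smul hl with h | h
      · left; rw [hl, h, one_smul]
      · exact Or.inr ⟨hkj, by rw [hl, h, neg_one_smul]⟩
    · left
      have h1 := hz k hkj
      rw [hl, map_sub, map_smul, Pi.sub_apply, Pi.smul_apply, f.co_b, f.co_b, if_pos rfl, smul_eq_mul] at h1
      by_cases hlk : k = l
      · rw [if_pos hlk, mul_one, sub_eq_zero] at h1
        rw [hl, ← hlk, h1, one_smul]
      · rw [if_neg hlk, mul_zero, zero_sub, neg_eq_zero] at h1
        exact absurd h1 one_ne_zero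
  obtain ⟨k, hki, hkm⟩ := moved i c' a' hc'1 hc'r hc'o
  obtain ⟨rfl, hc'j⟩ := (hfix k hki).resolve_left hkm
  have hfix' : ∀ m, m ≠ i → m ≠ k → ap c' (f.b m) = f.b m := fun m h1 h2 =>
    (hfix m h1).resolve_right fun h => h2 h.1
  rcases f.sign_of_smul hc'o with ha' | ha'
  · -- a reflection commuting with the pair
    have e : c' = f.flip {k} := f.ext_b fun m => by
      rw [flip_b]
      by_cases h1 : m = k
      · rw [h1, hc'j, if_pos (Finset.mem_singleton_self k), neg_one_smul]
      · rw [if_neg (by simpa using h1), one_smul]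
        by_cases h2 : m = i
        · rw [h2, hc'o, ha', one_smul]
        · exact hfix' m h2 h1
    exact B.bad (hH _ B.mem k k _ (f.smul_of_commute (o := k) (g := B.w) (e ▸ hc'w).symm))
  have hflip : c' = f.flip {i, k} := f.ext_b fun m => by
    rw [flip_b]
    by_cases h2 : m = i
    · rw [h2, hc'o, ha', if_pos (by simp)]
    by_cases h1 : m = k
    · rw [h1, hc'j, if_pos (by simp), neg_one_smul]
    · rw [if_neg (by simp [h1, h2]), one_smul]
      exact hfix' m h2 h1
  obtain ⟨q', hq'⟩ : ∃ q', q' = d • f.b k + f.b i := ⟨_, rfl⟩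
  obtain ⟨u, hu⟩ : ∃ u, u = ap B.w q' := ⟨_, rfl⟩
  have hq'S : q' ∈ f.sub {i, k} := hq' ▸ Submodule.add_mem _
    (Submodule.smul_mem _ _ (f.b_mem_sub _ (by simp))) (f.b_mem_sub _ (by simp))
  have huS : u ∈ f.sub {i, k} := by
    rw [f.mem_sub_iff_flip, ← hflip, hu, ← ap_mul, hc'w, ap_mul, hflip, f.mem_sub_iff_flip.1 hq'S, map_neg]
  have hdd : d * d = 1 := by rcases hd with h | h <;> rw [h] <;> ring
  have hu1 : d * f.co u k = f.co u i := by
    have h := polar_ap B.w q' q
    rw [← hu, B.mem_P.1 hqP, QuadraticMap.polar_neg_right, hq, hq', QuadraticMap.polar_sub_right,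
      QuadraticMap.polar_smul_right, f.polar_b_right, f.polar_b_right, QuadraticMap.polar_sub_right,
      QuadraticMap.polar_smul_right, f.polar_b_right, f.polar_b_right] at h
    simp only [map_add, map_smul, Pi.add_apply, Pi.smul_apply, f.co_b, if_neg hji, if_neg (Ne.symm hji), if_true,
      smul_eq_mul, mul_zero, mul_one, zero_add, add_zero] at h
    refine mul_left_cancel₀ f.two_c ?_
    linear_combination -h - 2 * f.c * hdd
  obtain ⟨α, hα⟩ : ∃ α, α = f.co u i := ⟨_, rfl⟩
  have huq : u = α • q' := f.co_ext fun m => by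
    rw [map_smul, Pi.smul_apply, hq', map_add, map_smul, Pi.add_apply, Pi.smul_apply, f.co_b, f.co_b, smul_eq_mul,
      smul_eq_mul]
    by_cases h2 : m = i
    · rw [h2, if_neg (Ne.symm hji), if_pos rfl, hα]; ring
    by_cases h1 : m = k
    · rw [h1, if_pos rfl, if_neg hji, hα, ← hu1]
      linear_combination -f.co u k * hdd
    · rw [huS m (by simp [h1, h2]), if_neg h1, if_neg h2]; ring
  have hαα : α * α = 1 := by
    have h := quad_ap B.w q'
    rw [← hu, huq, QuadraticMap.map_smul, smul_eq_mul] at h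
    have hQ' : Q q' = 2 * f.c := by
      rw [hq', QuadraticMap.map_add (⇑Q), QuadraticMap.map_smul, f.quad, f.quad, QuadraticMap.polar_smul_left,
        f.orth k i hji, smul_eq_mul, smul_zero, add_zero, hdd]
      ring
    rw [hQ'] at h
    exact mul_right_cancel₀ f.two_c (by linear_combination h)
  rcases mul_self_eq_one_iff.1 hαα with hα1 | hα1
  · refine B.bad (hH _ B.mem i k d ?_)
    show ap B.w (f.b i) = d • f.b k
    have h2 : (2 : F) • f.b i = q' - q := by rw [hq', hq]; module
    have h3 := congrArg (ap B.w) h2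
    rw [map_smul, map_sub, ← hu, huq, hα1, one_smul, B.mem_P.1 hqP, hq', hq] at h3
    have h4 : (2 : F) • (ap B.w (f.b i)) = (2 : F) • (d • f.b k) := by rw [h3]; module
    exact smul_right_injective _ f.two h4
  · refine B.b_notMem hH i ?_
    have hq'P : q' ∈ B.P := B.mem_P.2 (by rw [← hu, huq, hα1, neg_one_smul])
    have h2 : (2 : F) • f.b i = q' - q := by rw [hq', hq]; module
    have h3 := B.P.smul_mem (2 : F)⁻¹ (Submodule.sub_mem _ hq'P hqP)
    rwa [← h2, inv_smul_smul₀ f.two] at h3

end BadPlane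

/-- A subgroup of `Ω` with the monomial elements and one more contains all of `Ω`, in odd dimension. -/
theorem omega_le_of_nonmono_odd (hM : f.HasMono M) (hp : (Fintype.card F).Prime) (hMΩ : M ≤ Cfsg.Omega F ⇑Q)
    (hnodd : Odd n) (hn : 7 ≤ n) {x : Isom Q} (hx : x ∈ M) (hnm : ¬f.Mono x) : Cfsg.Omega F ⇑Q ≤ M := by
  by_cases hH : f.NoCol M
  · exfalso
    obtain ⟨e, d, hed, hbad⟩ := exists_bad_conj_odd hH hnodd hx hnm
    exact BadPlane.elim_odd ⟨x, e, d, hed, M.mul_mem (M.mul_mem hx (flip_mem hM (by rw [Finset.card_pair hed]; decide)))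
      (M.inv_mem hx), hbad⟩ hM hH hnodd hn
  · unfold NoCol at hH
    push Not at hH
    obtain ⟨y, hy, i, j, a, hcol, hynm⟩ := hH
    exact Seven.omega_le_of_col hM hp hMΩ (by omega) hy hcol hynm

end Frame

end CfsgLib.OrthMono
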