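import Cfsg.Agent.OrthMono.Maximal
import Cfsg.Agent.OrthMono.OddLast

/-!
# Stabilisers of orthogonal frames in odd dimension seven or more over prime fields
-/

set_option autoImplicit false
set_option linter.unusedSectionVars false

namespace CfsgLib.OrthMono

open Matrix Module CfsgLib.Spinor CfsgLib.Forms CfsgLib.OrthMax Cfsg.Geo

variable {F : Type*} [Field F] [Fintype F] {ι : Type} [Fintype ι] [DecidableEq ι] {Q : QuadraticForm F (ι → F)}
  {t : ℕ} {D : Fin t → Submodule F (ι → F)}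

/-- The stabiliser of a frame in odd dimension is maximal. -/
theorem isMaximalIn_frame_odd (h : DSys Q 1 D) (hnodd : Odd (Fintype.card ι)) (hn : 7 ≤ Fintype.card ι) (ht : t = Fintype.card ι)
    (hp : (Fintype.card F).Prime) (h2 : (2 : F) ≠ 0) :
    IsMaximalIn (omegaGL ⇑Q) (decompositionStabilizer D ⊓ omegaGL ⇑Q) := by
  obtain ⟨f, hf⟩ := exists_frame h h2
  refine isMaximalIn_omega _ ?_ fun M hM g hgM hgΩ hgS => ?_
  · obtain ⟨i⟩ : Nonempty (Fin t) := ⟨⟨0, by omega⟩⟩
    refine exists_move_decomp h.nondeg (by omega) h.orth (h.nd i) (fun e => ?_) ?_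
    · have := h.dim i
      rw [e, finrank_bot] at this
      omega
    · rw [finrank_qperp h.nondeg, h.dim]
      omega
  · refine le_trans (Frame.omega_le_of_nonmono_odd (f := f) (M := M ⊓ Cfsg.Omega F ⇑Q) ?_ hp inf_le_right
      (ht ▸ hnodd) (by omega) (x := g) ⟨hgM, hgΩ⟩ fun hm => hgS ((f.mem_stab_iff hf g).2 hm)) inf_le_left
    exact fun k hk hkm => ⟨hM k hk ((f.mem_stab_iff hf k).2 hkm), hk⟩

end CfsgLib.OrthMono
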