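import Cfsg.Agent.OrthMono.Closure

/-!
# A unit vector of small support

From any non-coordinate vector of `RR M`: one of support two, or of support three over five elements,
or of support four over three elements.
-/

set_option autoImplicit false
set_option linter.unusedSectionVars false

namespace CfsgLib.OrthMono

open Matrix Module CfsgLib.Spinor CfsgLib.Forms CfsgLib.OrthMax

variable {F : Type*} [Field F] [Fintype F] {ι : Type} [Fintype ι] [DecidableEq ι] {Q : QuadraticForm F (ι → F)}

namespace Frame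

variable {n : ℕ} (f : Frame Q n) {M : Subgroup (Isom Q)}

theorem co_ap_b {g : Isom Q} {z : Isom Q} (hz : ∀ y k, f.co (ap z y) k = f.co y k) : z = 1 :=
  f.ext_b fun i => by
    rw [ap_one]
    exact f.co_ext fun k => hz _ k

/-- Every vector of `RR` other than the frame vectors has support at least `s`; from four on, two is also allowed. -/
def MinSupp (M : Subgroup (Isom Q)) (s : ℕ) : Prop :=
  ∀ v ∈ f.RR M, 2 ≤ (f.supp v).card → s ≤ (f.supp v).card ∨ ((f.supp v).card = 2 ∧ 4 ≤ s ∧ (3 : F) ≠ 0)

/-- Three orthogonal columns cannot each have two of the same three coordinates. -/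
theorem false_of_three_two {i j : Fin n} (hij : i ≠ j) (hn : n = 5) {c : Isom Q} {p q r : Fin n} (hqp : q ≠ p)
    (hpr : p ≠ r) (hqr : q ≠ r)
    (hp : f.supp (ap c (f.b p)) ⊆ ((Finset.univ : Finset (Fin n)).erase i).erase j ∧ (f.supp (ap c (f.b p))).card = 2)
    (hq : f.supp (ap c (f.b q)) ⊆ ((Finset.univ : Finset (Fin n)).erase i).erase j ∧ (f.supp (ap c (f.b q))).card = 2)
    (hr : f.supp (ap c (f.b r)) ⊆ ((Finset.univ : Finset (Fin n)).erase i).erase j ∧ (f.supp (ap c (f.b r))).card = 2) :
    False := by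
  classical
  obtain ⟨U, hU⟩ : ∃ U, U = ((Finset.univ : Finset (Fin n)).erase i).erase j := ⟨_, rfl⟩
  rw [← hU] at hp hq hr
  have hU3 : U.card = 3 := by
    rw [hU, Finset.card_erase_of_mem (by simp [Ne.symm hij]), Finset.card_erase_of_mem (Finset.mem_univ i),
      Finset.card_univ, Fintype.card_fin, hn]
  -- two of the columns have the same pair
  have same : ∀ {a b : Fin n}, a ≠ b → f.supp (ap c (f.b a)) ⊆ U → (f.supp (ap c (f.b a))).card = 2 →
      f.supp (ap c (f.b b)) ⊆ U → (f.supp (ap c (f.b b))).card = 2 →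
      f.supp (ap c (f.b a)) = f.supp (ap c (f.b b)) := by
    intro a b hab ha ha2 hb hb2
    by_contra hne
    have h2 : (f.supp (ap c (f.b a)) ∩ f.supp (ap c (f.b b))).card = 1 := by
      have h1 := Finset.card_union_add_card_inter (f.supp (ap c (f.b a))) (f.supp (ap c (f.b b)))
      have h3 := Finset.card_le_card (Finset.union_subset ha hb)
      rcases Nat.lt_or_ge (f.supp (ap c (f.b a)) ∩ f.supp (ap c (f.b b))).card 2 with h | h
      · omega
      · exact absurd ((Finset.eq_of_subset_of_card_le Finset.inter_subset_left (by omega)).symm.trans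
          (Finset.eq_of_subset_of_card_le Finset.inter_subset_right (by omega))) hne
    obtain ⟨x, hx⟩ := Finset.card_eq_one.1 h2
    have hd := polar_ap c (f.b a) (f.b b)
    rw [f.orth a b hab, f.polar_eq] at hd
    have hd' := (mul_eq_zero.1 hd).resolve_left f.two_c
    have hx' : x ∈ f.supp (ap c (f.b a)) ∩ f.supp (ap c (f.b b)) := by rw [hx]; exact Finset.mem_singleton_self x
    rw [Finset.mem_inter] at hx'
    rw [Frame.dot, Finset.sum_eq_single x (fun y _ hy => ?_) (fun h => absurd (Finset.mem_univ x) h)] at hd'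
    · exact mul_ne_zero (f.mem_supp.1 hx'.1) (f.mem_supp.1 hx'.2) hd'
    · by_contra h
      have h' := mul_ne_zero_iff.1 h
      rw [← f.mem_supp, ← f.mem_supp, ← Finset.mem_inter, hx, Finset.mem_singleton] at h'
      exact hy h'
  have e1 := same (Ne.symm hqp) hp.1 hp.2 hq.1 hq.2
  have e2 := same hpr hp.1 hp.2 hr.1 hr.2
  -- three orthogonal vectors in a plane
  obtain ⟨x, y, hxy, hT⟩ := Finset.card_eq_two.1 hp.2
  have hne : ∀ a, f.supp (ap c (f.b a)) = {x, y} → f.co (ap c (f.b a)) x ≠ 0 := fun a ha =>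
    f.mem_supp.1 (by rw [ha]; simp)
  have hdot : ∀ a b, f.supp (ap c (f.b a)) = {x, y} → f.dot (ap c (f.b a)) (ap c (f.b b)) =
      f.co (ap c (f.b a)) x * f.co (ap c (f.b b)) x + f.co (ap c (f.b a)) y * f.co (ap c (f.b b)) y := fun a b ha => by
    rw [Frame.dot, ← Finset.sum_subset (Finset.subset_univ (f.supp (ap c (f.b a)))) (fun l _ hl => by
      rw [f.notMem_supp.1 hl, zero_mul]), ha, Finset.sum_pair hxy]
  have horth : ∀ a b, a ≠ b → f.dot (ap c (f.b a)) (ap c (f.b b)) = 0 := fun a b hab => by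
    have hd := polar_ap c (f.b a) (f.b b)
    rw [f.orth a b hab, f.polar_eq] at hd
    exact (mul_eq_zero.1 hd).resolve_left f.two_c
  have Tq : f.supp (ap c (f.b q)) = {x, y} := by rw [← e1, hT]
  have Tr : f.supp (ap c (f.b r)) = {x, y} := by rw [← e2, hT]
  have e12 := horth p q (Ne.symm hqp)
  have e13 := horth p r hpr
  have e23 := horth q r hqr
  have hn1 := f.unit_iff.1 (show Q (ap c (f.b p)) = f.c by rw [quad_ap, f.quad])
  rw [hdot _ _ hT] at e12 e13 hn1
  rw [hdot _ _ Tq] at e23
  obtain ⟨a, ha⟩ : ∃ a, a = f.co (ap c (f.b p)) x := ⟨_, rfl⟩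
  obtain ⟨b, hb⟩ : ∃ b, b = f.co (ap c (f.b p)) y := ⟨_, rfl⟩
  rw [← ha, ← hb] at e12 e13 hn1
  refine mul_ne_zero (mul_ne_zero (hne q Tq) (hne r Tr)) one_ne_zero ?_
  linear_combination (-f.co (ap c (f.b q)) x * f.co (ap c (f.b r)) x) * hn1 +
    b ^ 2 * e23 - b * f.co (ap c (f.b r)) y * e12 + a * f.co (ap c (f.b q)) x * e13

variable {f} (hM : f.HasMono M)
include hM

/-- Two coordinates with distinct squares leave at most two others, and then of equal squares. -/
theorem pair_rest {s : ℕ} (hs : 3 ≤ s) (hsn : 5 ≤ s ∨ 5 ≤ n) (hmin : f.MinSupp M s) {u : ι → F} (hu : u ∈ f.RR M)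
    (hr : (f.supp u).card ≤ s + 1) {i j : Fin n} (hi : i ∈ f.supp u) (hj : j ∈ f.supp u)
    (hne : f.co u i ^ 2 ≠ f.co u j ^ 2) {k l : Fin n} (hk : k ∈ f.supp u) (hl : l ∈ f.supp u)
    (hki : k ≠ i) (hkj : k ≠ j) (hli : l ≠ i) (hlj : l ≠ j) (hkl : k ≠ l) :
    (f.supp u).card = 4 ∧ f.co u k ^ 2 = f.co u l ^ 2 := by
  classical
  have hij : i ≠ j := fun e => hne (by rw [e])
  haveI : Finite (Isom Q) := by
    haveI : Finite (GL ι F) := Finite.of_injective _ Units.val_injective
    infer_instance
  obtain ⟨z, hz⟩ : ∃ z : Isom Q, z = rf (f.b i) * rf (f.b j) := ⟨_, rfl⟩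
  have hcz : ∀ y k', f.co (ap z y) k' = if k' = i ∨ k' = j then -f.co y k' else f.co y k' := by
    intro y k'
    rw [hz, ap_mul, f.co_rf (f.quad i), f.dot_b, f.co_rf (f.quad j), f.co_rf (f.quad j), f.dot_b, co_b, co_b,
      co_b]
    split_ifs with h1 h2 h3 h4 <;> first | ring1 | skip
    all_goals simp_all <;> ring
  have hzz : z * z = 1 := f.co_ap_b (g := z) fun y k' => by
    rw [ap_mul, hcz, hcz]
    split_ifs <;> simp
  have hu0 : Q u ≠ 0 := by rw [hu.1]; exact f.c_ne
  have hdet : (mat Q (z * rf u)).det = -1 := by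
    rw [mat_mul, det_mul, hz, mat_mul, det_mul, det_rf (f.quad_ne i), det_rf (f.quad_ne j), det_rf hu0]
    ring
  have heven : Even (orderOf (z * rf u)) := by
    rcases Nat.even_or_odd (orderOf (z * rf u)) with h | h
    · exact h
    exfalso
    have h1 : ∀ m : ℕ, (mat Q ((z * rf u) ^ m)).det = (-1) ^ m := by
      intro m
      induction m with
      | zero => simp [mat_one]
      | succ m ih => rw [pow_succ, mat_mul, det_mul, ih, hdet, pow_succ]
    have := h1 (orderOf (z * rf u))
    rw [pow_orderOf_eq_one, mat_one, det_one, h.neg_one_pow] at this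
    exact f.two (by linear_combination this)
  obtain ⟨m, hc1, hcc, hcz', hcu⟩ := exists_central hzz (rf_mul_self u) heven
  obtain ⟨c, hc⟩ : ∃ c : Isom Q, c = (z * rf u) ^ m := ⟨_, rfl⟩
  rw [← hc] at hc1 hcc hcz' hcu
  have hRR : ∀ v ∈ f.RR M, ap c v ∈ f.RR M := by
    rw [hc]
    clear hc1 hcc hcz' hcu hc
    induction m with
    | zero => intro v hv; rwa [pow_zero, ap_one]
    | succ m ih =>
      intro v hv
      rw [pow_succ, ap_mul]
      refine ih _ ?_
      rw [ap_mul, hz, ap_mul]
      exact hM.refl_mem (hM.b_mem i) (hM.refl_mem (hM.b_mem j) (hM.refl_mem hu hv))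
  have hW : ∀ y, ∃ t : F, ∀ k', k' ≠ i → k' ≠ j → f.co (ap c y) k' = f.co y k' + t * f.co u k' := by
    rw [hc]
    clear hc1 hcc hcz' hcu hc hRR
    induction m with
    | zero => exact fun y => ⟨0, fun k' _ _ => by rw [pow_zero, ap_one, zero_mul, add_zero]⟩
    | succ m ih =>
      intro y
      obtain ⟨t, ht⟩ := ih (ap (z * rf u) y)
      refine ⟨t - 2 * f.dot u y, fun k' h1 h2 => ?_⟩
      rw [pow_succ, ap_mul, ht k' h1 h2, ap_mul, hcz, if_neg (by simp [h1, h2]), f.co_rf hu.1]
      ring
  have hfix : ∀ k', k' ∉ f.supp u → k' ≠ i → k' ≠ j → ap c (f.b k') = f.b k' := by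
    intro k' hk' h1 h2
    rw [hc]
    clear hc1 hcc hcz' hcu hc hRR hW
    induction m with
    | zero => rw [pow_zero, ap_one]
    | succ m ih =>
      have e : ap (z * rf u) (f.b k') = f.b k' := f.co_ext fun l' => by
        rw [ap_mul, hcz, f.co_rf hu.1, co_b]
        have : f.dot u (f.b k') = 0 := by
          rw [Frame.dot, Finset.sum_eq_single k']
          · rw [f.notMem_supp.1 hk', zero_mul]
          · intro b _ hb; rw [co_b, if_neg hb, mul_zero]
          · exact fun h => absurd (Finset.mem_univ _) h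
        rw [this]
        split_ifs with h3 h4 <;> simp_all
      rw [pow_succ, ap_mul, e, ih]
  -- the central involution preserves the coordinate plane and its complement
  have hin : ∀ k', (k' = i ∨ k' = j) → ∀ l', ¬(l' = i ∨ l' = j) → f.co (ap c (f.b k')) l' = 0 := by
    intro k' hk' l' hl'
    have hzb : ap z (f.b k') = -f.b k' := f.co_ext fun l'' => by
      rw [hcz, map_neg, Pi.neg_apply, co_b]
      split_ifs with h1 h2 <;> simp_all
    have h1 := congrArg (fun g : Isom Q => f.co (ap g (f.b k')) l') hcz'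
    simp only [ap_mul, hzb, map_neg, Pi.neg_apply, hcz, if_neg hl'] at h1
    exact (mul_eq_zero.1 (by linear_combination h1 : (2 : F) * f.co (ap c (f.b k')) l' = 0)).resolve_left f.two
  have hout : ∀ k', ¬(k' = i ∨ k' = j) → ∀ l', (l' = i ∨ l' = j) → f.co (ap c (f.b k')) l' = 0 := by
    intro k' hk' l' hl'
    have hzb : ap z (f.b k') = f.b k' := f.co_ext fun l'' => by
      rw [hcz, co_b]
      split_ifs with h1 h2 <;> simp_all
    have h1 := congrArg (fun g : Isom Q => f.co (ap g (f.b k')) l') hcz'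
    simp only [ap_mul, hzb, hcz, if_pos hl'] at h1
    exact (mul_eq_zero.1 (by linear_combination -h1 : (2 : F) * f.co (ap c (f.b k')) l' = 0)).resolve_left f.two
  have hin' : ∀ k', (k' = i ∨ k' = j) → f.supp (ap c (f.b k')) ⊆ {i, j} := fun k' hk' l' hl' => by
    by_contra h
    simp only [Finset.mem_insert, Finset.mem_singleton] at h
    exact f.mem_supp.1 hl' (hin k' hk' l' h)
  have hsmall : ∀ k', (f.supp (ap c (f.b k'))).card ≤ 1 ∨ ((f.supp (ap c (f.b k'))).card = 2 ∧ 4 ≤ s) := by
    intro k'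
    by_cases hcard : (f.supp (ap c (f.b k'))).card ≤ 1
    · exact Or.inl hcard
    refine Or.inr (((hmin _ (hRR _ (hM.b_mem k')) (by omega)).resolve_left ?_).imp_right And.left)
    by_cases hk' : k' = i ∨ k' = j
    · have h2 := Finset.card_le_card (hin' k' hk')
      rw [Finset.card_pair hij] at h2
      omega
    · have hk'' : k' ≠ i ∧ k' ≠ j := by simpa [not_or] using hk'
      by_cases hks : k' ∈ f.supp u
      · have hsub : f.supp (ap c (f.b k')) ⊆ ((f.supp u).erase i).erase j := fun l' hl' => by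
          have h0 := f.mem_supp.1 hl'
          have h1 : ¬(l' = i ∨ l' = j) := fun h => h0 (hout k' hk' l' h)
          simp only [not_or] at h1
          refine Finset.mem_erase.2 ⟨h1.2, Finset.mem_erase.2 ⟨h1.1, ?_⟩⟩
          obtain ⟨t, ht⟩ := hW (f.b k')
          rw [ht l' h1.1 h1.2, co_b] at h0
          by_cases e : l' = k'
          · rwa [e]
          · rw [if_neg e, zero_add] at h0
            exact f.mem_supp.2 fun e' => h0 (by rw [e', mul_zero])
        have h2 := Finset.card_le_card hsub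
        rw [Finset.card_erase_of_mem (Finset.mem_erase.2 ⟨Ne.symm hij, hj⟩), Finset.card_erase_of_mem hi] at h2
        omega
      · rw [hfix k' hks hk''.1 hk''.2, f.supp_b, Finset.card_singleton] at hcard
        omega
  -- two columns of disjoint supports, one of two coordinates, give a shorter vector
  have hpair : ∀ p q, p ≠ q → (f.supp (ap c (f.b p))).card = 2 →
      Disjoint (f.supp (ap c (f.b p))) (f.supp (ap c (f.b q))) → 2 + (f.supp (ap c (f.b q))).card < s → False := by
    intro p q hpq hp2 hdisj hlt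
    obtain ⟨x, y, hxy, hxy'⟩ := Finset.card_eq_two.1 hp2
    obtain ⟨v, hv⟩ : ∃ v, v = ap c (f.b p) := ⟨_, rfl⟩
    rw [← hv] at hp2 hxy' hdisj
    have hvR : v ∈ f.RR M := hv ▸ hRR _ (hM.b_mem p)
    obtain ⟨w, hw⟩ : ∃ w, w = f.co v x • f.b p + f.co v y • f.b q := ⟨_, rfl⟩
    have hcw : ∀ l', f.co w l' = (if l' = p then f.co v x else 0) + (if l' = q then f.co v y else 0) := fun l' => by
      simp [hw, co_b]
    have hn4 : 4 ≤ n := by
      have h4 : ({i, j, k, l} : Finset (Fin n)).card = 4 := by
        rw [Finset.card_insert_of_notMem (by simp [hij, Ne.symm hki, Ne.symm hli]),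
          Finset.card_insert_of_notMem (by simp [Ne.symm hkj, Ne.symm hlj]), Finset.card_pair hkl]
      have := Finset.card_le_univ ({i, j, k, l} : Finset (Fin n))
      rw [h4, Fintype.card_fin] at this
      exact this
    have hwR : w ∈ f.RR M := by
      refine hM.move hvR (by rw [hp2]; omega) (Equiv.swap (Equiv.swap x p y) q * Equiv.swap x p) fun l' => ?_
      have hx : (Equiv.swap (Equiv.swap x p y) q * Equiv.swap x p) x = p := by
        rw [Equiv.Perm.mul_apply, Equiv.swap_apply_left]
        refine Equiv.swap_apply_of_ne_of_ne (fun e => hxy ?_) hpq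
        have := congrArg (Equiv.swap x p) e
        rwa [Equiv.swap_apply_self, Equiv.swap_apply_right] at this
      have hy : (Equiv.swap (Equiv.swap x p y) q * Equiv.swap x p) y = q := by
        rw [Equiv.Perm.mul_apply, Equiv.swap_apply_left]
      rcases eq_or_ne l' x with rfl | h1
      · rw [hx, hcw, if_pos rfl, if_neg hpq, add_zero]
      rcases eq_or_ne l' y with rfl | h2
      · rw [hy, hcw, if_neg (Ne.symm hpq), if_pos rfl, zero_add]
      rw [hcw, if_neg (fun e => h1 ((Equiv.injective _) (e.trans hx.symm))),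
        if_neg (fun e => h2 ((Equiv.injective _) (e.trans hy.symm))),
        f.notMem_supp.1 (by rw [hxy']; simp [h1, h2]), add_zero]
    have hx0 : f.co v x ≠ 0 := f.mem_supp.1 (by rw [hxy']; simp)
    have hy0 : f.co v y ≠ 0 := f.mem_supp.1 (by rw [hxy']; simp)
    have hsupp : f.supp (ap c w) = f.supp v ∪ f.supp (ap c (f.b q)) := by
      ext l'
      rw [f.mem_supp, hw, map_add, map_smul, map_smul, ← hv, map_add, map_smul, map_smul, Pi.add_apply,
        Pi.smul_apply, Pi.smul_apply, smul_eq_mul, smul_eq_mul, Finset.mem_union]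
      by_cases h1 : l' ∈ f.supp v
      · rw [f.notMem_supp.1 (Finset.disjoint_left.1 hdisj h1), mul_zero, add_zero]
        exact ⟨fun _ => Or.inl h1, fun _ => mul_ne_zero hx0 (f.mem_supp.1 h1)⟩
      · rw [f.notMem_supp.1 h1, mul_zero, zero_add, mul_ne_zero_iff]
        simp only [f.mem_supp]
        exact ⟨fun h => Or.inr h.2, fun h => ⟨hy0, h.resolve_left fun e => e (f.notMem_supp.1 h1)⟩⟩
    have hc' : (f.supp (ap c w)).card = 2 + (f.supp (ap c (f.b q))).card := by
      rw [hsupp, Finset.card_union_of_disjoint hdisj, hp2]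
    have hq1 := Finset.card_pos.2 (f.supp_nonempty (v := ap c (f.b q)) (by rw [quad_ap, f.quad]))
    rcases hmin _ (hRR _ hwR) (by omega) with h | ⟨h, -, -⟩ <;> omega
  have hdisj : ∀ p q, (p = i ∨ p = j) → ¬(q = i ∨ q = j) →
      Disjoint (f.supp (ap c (f.b p))) (f.supp (ap c (f.b q))) := fun p q hp hq => by
    rw [Finset.disjoint_left]
    intro l' h1 h2
    have h3 := hin' p hp h1
    simp only [Finset.mem_insert, Finset.mem_singleton] at h3
    exact f.mem_supp.1 h2 (hout q hq l' h3)
  have hcoord_in : ∀ p, (p = i ∨ p = j) → (f.supp (ap c (f.b p))).card ≤ 1 := by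
    intro p hp
    by_contra hbig
    obtain ⟨hp2, hs4⟩ := (hsmall p).resolve_left hbig
    by_cases hex : ∃ q, q ∉ f.supp u
    · obtain ⟨q, hq⟩ := hex
      have hq' : q ≠ i ∧ q ≠ j := ⟨fun e => hq (e ▸ hi), fun e => hq (e ▸ hj)⟩
      refine hpair p q (fun e => ?_) hp2 (hdisj p q hp (by simp [hq'.1, hq'.2])) ?_
      · rcases hp with rfl | rfl
        · exact hq'.1 e.symm
        · exact hq'.2 e.symm
      · rw [hfix q hq hq'.1 hq'.2, f.supp_b, Finset.card_singleton]
        omega
    · push Not at hex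
      have hu' : f.supp u = Finset.univ := Finset.eq_univ_of_forall hex
      rw [hu', Finset.card_univ, Fintype.card_fin] at hr
      obtain ⟨q, hq, hq1⟩ : ∃ q, ¬(q = i ∨ q = j) ∧ 2 + (f.supp (ap c (f.b q))).card < s := by
        by_contra hno
        push Not at hno
        have hs4' : s = 4 ∧ n = 5 := by
          have := hno k ⟨hki, hkj⟩
          have := hsmall k
          rcases hsn with h | h <;> omega
        -- three orthogonal columns of two coordinates each on three coordinates
        have hout2 : ∀ q, q ≠ i → q ≠ j →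
            f.supp (ap c (f.b q)) ⊆ ((Finset.univ : Finset (Fin n)).erase i).erase j ∧
              (f.supp (ap c (f.b q))).card = 2 := fun q h1 h2 => by
          refine ⟨fun l' hl' => ?_, ?_⟩
          · have h0 := f.mem_supp.1 hl'
            simp only [Finset.mem_erase, Finset.mem_univ, and_true]
            exact ⟨fun e => h0 (hout q (by simp [h1, h2]) l' (Or.inr e)),
              fun e => h0 (hout q (by simp [h1, h2]) l' (Or.inl e))⟩
          · have := hno q ⟨h1, h2⟩
            have := hsmall q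
            omega
        obtain ⟨o, -, ho⟩ := Finset.exists_mem_notMem_of_card_lt_card (s := ({i, j, k, l} : Finset (Fin n)))
          (t := Finset.univ) (lt_of_le_of_lt Finset.card_le_four (by rw [Finset.card_univ, Fintype.card_fin]; omega))
        simp only [Finset.mem_insert, Finset.mem_singleton, not_or] at ho
        exact f.false_of_three_two (c := c) hij (by omega) (Ne.symm hkl) (Ne.symm ho.2.2.1) (Ne.symm ho.2.2.2)
          (hout2 k hki hkj) (hout2 l hli hlj) (hout2 o ho.1 ho.2.1)
      refine hpair p q (fun e => ?_) hp2 (hdisj p q hp hq) hq1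
      exact hq (e ▸ hp)
  have hmono : f.Mono c := by
    intro k'
    refine f.coord_of_card_le (by rw [quad_ap, f.quad]) ?_
    by_cases hk' : k' = i ∨ k' = j
    · exact hcoord_in k' hk'
    by_contra hbig
    obtain ⟨hp2, hs4⟩ := (hsmall k').resolve_left hbig
    refine hpair k' i (fun e => hk' (Or.inl e)) hp2 (hdisj i k' (Or.inl rfl) hk').symm ?_
    have := hcoord_in i (Or.inl rfl)
    omega
  obtain ⟨π, d, hd, hπ⟩ := hmono.exists_perm f
  -- the vector goes to itself or its negative
  obtain ⟨δ, hδ⟩ : ∃ δ : F, ap c u = δ • u := by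
    have hq : Q (ap c u) ≠ 0 := by rwa [quad_ap]
    have e : rf (Q := Q) (ap c u) = rf (Q := Q) u := by
      rw [← conj_rf, ← hcu, mul_assoc, mul_inv_cancel, mul_one]
    have h1 := ap_rf_self (Q := Q) hu0
    rw [← e, ap_rf hq, sub_eq_iff_eq_add'] at h1
    have h3 : ((Q (ap c u))⁻¹ * QuadraticMap.polar (⇑Q) (ap c u) u) • ap c u = (2 : F) • u := by
      rw [two_smul]
      calc _ = u - -u := by rw [← sub_eq_iff_eq_add'.2 h1]; abel
        _ = u + u := sub_neg_eq_add _ _
    have hK : (Q (ap c u))⁻¹ * QuadraticMap.polar (⇑Q) (ap c u) u ≠ 0 := by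
      intro h
      rw [h, zero_smul] at h3
      exact hu0 (by rw [(smul_eq_zero.1 h3.symm).resolve_left f.two, QuadraticMap.map_zero])
    exact ⟨_, by rw [← inv_smul_smul₀ hK (ap c u), h3, smul_smul]⟩
  have hco : ∀ k', δ * f.co u (π k') = d k' * f.co u k' := fun k' => by
    rw [← f.co_mono hπ u k', hδ, map_smul, Pi.smul_apply, smul_eq_mul]
  have hd2 : ∀ k', d k' ^ 2 = 1 := fun k' => by rcases hd k' with e | e <;> rw [e] <;> ring
  have hδ2 : δ ^ 2 = 1 := by
    have := quad_ap c u
    rw [hδ, QuadraticMap.map_smul, smul_eq_mul] at this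
    exact mul_right_cancel₀ hu0 (by rw [one_mul, sq, this])
  have hpi : π i = i ∨ π i = j := by
    by_contra h
    have h1 := hin i (Or.inl rfl) (π i) h
    rw [hπ, map_smul, Pi.smul_apply, co_b, if_pos rfl] at h1
    have := hd2 i
    simp only [smul_eq_mul, mul_one] at h1
    simp [h1] at this
  have hpij : π i = i := hpi.resolve_right fun e => hne (by
    have := congrArg (· ^ 2) (hco i)
    simp only [mul_pow, hδ2, hd2, one_mul, e] at this
    exact this.symm)
  have hpj : π j = j := by
    have hpj' : π j = i ∨ π j = j := by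
      by_contra h
      have h1 := hin j (Or.inr rfl) (π j) h
      rw [hπ, map_smul, Pi.smul_apply, co_b, if_pos rfl] at h1
      have := hd2 j
      simp only [smul_eq_mul, mul_one] at h1
      simp [h1] at this
    exact hpj'.resolve_left fun e => hij (π.injective (hpij.trans e.symm))
  obtain ⟨k0, hk0s, hk0i, hk0j, hk0⟩ : ∃ k0, k0 ∈ f.supp u ∧ k0 ≠ i ∧ k0 ≠ j ∧ ap c (f.b k0) ≠ f.b k0 := by
    by_contra hcon
    push Not at hcon
    have hδ1 : δ = 1 := by
      have hπk : π k = k ∧ d k = 1 := by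
        have h1 := congrArg (fun v => f.co v (π k)) ((hπ k).symm.trans (hcon k hk hki hkj))
        simp only [map_smul, Pi.smul_apply, co_b, smul_eq_mul, if_true, mul_one] at h1
        by_cases e : π k = k
        · exact ⟨e, by rwa [if_pos e] at h1⟩
        · exfalso
          rw [if_neg e] at h1
          rcases hd k with e' | e' <;> simp [e'] at h1
      have := hco k
      rw [hπk.1, hπk.2] at this
      exact mul_right_cancel₀ (f.mem_supp.1 hk) this
    refine hc1 (f.ext_b fun k' => ?_)
    rw [ap_one]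
    have key : ∀ k', π k' = k' → k' ∈ f.supp u → ap c (f.b k') = f.b k' := fun k' e hs' => by
      have := hco k'
      rw [e, hδ1, one_mul] at this
      have hd1 : d k' = 1 := mul_right_cancel₀ (f.mem_supp.1 hs') (this.symm.trans (one_mul _).symm)
      rw [hπ, e, hd1, one_smul]
    rcases eq_or_ne k' i with rfl | h1
    · exact key _ hpij hi
    rcases eq_or_ne k' j with rfl | h2
    · exact key _ hpj hj
    by_cases h3 : k' ∈ f.supp u
    · exact hcon k' h3 h1 h2
    · exact hfix k' h3 h1 h2
  obtain ⟨t, ht⟩ := hW (f.b k0)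
  have hval : ∀ l', l' ≠ i → l' ≠ j → (if l' = π k0 then d k0 else 0) = (if l' = k0 then (1 : F) else 0) + t * f.co u l' := by
    intro l' h1 h2
    rw [← f.co_b l' k0, ← ht l' h1 h2, hπ, map_smul, Pi.smul_apply, co_b, smul_eq_mul]
    split_ifs <;> simp
  have hπi : π k0 ≠ i := fun e => hk0i (π.injective (e.trans hpij.symm))
  have hπj : π k0 ≠ j := fun e => hk0j (π.injective (e.trans hpj.symm))
  have ht0 : t ≠ 0 := by
    intro h
    refine hk0 (f.co_ext fun l' => ?_)
    rw [hπ, map_smul, Pi.smul_apply, co_b, co_b, smul_eq_mul]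
    rcases eq_or_ne l' i with rfl | h1
    · rw [if_neg (Ne.symm hπi), if_neg (Ne.symm hk0i), mul_zero]
    rcases eq_or_ne l' j with rfl | h2
    · rw [if_neg (Ne.symm hπj), if_neg (Ne.symm hk0j), mul_zero]
    have := hval l' h1 h2
    rw [h, zero_mul, add_zero] at this
    rw [mul_ite, mul_one, mul_zero, this]
  have hrest : ∀ l' ∈ f.supp u, l' ≠ i → l' ≠ j → l' = k0 ∨ l' = π k0 := by
    intro l' h0 h1 h2
    by_contra h
    simp only [not_or] at h
    have := hval l' h1 h2
    rw [if_neg h.1, if_neg h.2, zero_add] at this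
    exact f.mem_supp.1 h0 ((mul_eq_zero.1 this.symm).resolve_left ht0)
  have hne0 : π k0 ≠ k0 := by
    intro e
    rcases hrest k hk hki hkj with e1 | e1 <;> rcases hrest l hl hli hlj with e2 | e2 <;>
      exact hkl (by simp [e1, e2, e])
  have hsupp : f.supp u = {i, j, k, l} := by
    ext l'
    simp only [Finset.mem_insert, Finset.mem_singleton]
    refine ⟨fun h0 => ?_, ?_⟩
    · by_contra h
      simp only [not_or] at h
      obtain ⟨h1, h2, h3, h4⟩ := h
      rcases hrest k hk hki hkj with e1 | e1 <;> rcases hrest l hl hli hlj with e2 | e2 <;>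
        rcases hrest l' h0 h1 h2 with e3 | e3 <;>
        first | exact hkl (e1.trans e2.symm) | exact h3 (e3.trans e1.symm) | exact h4 (e3.trans e2.symm)
    · rintro (rfl | rfl | rfl | rfl) <;> assumption
  refine ⟨?_, ?_⟩
  · rw [hsupp, Finset.card_insert_of_notMem (by simp [hij, Ne.symm hki, Ne.symm hli]),
      Finset.card_insert_of_notMem (by simp [Ne.symm hkj, Ne.symm hlj]), Finset.card_pair hkl]
  have hA := hval k0 hk0i hk0j
  rw [if_neg (Ne.symm hne0), if_pos rfl] at hA
  have hB := hval (π k0) hπi hπj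
  rw [if_pos rfl, if_neg hne0, zero_add] at hB
  have hsq : f.co u k0 ^ 2 = f.co u (π k0) ^ 2 :=
    mul_left_cancel₀ (pow_ne_zero 2 ht0) (by
      linear_combination (1 - t * f.co u k0) * hA - hd2 k0 + (d k0 + t * f.co u (π k0)) * hB)
  rcases hrest k hk hki hkj with rfl | rfl <;> rcases hrest l hl hli hlj with rfl | rfl
  · exact absurd rfl hkl
  · exact hsq
  · exact hsq.symm
  · exact absurd rfl hkl

/-- From five coordinates on all squares are equal. -/
theorem all_eq {s : ℕ} (hs : 3 ≤ s) (hsn : 5 ≤ s ∨ 5 ≤ n) (hmin : f.MinSupp M s) {u : ι → F} (hu : u ∈ f.RR M)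
    (hr : (f.supp u).card ≤ s + 1) (h5 : 5 ≤ (f.supp u).card) {i j : Fin n} (hi : i ∈ f.supp u)
    (hj : j ∈ f.supp u) : f.co u i ^ 2 = f.co u j ^ 2 := by
  classical
  by_contra hne
  have hc : 1 < (((f.supp u).erase i).erase j).card := by
    have h1 := Finset.pred_card_le_card_erase (s := f.supp u) (a := i)
    have h2 := Finset.pred_card_le_card_erase (s := (f.supp u).erase i) (a := j)
    omega
  obtain ⟨k, hk, l, hl, hkl⟩ := Finset.one_lt_card.1 hc
  simp only [Finset.mem_erase] at hk hl
  have := (pair_rest hM hs hsn hmin hu hr hi hj hne hk.2.2 hl.2.2 hk.2.1 hk.1 hl.2.1 hl.1 hkl).1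
  omega

/-- Four coordinates: one pair of each partition has equal squares. -/
theorem four {s : ℕ} (hs : 3 ≤ s) (hsn : 5 ≤ s ∨ 5 ≤ n) (hmin : f.MinSupp M s) {u : ι → F} (hu : u ∈ f.RR M)
    (hr : (f.supp u).card ≤ s + 1) {a b c d : Fin n} (ha : a ∈ f.supp u) (hb : b ∈ f.supp u)
    (hc : c ∈ f.supp u) (hd : d ∈ f.supp u) (hca : c ≠ a) (hcb : c ≠ b) (hda : d ≠ a) (hdb : d ≠ b)
    (hcd : c ≠ d) : f.co u a ^ 2 = f.co u b ^ 2 ∨ f.co u c ^ 2 = f.co u d ^ 2 :=
  (em _).imp id fun h => (pair_rest hM hs hsn hmin hu hr ha hb h hc hd hca hcb hda hdb hcd).2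

end Frame

end CfsgLib.OrthMono
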