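import Cfsg.Agent.OrthMono.Small
import Cfsg.Agent.OrthMax.DecompRoots

/-!
# Eichler elements from pairs of reflections; all of `Ω` from one full point

`omega_le_of_point`: if every vector orthogonal to a singular `u` pairs with `u` in `M`, then `Ω ≤ M`.
-/

set_option autoImplicit false
set_option linter.unusedSectionVars false

namespace CfsgLib.OrthMono

open Matrix Module CfsgLib.Spinor CfsgLib.Forms CfsgLib.OrthMax

variable {F : Type*} [Field F] [Fintype F] {ι : Type} [Fintype ι] [DecidableEq ι] {Q : QuadraticForm F (ι → F)}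

set_option quotPrecheck false in
local notation "𝔅" => QuadraticMap.polar (⇑Q)

namespace Frame

variable {n : ℕ} (f : Frame Q n)

theorem card_eq (f : Frame Q n) : Fintype.card ι = n := by
  have e : (ι → F) ≃ₗ[F] (Fin n → F) :=
    LinearEquiv.ofLinearMap f.co f.vec (LinearMap.ext f.co_vec) (LinearMap.ext f.vec_co)
  have := e.finrank_eq
  rwa [Module.finrank_pi, Module.finrank_pi, Fintype.card_fin] at this

/-- Two reflections in unit vectors differing by an orthogonal singular vector. -/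
theorem eich_eq_pair {u w : ι → F} (hu : Q u = 0) (huw : 𝔅 u w = 0) (hw : Q w = f.c) :
    mat Q (rf w * rf (w + u) : Isom Q) = eich Q u (f.c⁻¹ • w) := by
  have hc := f.c_ne
  have h1 : Q (w + u) = f.c := by
    rw [QuadraticMap.map_add (⇑Q), hw, hu, QuadraticMap.polar_comm, huw, add_zero, add_zero]
  refine Matrix.ext_iff_mulVec.2 fun x => ?_
  rw [← ap_def, ap_mul, ap_rf (by rw [hw]; exact hc), ap_rf (by rw [h1]; exact hc), eich_mulVec, hw, h1]
  simp only [QuadraticMap.map_smul, hw, QuadraticMap.polar_smul_left, QuadraticMap.polar_sub_right,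
    QuadraticMap.polar_smul_right, QuadraticMap.polar_add_left, QuadraticMap.polar_add_right, smul_eq_mul,
    polar_self', QuadraticMap.polar_comm (⇑Q) w u, huw]
  match_scalars
  · ring
  · field_simp; ring
  · field_simp; ring

variable {f} {M : Subgroup (Isom Q)} (hM : f.HasMono M) (hp : (Fintype.card F).Prime)
include hM hp

omit hM in
theorem exists_natCast (t : F) : ∃ k : ℕ, (k : F) = t := by
  haveI : Fact (Fintype.card F).Prime := ⟨hp⟩
  haveI : CharP F (Fintype.card F) := charP_of_card_eq_prime rfl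
  obtain ⟨z, rfl⟩ := (ZMod.ringEquivOfPrime F hp rfl).surjective t
  exact ⟨z.val, by rw [← map_natCast (ZMod.ringEquivOfPrime F hp rfl), ZMod.natCast_zmod_val]⟩

omit hM in
/-- Over a prime field one multiple gives all. -/
theorem rootSpace_of_rootMem {u w : ι → F} (hu : Q u = 0) (huw : 𝔅 u w = 0) {t₀ : F} (ht₀ : t₀ ≠ 0)
    (h : RootMem M u (t₀ • w)) : w ∈ rootSpace M hu := by
  refine ⟨huw, fun t => ?_⟩
  obtain ⟨k, hk⟩ := exists_natCast hp (t / t₀)
  have ht : t = (k : F) * t₀ := by rw [hk, div_mul_cancel₀ _ ht₀]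
  rw [ht, mul_smul]
  clear ht hk
  induction k with
  | zero => rw [Nat.cast_zero, zero_smul]; exact RootMem.zero
  | succ k ih =>
    rw [Nat.cast_succ, add_smul, one_smul]
    exact RootMem.add hu (by simp [QuadraticMap.polar_smul_right, huw])
      (by simp [QuadraticMap.polar_smul_right, huw]) ih h

/-- A pair in `RR` gives a line of the root space. -/
theorem rootSpace_of_pair {u w : ι → F} (hu : Q u = 0) (huw : 𝔅 u w = 0) (hw : w ∈ f.RR M)
    (hwu : w + u ∈ f.RR M) : w ∈ rootSpace M hu := by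
  refine rootSpace_of_rootMem hp hu huw (inv_ne_zero f.c_ne) fun g hg => ?_
  rw [mat_ext Q (hg.trans (eich_eq_pair f hu huw hw.1).symm)]
  exact hM.pair_mem hw hwu

omit hp in
/-- Signed rearrangements of small supports. -/
theorem move' {k : ℕ} {u w : ι → F} (hu : u ∈ f.RR M) (hk : k + 2 ≤ n) (g h : Fin k → Fin n)
    (hg : Function.Injective g) (hh : Function.Injective h) (hug : ∀ i, i ∉ Set.range g → f.co u i = 0)
    (hwh : ∀ i, i ∉ Set.range h → f.co w i = 0) (he : ∀ i, f.co w (h i) ^ 2 = f.co u (g i) ^ 2) :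
    w ∈ f.RR M := by
  classical
  let e : {x // x ∈ Set.range g} ≃ {x // x ∈ Set.range h} :=
    (Equiv.ofInjective g hg).symm.trans (Equiv.ofInjective h hh)
  have hcard : (f.supp u).card + 2 ≤ n := by
    have h1 : f.supp u ⊆ Finset.univ.image g := fun i hi => by
      by_contra h'
      exact f.mem_supp.1 hi (hug i (by simpa using h'))
    have := (Finset.card_le_card h1).trans Finset.card_image_le
    rw [Finset.card_univ, Fintype.card_fin] at this
    omega
  refine hM.move hu hcard e.extendSubtype fun i => ?_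
  by_cases hi : i ∈ Set.range g
  · obtain ⟨j, rfl⟩ := hi
    rw [Equiv.extendSubtype_apply_of_mem e _ ⟨j, rfl⟩,
      show ((e ⟨g j, ⟨j, rfl⟩⟩ : {x // x ∈ Set.range h}) : Fin n) = h j from ?_, he]
    simp only [e, Equiv.trans_apply]
    rw [Equiv.ofInjective_symm_apply hg]
    rfl
  · rw [hug i hi, hwh _ (Equiv.extendSubtype_not_mem e _ hi)]

/-- One full point is enough. -/
theorem omega_le_of_point (hn : 5 ≤ n) {u : ι → F} (hu : Q u = 0) {i j : Fin n} (hi : f.co u i ≠ 0)
    (hj : f.co u j = 0) (h : ∀ x, 𝔅 u x = 0 → x ∈ rootSpace M hu) : Cfsg.Omega F ⇑Q ≤ M := by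
  have hij : i ≠ j := fun e => hi (e ▸ hj)
  have fu : Full M u := fun w hw => by simpa using (h w hw).2 1
  have hk : rf (f.b i) * rf (f.b j) ∈ M := hM.bb_mem i j
  have fv := fu.conj hk
  rw [← ap_def] at fv
  refine omega_le_of_full_pair f.nondeg (by rw [f.card_eq]; exact hn) hu (by rw [quad_ap, hu]) ?_ fu fv
  have hv : ap (rf (f.b i) * rf (f.b j) : Isom Q) u = u - (2 * f.co u i) • f.b i := by
    refine f.co_ext fun l => ?_
    rw [ap_mul, f.co_rf (f.quad i), f.dot_b, f.co_rf (f.quad j), f.co_rf (f.quad j), f.dot_b, hj, map_sub, map_smul,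
      Pi.sub_apply, Pi.smul_apply, smul_eq_mul]
    ring
  rw [hv, QuadraticMap.polar_sub_right, QuadraticMap.polar_smul_right, f.polar_b_right, polar_self', hu,
    smul_eq_mul]
  simp only [mul_zero, zero_sub, neg_ne_zero]
  exact mul_ne_zero (mul_ne_zero f.two hi) (mul_ne_zero f.two_c hi)

omit hp hM in
/-- Splitting off a set of coordinates. -/
theorem mem_of_split {u : ι → F} (hu : Q u = 0) (S : Finset (Fin n)) (hus : ∀ i, i ∉ S → f.co u i = 0)
    (hb : ∀ l, l ∉ S → f.b l ∈ rootSpace M hu)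
    (hin : ∀ x, (∀ i, i ∉ S → f.co x i = 0) → 𝔅 u x = 0 → x ∈ rootSpace M hu) (x : ι → F) (hx : 𝔅 u x = 0) :
    x ∈ rootSpace M hu := by
  classical
  rw [← f.vec_co x, f.vec_apply, ← Finset.sum_add_sum_compl S]
  refine Submodule.add_mem _ (hin _ (fun i hi => ?_) ?_)
    (Submodule.sum_mem _ fun l hl => Submodule.smul_mem _ _ (hb l (Finset.mem_compl.1 hl)))
  · rw [map_sum, Finset.sum_apply, Finset.sum_eq_zero fun l hl => ?_]
    rw [map_smul, Pi.smul_apply, f.co_b, if_neg (fun e => hi (by rw [e]; exact hl)), smul_zero]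
  · have e : (∑ l ∈ Sᶜ, f.co x l • f.b l) ∈ (QuadraticMap.polarBilin Q u).ker :=
      Submodule.sum_mem _ fun l hl => Submodule.smul_mem _ _ (by
        rw [LinearMap.mem_ker, QuadraticMap.polarBilin_apply_apply, f.polar_b_right,
          hus l (Finset.mem_compl.1 hl), mul_zero])
    rw [← f.vec_co x, f.vec_apply, ← Finset.sum_add_sum_compl S, QuadraticMap.polar_add_right] at hx
    rw [LinearMap.mem_ker, QuadraticMap.polarBilin_apply_apply] at e
    rwa [e, add_zero] at hx

/-- Three elements: supports of four. -/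
theorem omega_le_char_three (hn : 10 ≤ n) (h3 : (3 : F) = 0) {v : ι → F} (hv : v ∈ f.RR M)
    (hc : (f.supp v).card = 4) : Cfsg.Omega F ⇑Q ≤ M := by
  classical
  haveI : Fact (Fintype.card F).Prime := ⟨hp⟩
  haveI : CharP F (Fintype.card F) := charP_of_card_eq_prime rfl
  have hcard : Fintype.card F = 3 := (Nat.prime_dvd_prime_iff_eq hp Nat.prime_three).1
    ((CharP.cast_eq_zero_iff F _ 3).1 (by exact_mod_cast h3))
  have hsq : ∀ x : F, x ≠ 0 → x ^ 2 = 1 := fun x hx => by
    have := FiniteField.pow_card_sub_one_eq_one x hx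
    rwa [hcard] at this
  obtain ⟨a, b, c, d, hab, hac, had, hbc, hbd, hcd, hS⟩ := Finset.card_eq_four.1 hc
  have hunits : ∀ (h : Fin 4 → Fin n) (w : ι → F), Function.Injective h →
      (∀ i, i ∉ Set.range h → f.co w i = 0) → (∀ i, f.co w (h i) ≠ 0) → w ∈ f.RR M := fun h w hh hw hne => by
    refine move' hM hv (by omega) ![a, b, c, d] h (fun x y e => ?_) hh (fun i hi => ?_) hw fun i => ?_
    · fin_cases x <;> fin_cases y <;> simp_all [eq_comm]
    · refine f.notMem_supp.1 fun h' => hi ?_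
      rw [hS] at h'
      simp only [Finset.mem_insert, Finset.mem_singleton] at h'
      rcases h' with e | e | e | e
      · exact ⟨0, e.symm⟩
      · exact ⟨1, e.symm⟩
      · exact ⟨2, e.symm⟩
      · exact ⟨3, e.symm⟩
    · rw [hsq _ (hne i), hsq]
      rw [← f.mem_supp, hS]
      fin_cases i <;> simp
  have hlt : ∀ j : ℕ, j < 10 → j < n := fun j hj => lt_of_lt_of_le hj hn
  obtain ⟨i, hi⟩ : ∃ i : Fin n, (i : ℕ) = 0 := ⟨⟨0, hlt 0 (by norm_num)⟩, rfl⟩
  obtain ⟨j, hj⟩ : ∃ i : Fin n, (i : ℕ) = 1 := ⟨⟨1, hlt 1 (by norm_num)⟩, rfl⟩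
  obtain ⟨k, hk⟩ : ∃ i : Fin n, (i : ℕ) = 2 := ⟨⟨2, hlt 2 (by norm_num)⟩, rfl⟩
  obtain ⟨l₁, hl₁⟩ : ∃ i : Fin n, (i : ℕ) = 3 := ⟨⟨3, hlt 3 (by norm_num)⟩, rfl⟩
  obtain ⟨l₂, hl₂⟩ : ∃ i : Fin n, (i : ℕ) = 4 := ⟨⟨4, hlt 4 (by norm_num)⟩, rfl⟩
  have hij : i ≠ j := fun e => by simp [e, hj] at hi
  have hik : i ≠ k := fun e => by simp [e, hk] at hi
  have hjk : j ≠ k := fun e => by simp [e, hk] at hj
  obtain ⟨u, hu'⟩ : ∃ u, u = f.b i + f.b j + f.b k := ⟨_, rfl⟩
  have huc : ∀ l, f.co u l = (if l = i then 1 else 0) + (if l = j then 1 else 0) + (if l = k then 1 else 0) :=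
    fun l => by rw [hu', map_add, map_add, Pi.add_apply, Pi.add_apply, f.co_b, f.co_b, f.co_b]
  have hus : ∀ l, l ∉ ({i, j, k} : Finset (Fin n)) → f.co u l = 0 := fun l hl => by
    simp only [Finset.mem_insert, Finset.mem_singleton, not_or] at hl
    simp [huc, hl.1, hl.2.1, hl.2.2]
  have hu : Q u = 0 := by
    rw [hu', QuadraticMap.map_add (⇑Q), QuadraticMap.map_add (⇑Q), f.quad, f.quad, f.quad, f.orth i j hij,
      QuadraticMap.polar_add_left, f.orth i k hik, f.orth j k hjk]
    linear_combination f.c * h3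
  have hub : ∀ l, l ∉ ({i, j, k} : Finset (Fin n)) → f.b l ∈ rootSpace M hu := fun l hl => by
    have hl' := hl
    simp only [Finset.mem_insert, Finset.mem_singleton, not_or] at hl'
    refine rootSpace_of_pair hM hp hu (by rw [f.polar_b_right, hus l hl, mul_zero]) (hM.b_mem l) ?_
    refine hunits ![l, i, j, k] _ (fun x y e => ?_) (fun z hz => ?_) fun z => ?_
    · fin_cases x <;> fin_cases y <;> simp_all [eq_comm]
    · have : z ≠ l ∧ z ≠ i ∧ z ≠ j ∧ z ≠ k := ⟨fun e => hz ⟨0, e.symm⟩, fun e => hz ⟨1, e.symm⟩,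
        fun e => hz ⟨2, e.symm⟩, fun e => hz ⟨3, e.symm⟩⟩
      simp [f.co_b, huc, this.1, this.2.1, this.2.2.1, this.2.2.2]
    · fin_cases z <;> simp [f.co_b, huc, hl'.1, hl'.2.1, hl'.2.2, Ne.symm hl'.1, Ne.symm hl'.2.1, Ne.symm hl'.2.2,
        hij, hik, hjk, hij.symm, hik.symm, hjk.symm]
  have hdiff : ∀ p q r : Fin n, p ≠ q → p ≠ r → q ≠ r → ({i, j, k} : Finset (Fin n)) = {p, q, r} →
      f.b p - f.b q ∈ rootSpace M hu := by
    intro p q r hpq hpr hqr hset
    have hmem : ∀ z : Fin n, z ∈ ({i, j, k} : Finset (Fin n)) ↔ z = p ∨ z = q ∨ z = r := fun z => by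
      rw [hset]; simp
    have hn1 : l₁ ∉ ({i, j, k} : Finset (Fin n)) := by simp [Fin.ext_iff, hi, hj, hk, hl₁]
    have hn2 : l₂ ∉ ({i, j, k} : Finset (Fin n)) := by simp [Fin.ext_iff, hi, hj, hk, hl₂]
    have h12 : l₁ ≠ l₂ := by simp [Fin.ext_iff, hl₁, hl₂]
    have hu1 : ∀ z, f.co u z = if z = p ∨ z = q ∨ z = r then 1 else 0 := fun z => by
      by_cases h : z ∈ ({i, j, k} : Finset (Fin n))
      · rw [if_pos ((hmem z).1 h)]
        simp only [Finset.mem_insert, Finset.mem_singleton] at h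
        rcases h with rfl | rfl | rfl <;> simp [huc, hij, hik, hjk, hij.symm, hik.symm, hjk.symm]
      · rw [hus z h, if_neg fun h' => h ((hmem z).2 h')]
    have hn1' := fun h => hn1 ((hmem l₁).2 h)
    have hn2' := fun h => hn2 ((hmem l₂).2 h)
    have a1 : l₁ ≠ p ∧ l₁ ≠ q ∧ l₁ ≠ r := by simpa [not_or] using hn1'
    have a2 : l₂ ≠ p ∧ l₂ ≠ q ∧ l₂ ≠ r := by simpa [not_or] using hn2'
    have h2' : (1 + 1 : F) ≠ 0 := by rw [one_add_one_eq_two]; exact f.two
    have key : f.b p - f.b q + f.b l₁ + f.b l₂ ∈ rootSpace M hu := by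
      refine rootSpace_of_pair hM hp hu ?_ ?_ ?_
      · rw [QuadraticMap.polar_add_right, QuadraticMap.polar_add_right, QuadraticMap.polar_sub_right,
          f.polar_b_right, f.polar_b_right, f.polar_b_right, f.polar_b_right, hu1, hu1, hu1, hu1]
        simp [a1, a2]
      · refine hunits ![p, q, l₁, l₂] _ (fun x y e => ?_) (fun z hz => ?_) fun z => ?_
        · fin_cases x <;> fin_cases y <;> simp_all [eq_comm]
        · have : z ≠ p ∧ z ≠ q ∧ z ≠ l₁ ∧ z ≠ l₂ := ⟨fun e => hz ⟨0, e.symm⟩, fun e => hz ⟨1, e.symm⟩,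
            fun e => hz ⟨2, e.symm⟩, fun e => hz ⟨3, e.symm⟩⟩
          simp [f.co_b, this.1, this.2.1, this.2.2.1, this.2.2.2]
        · fin_cases z <;> simp [f.co_b, hpq, hpq.symm, h12, h12.symm, a1, a2, Ne.symm a1.1, Ne.symm a1.2.1,
            Ne.symm a2.1, Ne.symm a2.2.1]
      · refine hunits ![p, r, l₁, l₂] _ (fun x y e => ?_) (fun z hz => ?_) fun z => ?_
        · fin_cases x <;> fin_cases y <;> simp_all [eq_comm]
        · have : z ≠ p ∧ z ≠ r ∧ z ≠ l₁ ∧ z ≠ l₂ := ⟨fun e => hz ⟨0, e.symm⟩, fun e => hz ⟨1, e.symm⟩,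
            fun e => hz ⟨2, e.symm⟩, fun e => hz ⟨3, e.symm⟩⟩
          rcases eq_or_ne z q with rfl | hzq
          · simp [f.co_b, hu1, this.1, this.2.1, this.2.2.1, this.2.2.2]
          · simp [f.co_b, hu1, this.1, this.2.1, this.2.2.1, this.2.2.2, hzq]
        · fin_cases z <;> simp [f.co_b, hu1, hpq, hpq.symm, hpr, hpr.symm, hqr, hqr.symm, h12, h12.symm, a1, a2,
            Ne.symm a1.1, Ne.symm a1.2.1, Ne.symm a1.2.2, Ne.symm a2.1, Ne.symm a2.2.1, Ne.symm a2.2.2, h2']
    have := Submodule.sub_mem _ (Submodule.sub_mem _ key (hub l₂ hn2)) (hub l₁ hn1)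
    simpa using this
  refine omega_le_of_point hM hp (by omega) hu (i := i) (j := l₁) (by simp [huc, hij, hik]) (hus l₁ (by
    simp [Fin.ext_iff, hi, hj, hk, hl₁])) (mem_of_split hu _ hus hub fun x hx hux => ?_)
  have e1 := hdiff i j k hij hik hjk rfl
  have e2 := hdiff j k i hjk hij.symm hik.symm (by
    ext; simp only [Finset.mem_insert, Finset.mem_singleton]; tauto)
  have hsum : f.co x i + f.co x j + f.co x k = 0 := by
    rw [hu', QuadraticMap.polar_add_left, QuadraticMap.polar_add_left, f.polar_b_left, f.polar_b_left,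
      f.polar_b_left, ← mul_add, ← mul_add] at hux
    exact (mul_eq_zero.1 hux).resolve_left f.two_c
  have hxe : x = f.co x i • (f.b i - f.b j) + (f.co x i + f.co x j) • (f.b j - f.b k) := f.co_ext fun z => by
    simp only [map_add, map_smul, map_sub, Pi.add_apply, Pi.smul_apply, Pi.sub_apply, f.co_b, smul_eq_mul]
    rcases eq_or_ne z i with rfl | z1
    · simp [hij, hik]
    rcases eq_or_ne z j with rfl | z2
    · simp [hij.symm, hjk]
    rcases eq_or_ne z k with rfl | z3
    · simp [hik.symm, hjk.symm]; linear_combination hsum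
    simp [z1, z2, z3, hx z (by simp [z1, z2, z3])]
  rw [hxe]
  exact Submodule.add_mem _ (Submodule.smul_mem _ _ e1) (Submodule.smul_mem _ _ e2)

/-- Five elements: supports of three. -/
theorem omega_le_char_five (hn : 10 ≤ n) (h5 : (5 : F) = 0) {v : ι → F} (hv : v ∈ f.RR M)
    (hc : (f.supp v).card = 3) : Cfsg.Omega F ⇑Q ≤ M := by
  classical
  haveI : Fact (Fintype.card F).Prime := ⟨hp⟩
  haveI : CharP F (Fintype.card F) := charP_of_card_eq_prime rfl
  have hcard : Fintype.card F = 5 := (Nat.prime_dvd_prime_iff_eq hp (by norm_num)).1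
    ((CharP.cast_eq_zero_iff F _ 5).1 (by exact_mod_cast h5))
  have h3 : (3 : F) ≠ 0 := fun h => f.two (by linear_combination h5 - h)
  have hsq : ∀ x : F, x ≠ 0 → x ^ 2 = 1 ∨ x ^ 2 = -1 := fun x hx => by
    have := FiniteField.pow_card_sub_one_eq_one x hx
    rw [hcard] at this
    exact sq_eq_one_iff.1 (by rw [← pow_mul]; exact this)
  obtain ⟨a, b, c, hab, hac, hbc, hS⟩ := Finset.card_eq_three.1 hc
  -- put the square `-1` last
  obtain ⟨g, hg, hgs, g0, g1, g2⟩ : ∃ g : Fin 3 → Fin n, Function.Injective g ∧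
      (∀ i, i ∉ Set.range g → f.co v i = 0) ∧ f.co v (g 0) ^ 2 = 1 ∧ f.co v (g 1) ^ 2 = 1 ∧
      f.co v (g 2) ^ 2 = -1 := by
    have hnorm := f.unit_iff.1 hv.1
    rw [dot_supp, hS, Finset.sum_insert (by simp [hab, hac]), Finset.sum_pair hbc] at hnorm
    have m : ∀ z, z ∈ ({a, b, c} : Finset (Fin n)) → f.co v z ≠ 0 := fun z hz => f.mem_supp.1 (hS ▸ hz)
    have rest : ∀ g : Fin 3 → Fin n, ({a, b, c} : Finset (Fin n)) ⊆ {g 0, g 1, g 2} →
        ∀ i, i ∉ Set.range g → f.co v i = 0 := fun g hgs i hi => f.notMem_supp.1 fun h => hi (by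
      have := hgs (hS ▸ h)
      simp only [Finset.mem_insert, Finset.mem_singleton] at this
      rcases this with e | e | e
      · exact ⟨0, e.symm⟩
      · exact ⟨1, e.symm⟩
      · exact ⟨2, e.symm⟩)
    rcases hsq _ (m a (by simp)) with A | A <;> rcases hsq _ (m b (by simp)) with B | B <;>
      rcases hsq _ (m c (by simp)) with C | C <;>
      first
      | exact ⟨![a, b, c], fun x y e => by fin_cases x <;> fin_cases y <;> simp_all [eq_comm],
          rest _ (by intro z; simp), by simpa using A, by simpa using B, by simpa using C⟩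
      | exact ⟨![a, c, b], fun x y e => by fin_cases x <;> fin_cases y <;> simp_all [eq_comm],
          rest _ (by intro z; simp only [Finset.mem_insert, Finset.mem_singleton]; tauto),
          by simpa using A, by simpa using C, by simpa using B⟩
      | exact ⟨![b, c, a], fun x y e => by fin_cases x <;> fin_cases y <;> simp_all [eq_comm],
          rest _ (by intro z; simp only [Finset.mem_insert, Finset.mem_singleton]; tauto),
          by simpa using B, by simpa using C, by simpa using A⟩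
      | exact absurd (by linear_combination hnorm - A - B - C : (2 : F) = 0) f.two
      | exact absurd (by linear_combination -hnorm + A + B + C : (2 : F) = 0) f.two
      | exact absurd (by linear_combination -hnorm + A + B + C : (2 : F) * 2 = 0) (mul_ne_zero f.two f.two)
  have hlt : ∀ j : ℕ, j < 10 → j < n := fun j hj => lt_of_lt_of_le hj hn
  obtain ⟨i, hi⟩ : ∃ i : Fin n, (i : ℕ) = 0 := ⟨⟨0, hlt 0 (by norm_num)⟩, rfl⟩
  obtain ⟨j, hj⟩ : ∃ i : Fin n, (i : ℕ) = 1 := ⟨⟨1, hlt 1 (by norm_num)⟩, rfl⟩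
  obtain ⟨k, hk⟩ : ∃ i : Fin n, (i : ℕ) = 2 := ⟨⟨2, hlt 2 (by norm_num)⟩, rfl⟩
  have hij : i ≠ j := fun e => by simp [e, hj] at hi
  obtain ⟨u, hu'⟩ : ∃ u, u = f.b i + (2 : F) • f.b j := ⟨_, rfl⟩
  have huc : ∀ l, f.co u l = (if l = i then 1 else 0) + 2 * (if l = j then 1 else 0) := fun l => by
    rw [hu', map_add, map_smul, Pi.add_apply, Pi.smul_apply, f.co_b, f.co_b, smul_eq_mul]
  have hus : ∀ l, l ∉ ({i, j} : Finset (Fin n)) → f.co u l = 0 := fun l hl => by
    simp only [Finset.mem_insert, Finset.mem_singleton, not_or] at hl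
    simp [huc, hl.1, hl.2]
  have hu : Q u = 0 := by
    rw [hu', QuadraticMap.map_add (⇑Q), QuadraticMap.map_smul, f.quad, f.quad, QuadraticMap.polar_smul_right,
      f.orth i j hij, smul_eq_mul, smul_eq_mul]
    linear_combination f.c * h5
  refine omega_le_of_point hM hp (by omega) hu (i := i) (j := k) (by simp [huc, hij]) (hus k (by
    simp [Fin.ext_iff, hi, hj, hk])) (mem_of_split hu _ hus (fun l hl => ?_) fun x hx hux => ?_)
  · have hl' := hl
    simp only [Finset.mem_insert, Finset.mem_singleton, not_or] at hl'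
    refine rootSpace_of_pair hM hp hu (by rw [f.polar_b_right, hus l hl, mul_zero]) (hM.b_mem l) ?_
    refine move' hM hv (by omega) g ![l, i, j] hg (fun x y e => ?_) hgs (fun z hz => ?_) fun z => ?_
    · fin_cases x <;> fin_cases y <;> simp_all [eq_comm]
    · have : z ≠ l ∧ z ≠ i ∧ z ≠ j := ⟨fun e => hz ⟨0, e.symm⟩, fun e => hz ⟨1, e.symm⟩, fun e => hz ⟨2, e.symm⟩⟩
      simp [f.co_b, huc, this.1, this.2.1, this.2.2]
    · fin_cases z
      · simp [f.co_b, huc, hl'.1, hl'.2, g0]
      · simp [f.co_b, huc, Ne.symm hl'.1, hij, g1]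
      · simp [f.co_b, huc, Ne.symm hl'.2, hij.symm, g2]
        linear_combination h5
  · have hsum : f.co x i + 2 * f.co x j = 0 := by
      rw [hu', QuadraticMap.polar_add_left, QuadraticMap.polar_smul_left, f.polar_b_left, f.polar_b_left,
        smul_eq_mul, mul_left_comm, ← mul_add] at hux
      exact (mul_eq_zero.1 hux).resolve_left f.two_c
    have hxe : x = f.co x i • u := f.co_ext fun z => by
      rw [map_smul, Pi.smul_apply, huc, smul_eq_mul]
      rcases eq_or_ne z i with rfl | z1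
      · simp [hij]
      rcases eq_or_ne z j with rfl | z2
      · simp [hij.symm]; linear_combination f.co x z * h5 - 2 * hsum
      simp [z1, z2, hx z (by simp [z1, z2])]
    rw [hxe]
    exact Submodule.smul_mem _ _ self_mem_rootSpace

end Frame

end CfsgLib.OrthMono
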