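import Cfsg.Agent.OrthMono.Reduce

/-!
# The smallest support of a vector of `RR M`

`exists_small`: support two, or three over five elements, or four over three elements.
-/

set_option autoImplicit false
set_option linter.unusedSectionVars false

namespace CfsgLib.OrthMono

open Matrix Module CfsgLib.Spinor CfsgLib.Forms CfsgLib.OrthMax

variable {F : Type*} [Field F] [Fintype F] {ι : Type} [Fintype ι] [DecidableEq ι] {Q : QuadraticForm F (ι → F)}

namespace Frame

variable {n : ℕ} {f : Frame Q n} {M : Subgroup (Isom Q)}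

theorem quad_of_dot {x : ι → F} (h : f.dot x x = 1) : Q x = f.c := f.unit_iff.2 h

theorem dot_eq_sum {x y : ι → F} (S : Finset (Fin n)) (h : ∀ i, i ∉ S → f.co x i = 0) :
    f.dot x y = ∑ i ∈ S, f.co x i * f.co y i :=
  (Finset.sum_subset (Finset.subset_univ S) fun i _ hi => by rw [h i hi, zero_mul]).symm

theorem dot_supp (x y : ι → F) : f.dot x y = ∑ i ∈ f.supp x, f.co x i * f.co y i :=
  dot_eq_sum _ fun _ hi => f.notMem_supp.1 hi

variable (hM : f.HasMono M)
include hM

/-- No minimal support of five or more. -/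
theorem min_le_four {s : ℕ} (h5 : 5 ≤ s) (hmin : f.MinSupp M s) {u : ι → F} (hu : u ∈ f.RR M)
    (hs : (f.supp u).card = s) : False := by
  classical
  obtain ⟨a₀, ha₀⟩ := f.supp_nonempty hu.1
  obtain ⟨lam, hlam⟩ : ∃ l, l = f.co u a₀ := ⟨_, rfl⟩
  have hlam0 : lam ≠ 0 := hlam ▸ f.mem_supp.1 ha₀
  have heq : ∀ i ∈ f.supp u, f.co u i ^ 2 = lam ^ 2 := fun i hi => by
    rw [hlam]
    exact all_eq hM (by omega) (Or.inl h5) hmin hu (by omega) (by omega) hi ha₀
  have hsum : (s : F) * lam ^ 2 = 1 := by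
    rw [← f.unit_iff.1 hu.1, dot_supp,
      Finset.sum_congr rfl (g := fun _ => lam ^ 2) (fun i hi => by rw [← sq, heq i hi]), Finset.sum_const,
      nsmul_eq_mul, hs]
  -- the image of a sign change of `u` under its reflection
  have key : ∀ T ⊆ f.supp u, ∃ v ∈ f.RR M, ∀ i, f.co v i =
      ((if i ∈ T then -1 else 1) - (2 - 4 * (T.card : F) * lam ^ 2)) * f.co u i := by
    intro T hT
    obtain ⟨w, hw⟩ : ∃ w, w = f.vec (fun i => (if i ∈ T then (-1 : F) else 1) * f.co u i) := ⟨_, rfl⟩
    have hco : ∀ i, f.co w i = (if i ∈ T then (-1 : F) else 1) * f.co u i := fun i => by rw [hw, co_vec]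
    have hwR : w ∈ f.RR M := hM.sign_mem hu fun i => by rw [hco]; split_ifs <;> ring
    refine ⟨_, hM.refl_mem hu hwR, fun i => ?_⟩
    have hd : f.dot u w = 1 - 2 * (T.card : F) * lam ^ 2 := by
      have e : ∀ j ∈ f.supp u, f.co u j * f.co w j = lam ^ 2 - (if j ∈ T then 2 * lam ^ 2 else 0) := by
        intro j hj
        rw [hco, ← heq j hj]
        split_ifs <;> ring
      rw [dot_supp, Finset.sum_congr rfl e, Finset.sum_sub_distrib, ← Finset.sum_filter,
        Finset.filter_mem_eq_inter, Finset.inter_eq_right.2 hT, Finset.sum_const, Finset.sum_const, nsmul_eq_mul,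
        nsmul_eq_mul, hs, hsum]
      ring
    rw [f.co_rf hu.1, hd, hco]
    ring
  -- the alternatives for such an image
  have alt : ∀ T ⊆ f.supp u, ∀ κ : F, κ = 2 - 4 * (T.card : F) * lam ^ 2 → 0 < T.card → T.card < s →
      κ = 0 ∨ (κ = -1 ∧ ((s - T.card) ≤ 1 ∨ (s - T.card = 2 ∧ (3 : F) ≠ 0))) ∨
        (κ = 1 ∧ (T.card ≤ 1 ∨ (T.card = 2 ∧ (3 : F) ≠ 0))) := by
    intro T hT κ hκ hT0 hTs
    obtain ⟨v, hv, hvc⟩ := key T hT
    simp only [← hκ] at hvc
    have hsub : f.supp v ⊆ f.supp u := fun i hi => f.mem_supp.2 fun e => f.mem_supp.1 hi (by rw [hvc, e, mul_zero])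
    obtain ⟨t, ht⟩ := Finset.card_pos.1 hT0
    obtain ⟨r, hr, hrT⟩ := Finset.exists_mem_notMem_of_card_lt_card (by omega : T.card < (f.supp u).card)
    have hut := f.mem_supp.1 (hT ht)
    have hur := f.mem_supp.1 hr
    have hB : ∀ B, (f.supp v).card ≤ B → B < s →
        (κ = -1 ∧ s - T.card ≤ (f.supp v).card) ∨ (κ = 1 ∧ T.card ≤ (f.supp v).card) := by
      intro B hvB hBs
      by_cases h1 : (1 : F) - κ = 0
      · refine Or.inr ⟨(sub_eq_zero.1 h1).symm, Finset.card_le_card fun i hi => ?_⟩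
        rw [f.mem_supp, hvc, if_pos hi]
        refine mul_ne_zero (fun e => f.two ?_) (f.mem_supp.1 (hT hi))
        linear_combination h1 - e
      · have h2 : (-1 : F) - κ = 0 := by
          by_contra h2
          have hsub' : f.supp u ⊆ f.supp v := fun i hi => by
            rw [f.mem_supp, hvc]
            refine mul_ne_zero ?_ (f.mem_supp.1 hi)
            split_ifs
            · exact h2
            · exact h1
          have := Finset.card_le_card hsub'
          omega
        refine Or.inl ⟨(sub_eq_zero.1 h2).symm, ?_⟩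
        rw [← hs, ← Finset.card_sdiff_of_subset hT]
        exact Finset.card_le_card fun i hi => by
          rw [Finset.mem_sdiff] at hi
          rw [f.mem_supp, hvc, if_neg hi.2]
          exact mul_ne_zero h1 (f.mem_supp.1 hi.1)
    by_cases hsmall : (f.supp v).card ≤ 1
    · rcases hB 1 hsmall (by omega) with ⟨e, hle⟩ | ⟨e, hle⟩
      · exact Or.inr (Or.inl ⟨e, Or.inl (by omega)⟩)
      · exact Or.inr (Or.inr ⟨e, Or.inl (by omega)⟩)
    rcases hmin v hv (by omega) with hge | ⟨h2, -, h3⟩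
    · have he : f.supp v = f.supp u := Finset.eq_of_subset_of_card_le hsub (by omega)
      have h := all_eq hM (by omega) (Or.inl h5) hmin hv (by rw [he]; omega) (by rw [he]; omega) (he ▸ hT ht) (he ▸ hr)
      rw [hvc, hvc, if_pos ht, if_neg hrT, mul_pow, mul_pow, heq _ (hT ht), heq _ hr] at h
      have h' := mul_right_cancel₀ (pow_ne_zero 2 hlam0) h
      refine Or.inl ?_
      have : (2 : F) * 2 * κ = 0 := by linear_combination h'
      simpa [f.two] using this
    · rcases hB 2 h2.le (by omega) with ⟨e, hle⟩ | ⟨e, hle⟩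
      · refine Or.inr (Or.inl ⟨e, ?_⟩)
        rcases (by omega : s - T.card ≤ 1 ∨ s - T.card = 2) with h | h
        · exact Or.inl h
        · exact Or.inr ⟨h, h3⟩
      · refine Or.inr (Or.inr ⟨e, ?_⟩)
        rcases (by omega : T.card ≤ 1 ∨ T.card = 2) with h | h
        · exact Or.inl h
        · exact Or.inr ⟨h, h3⟩
  obtain ⟨a, ha⟩ := f.supp_nonempty hu.1
  have hget : ∀ m ≤ s, ∃ T ⊆ f.supp u, T.card = m := fun m hm =>
    Finset.exists_subset_card_eq (by omega)
  obtain ⟨T1, hT1, h1⟩ := hget 1 (by omega)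
  obtain ⟨T2, hT2, h2⟩ := hget 2 (by omega)
  obtain ⟨T3, hT3, h3⟩ := hget 3 (by omega)
  have a1 := alt T1 hT1 _ rfl (by omega) (by omega)
  have a2 := alt T2 hT2 _ rfl (by omega) (by omega)
  have a3 := alt T3 hT3 _ rfl (by omega) (by omega)
  rw [h1] at a1
  rw [h2] at a2
  rw [h3] at a3
  push_cast at a1 a2 a3
  rcases a2 with b2 | ⟨-, b2 | ⟨b2, -⟩⟩ | ⟨b2, b2' | ⟨-, h3'⟩⟩
  · rcases a1 with b1 | ⟨-, b1 | ⟨b1, -⟩⟩ | ⟨b1, -⟩
    · exact f.two (by linear_combination 2 * b1 - b2)
    · omega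
    · omega
    · rcases a3 with b3 | ⟨-, b3 | ⟨b3, -⟩⟩ | ⟨-, b3 | ⟨b3, -⟩⟩
      · exact f.two (by linear_combination b2 * 3 - b3 * 2)
      · omega
      · -- five equal squares, four of which sum to one
        obtain rfl : s = 5 := by omega
        push_cast at hsum
        exact pow_ne_zero 2 hlam0 (by linear_combination hsum + b1)
      · omega
      · omega
  · omega
  · omega
  · omega
  · rcases a1 with b1 | ⟨-, b1 | ⟨b1, -⟩⟩ | ⟨b1, -⟩
    · exact h3' (by linear_combination 2 * b1 - b2)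
    · omega
    · omega
    · exact one_ne_zero (α := F) (by linear_combination 2 * b1 - b2)

/-- Support four only in characteristic three. -/
theorem min_ne_four (hn : 5 ≤ n) (h3 : (3 : F) ≠ 0) (hmin : f.MinSupp M 4) {u : ι → F} (hu : u ∈ f.RR M)
    (hs : (f.supp u).card = 4) : False := by
  classical
  obtain ⟨p, q, r, t, hpq, hpr, hpt, hqr, hqt, hrt, hS⟩ := Finset.card_eq_four.1 hs
  have hmem : ∀ i, i ∈ f.supp u ↔ i = p ∨ i = q ∨ i = r ∨ i = t := fun i => by rw [hS]; simp
  have four' := fun {x y z w : Fin n} (hx : x ∈ f.supp u) (hy : y ∈ f.supp u) (hz : z ∈ f.supp u)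
    (hw : w ∈ f.supp u) => four hM (by norm_num : 3 ≤ 4) (Or.inr hn) hmin hu (by omega) hx hy hz hw
  have mp : p ∈ f.supp u := (hmem _).2 (Or.inl rfl)
  have mq : q ∈ f.supp u := (hmem _).2 (Or.inr (Or.inl rfl))
  have mr : r ∈ f.supp u := (hmem _).2 (Or.inr (Or.inr (Or.inl rfl)))
  have mt : t ∈ f.supp u := (hmem _).2 (Or.inr (Or.inr (Or.inr rfl)))
  -- three equal squares
  obtain ⟨x₁, x₂, x₃, x₄, h12, h13, h14, h23, h24, h34, hS', e12, e13⟩ : ∃ x₁ x₂ x₃ x₄ : Fin n, x₁ ≠ x₂ ∧
      x₁ ≠ x₃ ∧ x₁ ≠ x₄ ∧ x₂ ≠ x₃ ∧ x₂ ≠ x₄ ∧ x₃ ≠ x₄ ∧ f.supp u = {x₁, x₂, x₃, x₄} ∧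
      f.co u x₁ ^ 2 = f.co u x₂ ^ 2 ∧ f.co u x₁ ^ 2 = f.co u x₃ ^ 2 := by
    rcases four' mp mq mr mt hpr.symm hqr.symm hpt.symm hqt.symm hrt with A | A <;>
      rcases four' mp mr mq mt hpq.symm hqr hpt.symm hrt.symm hqt with B | B <;>
      rcases four' mp mt mq mr hpq.symm hqt hpr.symm hrt hqr with C | C <;>
      first
      | exact ⟨p, q, r, t, hpq, hpr, hpt, hqr, hqt, hrt, hS,
          by linear_combination A, by linear_combination B⟩
      | exact ⟨p, q, t, r, hpq, hpt, hpr, hqt, hqr, hrt.symm, by rw [hS]; ext; simp only [Finset.mem_insert, Finset.mem_singleton]; tauto,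
          by linear_combination A, by linear_combination C⟩
      | exact ⟨p, r, t, q, hpr, hpt, hpq, hrt, hqr.symm, hqt.symm, by rw [hS]; ext; simp only [Finset.mem_insert, Finset.mem_singleton]; tauto,
          by linear_combination B, by linear_combination C⟩
      | exact ⟨q, r, t, p, hqr, hqt, hpq.symm, hrt, hpr.symm, hpt.symm, by rw [hS]; ext; simp only [Finset.mem_insert, Finset.mem_singleton]; tauto,
          by linear_combination C, by linear_combination B⟩
      | exact ⟨r, q, t, p, hqr.symm, hrt, hpr.symm, hqt, hpq.symm, hpt.symm, by rw [hS]; ext; simp only [Finset.mem_insert, Finset.mem_singleton]; tauto,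
          by linear_combination -C, by linear_combination A⟩
      | exact ⟨t, q, r, p, hqt.symm, hrt.symm, hpt.symm, hqr, hpq.symm, hpr.symm, by rw [hS]; ext; simp only [Finset.mem_insert, Finset.mem_singleton]; tauto,
          by linear_combination -B, by linear_combination -A⟩
      | exact ⟨p, q, r, t, hpq, hpr, hpt, hqr, hqt, hrt, hS,
          by linear_combination A, by linear_combination A + C⟩
      | exact ⟨p, q, t, r, hpq, hpt, hpr, hqt, hqr, hrt.symm, by rw [hS]; ext; simp only [Finset.mem_insert, Finset.mem_singleton]; tauto,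
          by linear_combination A, by linear_combination A + B⟩
      | exact ⟨p, r, t, q, hpr, hpt, hpq, hrt, hqr.symm, hqt.symm, by rw [hS]; ext; simp only [Finset.mem_insert, Finset.mem_singleton]; tauto,
          by linear_combination B, by linear_combination A + B⟩
      | exact ⟨p, q, r, t, hpq, hpr, hpt, hqr, hqt, hrt, hS,
          by linear_combination B - C, by linear_combination B⟩
      | exact ⟨p, q, r, t, hpq, hpr, hpt, hqr, hqt, hrt, hS,
          by linear_combination C - B, by linear_combination C - A⟩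
  obtain ⟨o, -, ho⟩ := Finset.exists_mem_notMem_of_card_lt_card
    (by rw [Finset.card_univ, Fintype.card_fin]; omega : (f.supp u).card < (Finset.univ : Finset (Fin n)).card)
  have ho' : o ≠ x₁ ∧ o ≠ x₂ ∧ o ≠ x₃ ∧ o ≠ x₄ := by simpa [hS'] using ho
  obtain ⟨o1, o2, o3, o4⟩ := ho'
  obtain ⟨α, hα⟩ : ∃ α, α = f.co u x₁ := ⟨_, rfl⟩
  obtain ⟨β, hβ⟩ : ∃ β, β = f.co u x₄ := ⟨_, rfl⟩
  have hα0 : α ≠ 0 := hα ▸ f.mem_supp.1 (by rw [hS']; simp)
  have hβ0 : β ≠ 0 := hβ ▸ f.mem_supp.1 (by rw [hS']; simp)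
  have hzero : ∀ i, i ≠ x₁ → i ≠ x₂ → i ≠ x₃ → i ≠ x₄ → f.co u i = 0 := fun i a b c d =>
    f.notMem_supp.1 (by rw [hS']; simp [a, b, c, d])
  obtain ⟨u₀, hu₀⟩ : ∃ w, w = f.vec (fun i => if i = x₁ ∨ i = x₂ ∨ i = x₃ then α else if i = x₄ then β else 0) :=
    ⟨_, rfl⟩
  have hu₀R : u₀ ∈ f.RR M := hM.sign_mem hu fun i => by
    rw [hu₀, co_vec]
    rcases eq_or_ne i x₁ with rfl | a
    · simp [hα]
    rcases eq_or_ne i x₂ with rfl | b
    · simp [hα, e12, a]
    rcases eq_or_ne i x₃ with rfl | c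
    · simp [hα, e13, a, b]
    rcases eq_or_ne i x₄ with rfl | d
    · simp [hβ, a, b, c]
    simp [hzero i a b c d, a, b, c, d]
  have hu₀c : ∀ i, f.co u₀ i = if i = x₁ ∨ i = x₂ ∨ i = x₃ then α else if i = x₄ then β else 0 := fun i => by
    rw [hu₀, co_vec]
  have hu₀z : ∀ i, i ∉ ({x₁, x₂, x₃, x₄} : Finset (Fin n)) → f.co u₀ i = 0 := fun i hi => by
    simp only [Finset.mem_insert, Finset.mem_singleton, not_or] at hi
    simp [hu₀c, hi.1, hi.2.1, hi.2.2.1, hi.2.2.2]
  have hnorm : 3 * α ^ 2 + β ^ 2 = 1 := by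
    have := f.unit_iff.1 hu₀R.1
    rw [dot_eq_sum _ hu₀z, Finset.sum_insert (by simp [h12, h13, h14]), Finset.sum_insert (by simp [h23, h24]),
      Finset.sum_pair h34] at this
    simp [hu₀c, h12.symm, h13.symm, h14.symm, h23.symm, h24.symm, h34.symm] at this
    linear_combination this
  -- a moved copy
  obtain ⟨u', hu'⟩ : ∃ w, w = f.vec (fun i => if i = x₂ ∨ i = x₄ then α else if i = x₃ then -α else
      if i = o then β else 0) := ⟨_, rfl⟩
  have hu'c : ∀ i, f.co u' i = if i = x₂ ∨ i = x₄ then α else if i = x₃ then -α else if i = o then β else 0 :=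
    fun i => by rw [hu', co_vec]
  have hu'R : u' ∈ f.RR M := by
    refine hM.move_even hu₀R (π := Equiv.swap x₁ x₄ * Equiv.swap x₄ o)
      (by rw [map_mul, Equiv.Perm.sign_swap h14, Equiv.Perm.sign_swap (Ne.symm o4)]; rfl) fun i => ?_
    rw [Equiv.Perm.mul_apply, hu'c, hu₀c]
    rcases eq_or_ne i x₁ with rfl | a
    · simp [Equiv.swap_apply_of_ne_of_ne h14 o1.symm, h34.symm, h24.symm]
    rcases eq_or_ne i x₂ with rfl | b
    · simp [Equiv.swap_apply_of_ne_of_ne h24 o2.symm, Equiv.swap_apply_of_ne_of_ne a h24]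
    rcases eq_or_ne i x₃ with rfl | c
    · simp [Equiv.swap_apply_of_ne_of_ne h34 o3.symm, Equiv.swap_apply_of_ne_of_ne a h34, h23.symm, h34, b]
    rcases eq_or_ne i x₄ with rfl | d
    · simp [Equiv.swap_apply_of_ne_of_ne o1 o4, o2, o3, o4, a, b, c]
    rcases eq_or_ne i o with rfl | e
    · simp [h12, h13, h14, o1.symm, o1, o2, o3, o4]
    simp [Equiv.swap_apply_of_ne_of_ne d e, Equiv.swap_apply_of_ne_of_ne a d, a, b, c, d, e]
  have hdot : f.dot u₀ u' = α * β := by
    rw [dot_eq_sum _ hu₀z, Finset.sum_insert (by simp [h12, h13, h14]), Finset.sum_insert (by simp [h23, h24]),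
      Finset.sum_pair h34]
    simp [hu₀c, hu'c, h12, h13, h14, h23, h24, h34, h12.symm, h13.symm, h14.symm, h23.symm, h24.symm, h34.symm,
      o1.symm]
    ring
  obtain ⟨v, hv⟩ : ∃ v, v = ap (rf (Q := Q) u₀) u' := ⟨_, rfl⟩
  have hvR : v ∈ f.RR M := hv ▸ hM.refl_mem hu₀R hu'R
  have hvc : ∀ i, f.co v i = f.co u' i - 2 * (α * β) * f.co u₀ i := fun i => by rw [hv, f.co_rf hu₀R.1, hdot]
  have w1 : f.co v x₁ = -(2 * (α * β) * α) := by
    simp [hvc, hu₀c, hu'c, h12, h13, h14, o1.symm]
  have w2 : f.co v x₂ = α * (1 - 2 * (α * β)) := by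
    simp [hvc, hu₀c, hu'c, h12.symm]; ring
  have w3 : f.co v x₃ = -(α * (1 + 2 * (α * β))) := by
    simp [hvc, hu₀c, hu'c, h23.symm, h34, h13.symm]; ring
  have w4 : f.co v x₄ = α - 2 * (α * β) * β := by
    simp [hvc, hu₀c, hu'c, h14.symm, h24.symm, h34.symm]
  have w5 : f.co v o = β := by
    simp [hvc, hu₀c, hu'c, o1, o2, o3, o4]
  have hm1 : x₁ ∈ f.supp v := f.mem_supp.2 (by rw [w1]; simp [hα0, hβ0, f.two])
  have hm5 : o ∈ f.supp v := f.mem_supp.2 (by rw [w5]; exact hβ0)
  have hvsub : f.supp v ⊆ {x₁, x₂, x₃, x₄, o} := fun i hi => by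
    by_contra h
    simp only [Finset.mem_insert, Finset.mem_singleton, not_or] at h
    apply f.mem_supp.1 hi
    simp [hvc, hu₀c, hu'c, h.1, h.2.1, h.2.2.1, h.2.2.2.1, h.2.2.2.2]
  have hvr : (f.supp v).card ≤ 4 + 1 := by
    have := Finset.card_le_card hvsub
    have h5 : ({x₁, x₂, x₃, x₄, o} : Finset (Fin n)).card ≤ 5 := Finset.card_le_five
    omega
  have hvcard : 4 ≤ (f.supp v).card := by
    refine (hmin v hvR (Finset.one_lt_card.2 ⟨_, hm1, _, hm5, o1.symm⟩)).resolve_right fun h => ?_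
    have he : ({x₁, o} : Finset (Fin n)) = f.supp v := Finset.eq_of_subset_of_card_le
      (fun i hi => by
        simp only [Finset.mem_insert, Finset.mem_singleton] at hi
        rcases hi with rfl | rfl <;> assumption)
      (by rw [Finset.card_pair o1.symm, h.1])
    have hm2 := f.notMem_supp.1 (show x₂ ∉ f.supp v by rw [← he]; simp [h12.symm, o2.symm])
    have hm3 := f.notMem_supp.1 (show x₃ ∉ f.supp v by rw [← he]; simp [h13.symm, o3.symm])
    rw [w2] at hm2
    rw [w3] at hm3
    exact mul_ne_zero f.two hα0 (by linear_combination hm2 - hm3)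
  by_cases hm4 : x₄ ∈ f.supp v
  · by_cases hm2 : x₂ ∈ f.supp v
    · by_cases hm3 : x₃ ∈ f.supp v
      · have h5 : 5 ≤ (f.supp v).card := by
          have : ({x₁, x₂, x₃, x₄, o} : Finset (Fin n)) ⊆ f.supp v := fun i hi => by
            simp only [Finset.mem_insert, Finset.mem_singleton] at hi
            rcases hi with rfl | rfl | rfl | rfl | rfl <;> assumption
          refine le_trans (le_of_eq ?_) (Finset.card_le_card this)
          rw [Finset.card_insert_of_notMem (by simp [h12, h13, h14, o1.symm]),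
            Finset.card_insert_of_notMem (by simp [h23, h24, o2.symm]),
            Finset.card_insert_of_notMem (by simp [h34, o3.symm]), Finset.card_pair o4.symm]
        have h := all_eq hM (by norm_num : 3 ≤ 4) (Or.inr hn) hmin hvR hvr h5 hm2 hm3
        rw [w2, w3] at h
        have h0 : (2 : F) * 2 * 2 * (α * β) * α ^ 2 = 0 := by linear_combination -h
        simp [f.two, hα0, hβ0] at h0
      · -- `x₃` is absent
        have e3 : 1 + 2 * (α * β) = 0 := by
          have := f.notMem_supp.1 hm3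
          rw [w3, neg_eq_zero, mul_eq_zero] at this
          exact this.resolve_left hα0
        rcases four hM (by norm_num : 3 ≤ 4) (Or.inr hn) hmin hvR hvr hm1 hm2 hm4 hm5 h14.symm h24.symm o1 o2 o4.symm with
          h | h
        · rw [w1, w2] at h
          exact h3 ((mul_eq_zero.1 (by
            linear_combination -h + 2 * α ^ 2 * e3 : (3 : F) * α ^ 2 = 0)).resolve_right
              (pow_ne_zero 2 hα0))
        · rw [w4, w5] at h
          have e1 : α + β = β ∨ α + β = -β := by
            refine sq_eq_sq_iff_eq_or_eq_neg.1 ?_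
            linear_combination h + (2 * α + β - 2 * (α * β) * β) * β * e3
          rcases e1 with e1 | e1
          · exact hα0 (by linear_combination e1)
          · have h4β : 4 * β ^ 2 = 1 := by linear_combination -e3 + 2 * β * e1
            have h13β : 13 * β ^ 2 = 1 := by linear_combination hnorm - 3 * (α - 2 * β) * e1
            exact h3 (by
              have h9 : (3 : F) * 3 * β ^ 2 = 0 := by linear_combination h13β - h4β
              simpa [hβ0] using h9)
    · -- `x₂` is absent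
      have e2 : 1 - 2 * (α * β) = 0 := by
        have := f.notMem_supp.1 hm2
        rw [w2, mul_eq_zero] at this
        exact this.resolve_left hα0
      have hm3 : x₃ ∈ f.supp v := f.mem_supp.2 (by
        rw [w3, neg_ne_zero]
        refine mul_ne_zero hα0 fun h => f.two ?_
        linear_combination h + e2)
      rcases four hM (by norm_num : 3 ≤ 4) (Or.inr hn) hmin hvR hvr hm1 hm3 hm4 hm5 h14.symm h34.symm o1 o3 o4.symm with
        h | h
      · rw [w1, w3] at h
        exact h3 ((mul_eq_zero.1 (by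
          linear_combination -h + 2 * α ^ 2 * e2 : (3 : F) * α ^ 2 = 0)).resolve_right
            (pow_ne_zero 2 hα0))
      · rw [w4, w5] at h
        have e1 : α - β = β ∨ α - β = -β := by
          refine sq_eq_sq_iff_eq_or_eq_neg.1 ?_
          linear_combination h - (2 * α - β - 2 * (α * β) * β) * β * e2
        rcases e1 with e1 | e1
        · have h4β : 4 * β ^ 2 = 1 := by linear_combination -e2 - 2 * β * e1
          have h13β : 13 * β ^ 2 = 1 := by linear_combination hnorm - 3 * (α + 2 * β) * e1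
          exact h3 (by
            have h9 : (3 : F) * 3 * β ^ 2 = 0 := by linear_combination h13β - h4β
            simpa [hβ0] using h9)
        · exact hα0 (by linear_combination e1)
  · -- `x₄` is absent
    have e4 : 2 * β ^ 2 = 1 := by
      have := f.notMem_supp.1 hm4
      rw [w4] at this
      exact mul_left_cancel₀ hα0 (by linear_combination -this)
    have hall : {x₁, x₂, x₃, o} = f.supp v := by
      refine (Finset.eq_of_subset_of_card_le (fun i hi => ?_) ?_).symm
      · have := hvsub hi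
        simp only [Finset.mem_insert, Finset.mem_singleton] at this ⊢
        rcases this with h | h | h | h | h <;> try tauto
        exact absurd (h ▸ hi) hm4
      · exact (Finset.card_le_four).trans hvcard
    have hm2 : x₂ ∈ f.supp v := hall ▸ by simp
    have hm3 : x₃ ∈ f.supp v := hall ▸ by simp
    have h6 : 6 * α ^ 2 = 1 := by linear_combination 2 * hnorm - e4
    rcases four hM (by norm_num : 3 ≤ 4) (Or.inr hn) hmin hvR hvr hm2 hm3 hm1 hm5 h12 h13 o2 o3 o1.symm with h | h
    · rw [w2, w3] at h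
      have h0 : (2 : F) * 2 * 2 * (α * β) * α ^ 2 = 0 := by linear_combination -h
      simp [f.two, hα0, hβ0] at h0
    · rw [w1, w5] at h
      have h4 : 4 * (α ^ 2) ^ 2 = 1 := mul_left_cancel₀ (pow_ne_zero 2 hβ0) (by linear_combination h)
      have h32 : (2 : F) * 2 * 2 * 2 * 2 = 0 := by linear_combination -36 * h4 + 4 * (6 * α ^ 2 + 1) * h6
      simp [f.two] at h32

end Frame

end CfsgLib.OrthMono
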