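import Cfsg.Agent.OrthMono.Small

/-!
# Support three and the summary

`exists_small`: a vector of support two, or three over five elements, or four over three elements;
`exists_small_good`: the same, avoiding the vectors of two equal squares.
-/

set_option autoImplicit false
set_option linter.unusedSectionVars false

namespace CfsgLib.OrthMono

open Matrix Module CfsgLib.Spinor CfsgLib.Forms CfsgLib.OrthMax

variable {F : Type*} [Field F] [Fintype F] {ι : Type} [Fintype ι] [DecidableEq ι] {Q : QuadraticForm F (ι → F)}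

namespace Frame

variable {n : ℕ} {f : Frame Q n} {M : Subgroup (Isom Q)}

theorem vec_three {a b c : Fin n} (hab : a ≠ b) (hac : a ≠ c) (hbc : b ≠ c) (x y z : F) :
    f.co (f.vec (fun i => if i = a then x else if i = b then y else if i = c then z else 0)) a = x ∧
    f.co (f.vec (fun i => if i = a then x else if i = b then y else if i = c then z else 0)) b = y ∧
    f.co (f.vec (fun i => if i = a then x else if i = b then y else if i = c then z else 0)) c = z := by
  simp [co_vec, hab.symm, hac.symm, hbc.symm]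

variable (hM : f.HasMono M)
include hM

/-- The image of a signed rearrangement under the reflection in a vector of support three, on four coordinates. -/
theorem shifted {u : ι → F} (hu : u ∈ f.RR M) (hn : 5 ≤ n) {a b c o : Fin n} (hab : a ≠ b) (hac : a ≠ c)
    (hbc : b ≠ c) (hoa : o ≠ a) (hob : o ≠ b) (hoc : o ≠ c) (hS : f.supp u ⊆ {a, b, c}) (π : Equiv.Perm (Fin n))
    (x y z : F) (hπ : ∀ i, (if π i = b then x else if π i = c then y else if π i = o then z else 0) ^ 2 =
      f.co u i ^ 2) :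
    ∃ v ∈ f.RR M, f.co v a = -(2 * (f.co u b * x + f.co u c * y) * f.co u a) ∧
      f.co v b = x - 2 * (f.co u b * x + f.co u c * y) * f.co u b ∧
      f.co v c = y - 2 * (f.co u b * x + f.co u c * y) * f.co u c ∧ f.co v o = z ∧ f.supp v ⊆ {a, b, c, o} := by
  classical
  obtain ⟨w, hw⟩ : ∃ w, w = f.vec (fun i => if i = b then x else if i = c then y else if i = o then z else 0) :=
    ⟨_, rfl⟩
  have hz : ∀ i, i ∉ ({a, b, c} : Finset (Fin n)) → f.co u i = 0 := fun i hi =>
    f.notMem_supp.1 fun h => hi (hS h)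
  have hwc : ∀ i, f.co w i = if i = b then x else if i = c then y else if i = o then z else 0 := fun i => by
    rw [hw, co_vec]
  have hcard : (f.supp u).card + 2 ≤ n := by
    have := Finset.card_le_card hS
    have h3 : ({a, b, c} : Finset (Fin n)).card ≤ 3 := Finset.card_le_three
    omega
  have hwR : w ∈ f.RR M := hM.move hu hcard π fun i => by rw [hwc]; exact hπ i
  have hd : f.dot u w = f.co u b * x + f.co u c * y := by
    rw [dot_eq_sum _ hz, Finset.sum_insert (by simp [hab, hac]), Finset.sum_pair hbc]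
    simp [hwc, hab, hac, hbc.symm, hoa.symm]
  refine ⟨_, hM.refl_mem hu hwR, ?_, ?_, ?_, ?_, fun i hi => ?_⟩
  · rw [f.co_rf hu.1, hd, hwc, if_neg hab, if_neg hac, if_neg hoa.symm, zero_sub]
  · rw [f.co_rf hu.1, hd, hwc, if_pos rfl]
  · rw [f.co_rf hu.1, hd, hwc, if_neg hbc.symm, if_pos rfl]
  · rw [f.co_rf hu.1, hd, hwc, if_neg hob, if_neg hoc, if_pos rfl, hz o (by simp [hoa, hob, hoc])]
    ring
  · by_contra h
    simp only [Finset.mem_insert, Finset.mem_singleton, not_or] at h
    apply f.mem_supp.1 hi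
    rw [f.co_rf hu.1, hd, hwc, if_neg h.2.1, if_neg h.2.2.1, if_neg h.2.2.2, hz i (by simp [h.1, h.2.1, h.2.2.1])]
    ring

variable (hn : 10 ≤ n) (h3 : (3 : F) ≠ 0) (hmin : f.MinSupp M 3)
include hn h3 hmin

/-- The condition on one coordinate of a vector of support three. -/
theorem three_cond {u : ι → F} (hu : u ∈ f.RR M) {a b c : Fin n} (hab : a ≠ b) (hac : a ≠ c) (hbc : b ≠ c)
    (hS : f.supp u = {a, b, c}) :
    f.co u a ^ 2 = 1 ∨ f.co u b ^ 2 = f.co u c ^ 2 ∨
      (2 * f.co u a ^ 2 = 3 ∧ (f.co u a ^ 2 = 4 * f.co u b ^ 2 ∨ f.co u a ^ 2 = 4 * f.co u c ^ 2)) := by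
  classical
  obtain ⟨o, -, ho⟩ := Finset.exists_mem_notMem_of_card_lt_card (s := ({a, b, c} : Finset (Fin n)))
    (t := Finset.univ) (lt_of_le_of_lt Finset.card_le_three (by rw [Finset.card_univ, Fintype.card_fin]; omega))
  simp only [Finset.mem_insert, Finset.mem_singleton, not_or] at ho
  obtain ⟨α, hα⟩ : ∃ α, α = f.co u a := ⟨_, rfl⟩
  obtain ⟨β, hβ⟩ : ∃ β, β = f.co u b := ⟨_, rfl⟩
  obtain ⟨γ, hγ⟩ : ∃ γ, γ = f.co u c := ⟨_, rfl⟩
  have hα0 : α ≠ 0 := hα ▸ f.mem_supp.1 (by rw [hS]; simp)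
  have hβ0 : β ≠ 0 := hβ ▸ f.mem_supp.1 (by rw [hS]; simp)
  have hγ0 : γ ≠ 0 := hγ ▸ f.mem_supp.1 (by rw [hS]; simp)
  have hz : ∀ i, i ≠ a → i ≠ b → i ≠ c → f.co u i = 0 := fun i h1 h2 h3' =>
    f.notMem_supp.1 (by rw [hS]; simp [h1, h2, h3'])
  have hnorm : α ^ 2 + β ^ 2 + γ ^ 2 = 1 := by
    have := f.unit_iff.1 hu.1
    rw [dot_supp, hS, Finset.sum_insert (by simp [hab, hac]), Finset.sum_pair hbc] at this
    rw [hα, hβ, hγ]
    linear_combination this
  obtain ⟨v, hvR, va, vb, vc, vo, hvs⟩ := shifted hM hu (by omega) hab hac hbc ho.1 ho.2.1 ho.2.2 (le_of_eq hS)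
    (Equiv.swap a o) (f.co u b) (f.co u c) (f.co u a) fun i => by
      rcases eq_or_ne i a with rfl | h1
      · simp [ho.2.1, ho.2.2]
      rcases eq_or_ne i o with rfl | h2
      · rw [Equiv.swap_apply_right, if_neg hab, if_neg hac, if_neg (Ne.symm h1), hz _ h1 ho.2.1 ho.2.2]
      rw [Equiv.swap_apply_of_ne_of_ne h1 h2]
      split_ifs with e1 e2
      · rw [e1]
      · rw [e2]
      · rw [hz i h1 e1 e2]
  simp only [← hα, ← hβ, ← hγ] at va vb vc vo ⊢
  obtain ⟨k, hk⟩ : ∃ k, k = β * β + γ * γ := ⟨_, rfl⟩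
  rw [← hk] at va vb vc
  by_cases hk0 : k = 0
  · left; linear_combination hnorm + hk - hk0
  have ho' : o ∈ f.supp v := f.mem_supp.2 (by rw [vo]; exact hα0)
  have ha' : a ∈ f.supp v := f.mem_supp.2 (by rw [va]; simp [hα0, hk0, f.two])
  by_cases hk1 : 1 - 2 * k = 0
  · exfalso
    have hsub : f.supp v ⊆ {a, o} := fun i hi => by
      have := hvs hi
      simp only [Finset.mem_insert, Finset.mem_singleton] at this ⊢
      rcases this with h | h | h | h
      · exact Or.inl h
      · exact absurd (by rw [h, vb]; linear_combination β * hk1) (f.mem_supp.1 hi)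
      · exact absurd (by rw [h, vc]; linear_combination γ * hk1) (f.mem_supp.1 hi)
      · exact Or.inr h
    have h2 := Finset.card_le_card hsub
    rw [Finset.card_pair (Ne.symm ho.1)] at h2
    rcases hmin v hvR (Finset.one_lt_card.2 ⟨a, ha', o, ho', Ne.symm ho.1⟩) with h | ⟨-, h, -⟩ <;> omega
  have hb' : b ∈ f.supp v := f.mem_supp.2 (by
    rw [vb, show β - 2 * k * β = (1 - 2 * k) * β by ring]; exact mul_ne_zero hk1 hβ0)
  have hc' : c ∈ f.supp v := f.mem_supp.2 (by
    rw [vc, show γ - 2 * k * γ = (1 - 2 * k) * γ by ring]; exact mul_ne_zero hk1 hγ0)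
  have hr : (f.supp v).card ≤ 3 + 1 := (Finset.card_le_card hvs).trans Finset.card_le_four
  rcases four hM le_rfl (Or.inr (by omega)) hmin hvR hr hb' hc' ha' ho' hab hac ho.2.1 ho.2.2 (Ne.symm ho.1) with h | h
  · rw [vb, vc] at h
    exact Or.inr (Or.inl (mul_left_cancel₀ (pow_ne_zero 2 hk1) (by linear_combination h)))
  rw [va, vo] at h
  rcases sq_eq_sq_iff_eq_or_eq_neg.1 (show (2 * k) ^ 2 = (1 : F) ^ 2 from
      mul_right_cancel₀ (pow_ne_zero 2 hα0) (by linear_combination h)) with h2k | h2k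
  · exact absurd (by linear_combination -h2k) hk1
  have hα2 : 2 * α ^ 2 = 3 := by linear_combination -h2k + 2 * hnorm + 2 * hk
  rcases four hM le_rfl (Or.inr (by omega)) hmin hvR hr ha' hb' hc' ho' hac.symm hbc.symm ho.1 ho.2.1 (Ne.symm ho.2.2) with h' | h'
  · rw [va, vb] at h'
    exact Or.inr (Or.inr ⟨hα2, Or.inl (by
      linear_combination h' + (-(α ^ 2 * (2 * k - 1)) + (2 * k - 3) * β ^ 2) * h2k)⟩)
  · rw [vc, vo] at h'
    exact Or.inr (Or.inr ⟨hα2, Or.inr (by linear_combination -h' + (2 * k - 3) * γ ^ 2 * h2k)⟩)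

/-- Support three, two equal squares, with chosen signs: none over at least seven elements. -/
theorem three_two (h5 : (5 : F) ≠ 0) {u : ι → F} (hu : u ∈ f.RR M) {a b c : Fin n} (hab : a ≠ b) (hac : a ≠ c)
    (hbc : b ≠ c) (hS : f.supp u = {a, b, c}) (hb : f.co u b ^ 2 = f.co u c ^ 2) : False := by
  classical
  obtain ⟨o, -, ho⟩ := Finset.exists_mem_notMem_of_card_lt_card (s := ({a, b, c} : Finset (Fin n)))
    (t := Finset.univ) (lt_of_le_of_lt Finset.card_le_three (by rw [Finset.card_univ, Fintype.card_fin]; omega))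
  simp only [Finset.mem_insert, Finset.mem_singleton, not_or] at ho
  have hα0 : f.co u a ≠ 0 := f.mem_supp.1 (by rw [hS]; simp)
  have hβ0 : f.co u b ≠ 0 := f.mem_supp.1 (by rw [hS]; simp)
  have hnorm : f.co u a ^ 2 + 2 * f.co u b ^ 2 = 1 := by
    have := f.unit_iff.1 hu.1
    rw [dot_supp, hS, Finset.sum_insert (by simp [hab, hac]), Finset.sum_pair hbc] at this
    linear_combination this + hb
  have hz : ∀ i, i ≠ a → i ≠ b → i ≠ c → f.co u i = 0 := fun i h1 h2 h3' =>
    f.notMem_supp.1 (by rw [hS]; simp [h1, h2, h3'])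
  -- the test vector for any choice of signs
  have test : ∀ x y : F, x ^ 2 = f.co u a ^ 2 → y ^ 2 = f.co u b ^ 2 → 1 - 2 * (x * y + y * y) ≠ 0 →
      x * y + y * y ≠ 0 → x - 2 * (x * y + y * y) * y ≠ 0 →
      ((2 * (x * y + y * y) * x) ^ 2 = (x - 2 * (x * y + y * y) * y) ^ 2 ∨
        (1 - 2 * (x * y + y * y)) ^ 2 * y ^ 2 = y ^ 2) ∧
      ((2 * (x * y + y * y) * x) ^ 2 = (1 - 2 * (x * y + y * y)) ^ 2 * y ^ 2 ∨
        (x - 2 * (x * y + y * y) * y) ^ 2 = y ^ 2) ∧
      ((x - 2 * (x * y + y * y) * y) ^ 2 = (1 - 2 * (x * y + y * y)) ^ 2 * y ^ 2 ∨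
        (2 * (x * y + y * y) * x) ^ 2 = y ^ 2) := by
    intro x y hx hy hk1 hk0 hkb
    have hx0 : x ≠ 0 := fun e => hα0 (by simpa [e] using hx.symm)
    have hy0 : y ≠ 0 := fun e => hβ0 (by simpa [e] using hy.symm)
    obtain ⟨u₀, hu₀⟩ : ∃ w, w = f.vec (fun i => if i = a then x else if i = b then y else if i = c then y else 0) :=
      ⟨_, rfl⟩
    have hc0 : ∀ i, f.co u₀ i = if i = a then x else if i = b then y else if i = c then y else 0 := fun i => by
      rw [hu₀, co_vec]
    have hu₀R : u₀ ∈ f.RR M := hM.sign_mem hu fun i => by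
      rw [hc0]
      split_ifs with e1 e2 e3
      · rw [e1, hx]
      · rw [e2, hy]
      · rw [e3, hy, hb]
      · rw [hz i e1 e2 e3]
    have hS0 : f.supp u₀ ⊆ {a, b, c} := fun i hi => by
      by_contra h
      simp only [Finset.mem_insert, Finset.mem_singleton, not_or] at h
      exact f.mem_supp.1 hi (by simp [hc0, h.1, h.2.1, h.2.2])
    have ua : f.co u₀ a = x := by simp [hc0]
    have ub : f.co u₀ b = y := by simp [hc0, hab.symm]
    have uc : f.co u₀ c = y := by simp [hc0, hac.symm, hbc.symm]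
    obtain ⟨v, hvR, va, vb, vc, vo, hvs⟩ := shifted hM hu₀R (by omega) hab hac hbc ho.1 ho.2.1 ho.2.2 hS0
      (Equiv.swap a b * Equiv.swap b c * Equiv.swap c o) x y y fun i => by
        rw [Equiv.Perm.mul_apply, Equiv.Perm.mul_apply, hc0]
        rcases eq_or_ne i a with rfl | h1
        · simp [Equiv.swap_apply_of_ne_of_ne hac (Ne.symm ho.1), Equiv.swap_apply_of_ne_of_ne hab hac]
        rcases eq_or_ne i b with rfl | h2
        · simp [Equiv.swap_apply_of_ne_of_ne hbc (Ne.symm ho.2.1), Equiv.swap_apply_of_ne_of_ne hac.symm hbc.symm,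
            hbc.symm, h1]
        rcases eq_or_ne i c with rfl | h3'
        · simp [Equiv.swap_apply_of_ne_of_ne ho.2.1 ho.2.2, Equiv.swap_apply_of_ne_of_ne ho.1 ho.2.1, ho.2.1,
            ho.2.2, h1, h2]
        rcases eq_or_ne i o with rfl | h4
        · simp [hab, hac, ho.1, ho.2.1, ho.2.2, Ne.symm ho.1]
        simp [Equiv.swap_apply_of_ne_of_ne h3' h4, Equiv.swap_apply_of_ne_of_ne h2 h3',
          Equiv.swap_apply_of_ne_of_ne h1 h2, h1, h2, h3', h4]
    rw [ua, ub, uc] at va
    rw [ub, uc] at vb vc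
    rw [mul_comm y x] at va vb vc
    have mo : o ∈ f.supp v := f.mem_supp.2 (by rw [vo]; exact hy0)
    have ma : a ∈ f.supp v := f.mem_supp.2 (by rw [va]; simp [f.two, hk0, hx0])
    have mb : b ∈ f.supp v := f.mem_supp.2 (by rw [vb]; exact hkb)
    have mc : c ∈ f.supp v := f.mem_supp.2 (by
      rw [vc, show y - 2 * (x * y + y * y) * y = (1 - 2 * (x * y + y * y)) * y by ring]
      exact mul_ne_zero hk1 hy0)
    have hr : (f.supp v).card ≤ 3 + 1 := (Finset.card_le_card hvs).trans Finset.card_le_four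
    refine ⟨?_, ?_, ?_⟩
    · rcases four hM le_rfl (Or.inr (by omega)) hmin hvR hr ma mb mc mo hac.symm hbc.symm ho.1 ho.2.1 (Ne.symm ho.2.2) with h | h
      · left; rw [va, vb] at h; linear_combination h
      · right; rw [vc, vo] at h; linear_combination h
    · rcases four hM le_rfl (Or.inr (by omega)) hmin hvR hr ma mc mb mo hab.symm hbc ho.1 ho.2.2 (Ne.symm ho.2.1) with h | h
      · left; rw [va, vc] at h; linear_combination h
      · right; rw [vb, vo] at h; linear_combination h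
    · rcases four hM le_rfl (Or.inr (by omega)) hmin hvR hr mb mc ma mo hab hac ho.2.1 ho.2.2 (Ne.symm ho.1) with h | h
      · left; rw [vb, vc] at h; linear_combination h
      · right; rw [va, vo] at h; linear_combination h
  have hC := three_cond hM hn h3 hmin hu hab.symm hbc hac (by
    rw [hS]; ext; simp only [Finset.mem_insert, Finset.mem_singleton]; tauto)
  rw [← hb] at hC
  obtain ⟨α, hα⟩ : ∃ α, α = f.co u a := ⟨_, rfl⟩
  obtain ⟨β, hβ⟩ : ∃ β, β = f.co u b := ⟨_, rfl⟩
  rw [← hα, ← hβ] at hC hnorm test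
  rw [← hα] at hα0
  rw [← hβ] at hβ0
  rcases hC with hβ1 | he | ⟨hβ2, hα2 | h4⟩
  · -- `β² = 1`
    have hαm : α ^ 2 = -1 := by linear_combination hnorm - 2 * hβ1
    have t := test α 1 rfl (by linear_combination -hβ1)
    have hk1 : 1 - 2 * (α * 1 + 1 * 1) ≠ 0 := fun h => h5 (by
      linear_combination (2 * α - 1) * h + 4 * hαm)
    have hk0 : α * 1 + 1 * 1 ≠ 0 := fun h => f.two (by linear_combination (1 - α) * h + hαm)
    have hkb : α - 2 * (α * 1 + 1 * 1) * 1 ≠ 0 := fun h => h5 (by linear_combination (α - 2) * h + hαm)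
    obtain ⟨t1, -, t3⟩ := t hk1 hk0 hkb
    rcases t3 with t3 | t3
    · exact h3 ((mul_eq_zero.1 (by linear_combination t3 + 3 * hαm : (2 : F) * 3 = 0)).resolve_left f.two)
    · have hα8 : 8 * α = -1 := by linear_combination -t3 + (4 * α ^ 2 + 8 * α) * hαm
      rcases t1 with t1 | t1
      · exact h3 ((mul_eq_zero.1 (by
          linear_combination -4 * t1 + 4 * (4 * α ^ 2 + 8 * α - 1) * hαm - 6 * hα8 :
              (2 : F) * 3 = 0)).resolve_left f.two)
      · exact h3 ((mul_eq_zero.1 (by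
          linear_combination -2 * t1 + 8 * hαm + hα8 : (3 : F) * 3 = 0)).elim id id)
  · -- all three equal
    have h3β : 3 * β ^ 2 = 1 := by linear_combination hnorm - he
    have t := test β β (by linear_combination -he) rfl
    have hk1 : 1 - 2 * (β * β + β * β) ≠ 0 := fun h => one_ne_zero (α := F) (by
      linear_combination -3 * h - 4 * h3β)
    have hk0 : β * β + β * β ≠ 0 := by
      rw [← two_mul]; exact mul_ne_zero f.two (mul_ne_zero hβ0 hβ0)
    have hkb : β - 2 * (β * β + β * β) * β ≠ 0 := by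
      rw [show β - 2 * (β * β + β * β) * β = (1 - 2 * (β * β + β * β)) * β by ring]
      exact mul_ne_zero hk1 hβ0
    obtain ⟨-, t2, -⟩ := t hk1 hk0 hkb
    have h15 : (3 : F) * 5 = 0 ∨ (2 : F) * 2 * 2 = 0 := by
      rcases t2 with t2 | t2
      · left
        have : (3 : F) * 5 * β ^ 2 = 0 := by
          linear_combination 9 * t2 - 24 * β ^ 2 * h3β
        simpa [hβ0] using this
      · right
        have : (2 : F) * 2 * 2 * β ^ 2 = 0 := by
          linear_combination -9 * t2 + β ^ 2 * (48 * β ^ 2 - 8) * h3β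
        simpa [hβ0] using this
    rcases h15 with h | h
    · exact (mul_ne_zero h3 h5) h
    · simp [f.two] at h
  · -- the exceptional squares
    have h8 : 8 * α ^ 2 = 3 := by linear_combination hβ2 - 2 * hα2
    have h19 : (19 : F) = 0 := by linear_combination 8 * hnorm - h8 - 8 * hβ2
    obtain ⟨x, hx, hxy⟩ : ∃ x, x ^ 2 = α ^ 2 ∧ 4 * (x * β) = 3 := by
      have h9 : (4 * (α * β)) ^ 2 = (3 : F) ^ 2 := by linear_combination 2 * β ^ 2 * h8 + 3 * hβ2
      rcases sq_eq_sq_iff_eq_or_eq_neg.1 h9 with e | e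
      · exact ⟨α, rfl, e⟩
      · exact ⟨-α, by ring, by linear_combination -e⟩
    have t := test x β hx rfl
    have hk : 4 * (x * β + β * β) = 9 := by linear_combination hxy + 2 * hβ2
    have hk1 : 1 - 2 * (x * β + β * β) ≠ 0 := fun h => by
      have h7 : (7 : F) = 0 := by linear_combination -2 * h - hk
      exact h5 (by linear_combination -2 * h7 + h19)
    have hk0 : x * β + β * β ≠ 0 := fun h => by
      have h9 : (3 : F) * 3 = 0 := by linear_combination 4 * h - hk
      simp [h3] at h9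
    have hkb : x - 2 * (x * β + β * β) * β ≠ 0 := fun h => by
      have h24 : (2 : F) * 2 * 2 * 3 = 0 := by
        linear_combination -4 * β * h + hxy - β ^ 2 * 2 * hk - 9 * hβ2
      simp [f.two, h3] at h24
    obtain ⟨-, -, t3⟩ := t hk1 hk0 hkb
    have h5' : (5 : F) = 0 := by
      rcases t3 with t3 | t3
      · have e : (135 : F) = 0 := by
          linear_combination 16 * β ^ 2 * t3 - (4 * (x - 2 * (x * β + β * β) * β) * β - 24) *
              (hxy - 2 * β ^ 2 * hk - 9 * hβ2) + 4 * β ^ 4 * (4 * (x * β + β * β) + 5) * hk +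
              49 * (2 * β ^ 2 + 3) * hβ2
        exact absurd (by linear_combination e - 7 * h19) f.two
      · have hx8 : 8 * x ^ 2 = 3 := by linear_combination h8 + 8 * hx
        have e : (195 : F) = 0 := by
          linear_combination 32 * t3 - x ^ 2 * 8 * (4 * (x * β + β * β) + 9) * hk - 81 * hx8 + 16 * hβ2
        linear_combination e - 10 * h19
    exact h5 h5'
  · exact h3 ((mul_eq_zero.1 (by linear_combination -h4 : (3 : F) * β ^ 2 = 0)).resolve_right (pow_ne_zero 2 hβ0))

/-- No minimal support three over at least seven elements. -/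
theorem min_ne_three (h5 : (5 : F) ≠ 0) {u : ι → F} (hu : u ∈ f.RR M) (hs : (f.supp u).card = 3) : False := by
  classical
  obtain ⟨a, b, c, hab, hac, hbc, hS⟩ := Finset.card_eq_three.1 hs
  by_contra
  have perm₁ : f.supp u = {b, a, c} := by rw [hS]; ext; simp only [Finset.mem_insert, Finset.mem_singleton]; tauto
  have perm₂ : f.supp u = {c, a, b} := by rw [hS]; ext; simp only [Finset.mem_insert, Finset.mem_singleton]; tauto
  have hbc' : f.co u b ^ 2 ≠ f.co u c ^ 2 := fun e => three_two hM hn h3 hmin h5 hu hab hac hbc hS e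
  have hac' : f.co u a ^ 2 ≠ f.co u c ^ 2 := fun e => three_two hM hn h3 hmin h5 hu hab.symm hbc hac perm₁ e
  have hab' : f.co u a ^ 2 ≠ f.co u b ^ 2 := fun e => three_two hM hn h3 hmin h5 hu hac.symm hbc.symm hab perm₂ e
  have val : ∀ {x y z : Fin n}, x ≠ y → x ≠ z → y ≠ z → f.supp u = {x, y, z} → f.co u y ^ 2 ≠ f.co u z ^ 2 →
      f.co u x ^ 2 = 1 ∨ 2 * f.co u x ^ 2 = 3 := fun h1 h2 h3' h4 h6 => by
    rcases three_cond hM hn h3 hmin hu h1 h2 h3' h4 with h | h | h
    · exact Or.inl h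
    · exact absurd h h6
    · exact Or.inr h.1
  rcases val hab hac hbc hS hbc' with A | A <;> rcases val hab.symm hbc hac perm₁ hac' with B | B <;>
    rcases val hac.symm hbc.symm hab perm₂ hab' with C | C <;>
    first
    | exact hab' (mul_left_cancel₀ f.two (by linear_combination A - B))
    | exact hab' (A.trans B.symm)
    | exact hac' (mul_left_cancel₀ f.two (by linear_combination A - C))
    | exact hac' (A.trans C.symm)
    | exact hbc' (mul_left_cancel₀ f.two (by linear_combination B - C))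
    | exact hbc' (B.trans C.symm)

omit h3 hmin in
/-- A vector of small support, given any vector off the frame. -/
theorem exists_small (hp : (Fintype.card F).Prime) {u : ι → F} (hu : u ∈ f.RR M) (h2 : 2 ≤ (f.supp u).card) :
    ∃ v ∈ f.RR M, (f.supp v).card = 2 ∨ ((f.supp v).card = 3 ∧ (5 : F) = 0) ∨
      ((f.supp v).card = 4 ∧ (3 : F) = 0) := by
  classical
  have hex : ∃ s, ∃ v ∈ f.RR M, 2 ≤ (f.supp v).card ∧ (f.supp v).card = s := ⟨_, u, hu, h2, rfl⟩
  obtain ⟨v, hv, hv2, hvs⟩ := Nat.find_spec hex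
  have hmin : f.MinSupp M (f.supp v).card := fun w hw hw2 => Or.inl (by
    rw [hvs]; exact Nat.find_le ⟨w, hw, hw2, rfl⟩)
  refine ⟨v, hv, ?_⟩
  rcases (by omega : (f.supp v).card = 2 ∨ (f.supp v).card = 3 ∨ (f.supp v).card = 4 ∨ 5 ≤ (f.supp v).card) with
    h | h | h | h
  · exact Or.inl h
  · refine Or.inr (Or.inl ⟨h, ?_⟩)
    by_contra h5
    have h3 : (3 : F) ≠ 0 := fun h3 => by
      haveI : Fact (Fintype.card F).Prime := ⟨hp⟩
      have hcard : Fintype.card F = 3 := by
        haveI : CharP F (Fintype.card F) := charP_of_card_eq_prime rfl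
        have : ((3 : ℕ) : F) = 0 := by exact_mod_cast h3
        exact (Nat.prime_dvd_prime_iff_eq hp Nat.prime_three).1 ((CharP.cast_eq_zero_iff F _ 3).1 this)
      have hd := f.unit_iff.1 hv.1
      rw [dot_supp, Finset.sum_congr rfl (g := fun _ => (1 : F)) (fun i hi => by
        have := FiniteField.pow_card_sub_one_eq_one _ (f.mem_supp.1 hi)
        rw [hcard] at this
        rw [← sq]; exact this), Finset.sum_const, h, nsmul_eq_mul, mul_one, Nat.cast_ofNat, h3] at hd
      exact zero_ne_one hd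
    rw [h] at hmin
    exact min_ne_three hM hn h3 hmin h5 hv h
  · refine Or.inr (Or.inr ⟨h, ?_⟩)
    by_contra h3
    rw [h] at hmin
    exact min_ne_four hM (by omega) h3 hmin hv h
  · exact (min_le_four hM h hmin hv rfl).elim

omit h3 hmin in
/-- A vector of small support whose reflection does not permute the frame, given any such vector. -/
theorem exists_small_good (hp : (Fintype.card F).Prime) {u : ι → F} (hu : u ∈ f.RR M) (h2 : 2 ≤ (f.supp u).card)
    (hg : (f.supp u).card = 2 → ∃ i ∈ f.supp u, 2 * f.co u i ^ 2 ≠ 1) :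
    ∃ v ∈ f.RR M, ((f.supp v).card = 2 ∧ ∃ i ∈ f.supp v, 2 * f.co v i ^ 2 ≠ 1) ∨
      ((f.supp v).card = 3 ∧ ((5 : F) = 0 ∨ ∃ h : F, 2 * h ^ 2 = 1)) ∨
      ((f.supp v).card = 4 ∧ (3 : F) = 0) := by
  classical
  by_cases hsq : ∃ h : F, 2 * h ^ 2 = 1
  swap
  · obtain ⟨v, hv, hcase⟩ := exists_small hM hn hp hu h2
    refine ⟨v, hv, ?_⟩
    rcases hcase with h | h | h
    · obtain ⟨i, hi⟩ := f.supp_nonempty hv.1
      exact Or.inl ⟨h, i, hi, fun e => hsq ⟨_, e⟩⟩
    · exact Or.inr (Or.inl ⟨h.1, Or.inl h.2⟩)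
    · exact Or.inr (Or.inr h)
  obtain ⟨h, hh⟩ := hsq
  have h3 : (3 : F) ≠ 0 := fun h3 => by
    haveI : Fact (Fintype.card F).Prime := ⟨hp⟩
    have hcard : Fintype.card F = 3 := by
      haveI : CharP F (Fintype.card F) := charP_of_card_eq_prime rfl
      have : ((3 : ℕ) : F) = 0 := by exact_mod_cast h3
      exact (Nat.prime_dvd_prime_iff_eq hp Nat.prime_three).1 ((CharP.cast_eq_zero_iff F _ 3).1 this)
    have hh0 : h ≠ 0 := fun e => by simp [e] at hh
    have := FiniteField.pow_card_sub_one_eq_one _ hh0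
    rw [hcard] at this
    exact one_ne_zero (α := F) (by linear_combination hh - 2 * this)
  by_cases hA : ∃ v ∈ f.RR M, (f.supp v).card = 2 ∧ ∃ i ∈ f.supp v, 2 * f.co v i ^ 2 ≠ 1
  · obtain ⟨v, hv, h'⟩ := hA
    exact ⟨v, hv, Or.inl h'⟩
  by_cases hB : ∃ v ∈ f.RR M, (f.supp v).card = 3
  · obtain ⟨v, hv, h'⟩ := hB
    exact ⟨v, hv, Or.inr (Or.inl ⟨h', Or.inr ⟨h, hh⟩⟩)⟩
  exfalso
  have hbig : ∀ w ∈ f.RR M, 3 ≤ (f.supp w).card → 4 ≤ (f.supp w).card := fun w hw hw3 => by
    rcases eq_or_ne (f.supp w).card 3 with e | e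
    · exact absurd ⟨w, hw, e⟩ hB
    · omega
  have hu3 : 3 ≤ (f.supp u).card := by
    rcases eq_or_ne (f.supp u).card 2 with e | e
    · exact absurd ⟨u, hu, e, hg e⟩ hA
    · omega
  have hex : ∃ s, ∃ v ∈ f.RR M, 3 ≤ (f.supp v).card ∧ (f.supp v).card = s := ⟨_, u, hu, hu3, rfl⟩
  obtain ⟨v, hv, hv3, hvs⟩ := Nat.find_spec hex
  have hv4 := hbig v hv hv3
  have hmin : f.MinSupp M (f.supp v).card := fun w hw hw2 => by
    rcases eq_or_ne (f.supp w).card 2 with e | e
    · exact Or.inr ⟨e, hv4, h3⟩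
    · exact Or.inl (by rw [hvs]; exact Nat.find_le ⟨w, hw, by omega, rfl⟩)
  rcases hv4.eq_or_lt with e | e
  · rw [← e] at hmin
    exact min_ne_four hM (by omega) h3 hmin hv e.symm
  · exact min_le_four hM e hmin hv rfl

end Frame

end CfsgLib.OrthMono
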