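import Cfsg.Agent.OrthMono.Flips

/-!
# An element outside the monomial group gives all of `Ω`

`omega_le_of_nonmono`: over a prime field, in dimension ten or more, a subgroup of `Ω` containing the
monomial elements and any other contains all of `Ω`.
-/

set_option autoImplicit false
set_option linter.unusedSectionVars false

namespace CfsgLib.OrthMono

open Matrix Module CfsgLib.Spinor CfsgLib.Forms CfsgLib.OrthMax

variable {F : Type*} [Field F] [Fintype F] {ι : Type} [Fintype ι] [DecidableEq ι] {Q : QuadraticForm F (ι → F)}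

set_option quotPrecheck false in
local notation "𝔅" => QuadraticMap.polar (⇑Q)

namespace Frame

variable {n : ℕ} {f : Frame Q n} {M : Subgroup (Isom Q)}

/-- An element with one monomial column and another column off the frame gives all of `Ω`. -/
theorem omega_le_of_col (hM : f.HasMono M) (hp : (Fintype.card F).Prime) (hMΩ : M ≤ Cfsg.Omega F ⇑Q)
    (hn : 10 ≤ n) {x : Isom Q} (hx : x ∈ M) {i j : Fin n} {a : F} (hcol : ap x (f.b i) = a • f.b j)
    (hnm : ¬f.Mono x) : Cfsg.Omega F ⇑Q ≤ M := by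
  classical
  obtain ⟨k, hk⟩ : ∃ k, ∀ j, ∀ a : F, ap x (f.b k) ≠ a • f.b j := by
    by_contra h
    push Not at h
    exact hnm h
  obtain ⟨u, hu⟩ : ∃ u, u = ap x (f.b k) := ⟨_, rfl⟩
  have huR : u ∈ f.RR M := hu ▸ hM.ap_mem hx hcol (hM.b_mem k)
  have h2 : 2 ≤ (f.supp u).card := by
    by_contra h
    obtain ⟨j', a', e⟩ := f.coord_of_card_le huR.1 (by omega)
    exact hk j' a' (hu.symm.trans e)
  by_cases hg : (f.supp u).card = 2 → ∃ l ∈ f.supp u, 2 * f.co u l ^ 2 ≠ 1
  · obtain ⟨v, hv, hcase⟩ := exists_small_good hM hn hp huR h2 hg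
    exact omega_le_of_small hM hp hMΩ hn hv hcase
  push Not at hg
  obtain ⟨hc, hsq⟩ := hg
  obtain ⟨l, hl⟩ := f.supp_nonempty huR.1
  have hki : k ≠ i := fun e => hk j a (by rw [e, hcol])
  obtain ⟨w, hw⟩ : ∃ w, w = f.co u l • (f.b k + f.b i) := ⟨_, rfl⟩
  have hwR : w ∈ f.RR M := hw ▸ swap_mem_RR hM hki (hsq l hl)
  have ha : a ≠ 0 := fun e => by
    rcases f.sign_of_smul hcol with h' | h' <;> simp [e] at h'
  have huj : f.co u j = 0 := by
    have h := polar_ap x (f.b k) (f.b i)
    rw [f.orth k i hki, hcol, ← hu, QuadraticMap.polar_smul_right, f.polar_b_right, smul_eq_mul] at h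
    exact (mul_eq_zero.1 ((mul_eq_zero.1 h).resolve_left ha)).resolve_left f.two_c
  have hwR' : ap x w ∈ f.RR M := hM.ap_mem hx hcol hwR
  have hl0 := f.mem_supp.1 hl
  have hsupp : f.supp (ap x w) = insert j (f.supp u) := by
    ext z
    rw [f.mem_supp, hw, map_smul, map_add, hcol, ← hu, map_smul, map_add, map_smul, Pi.smul_apply, Pi.add_apply,
      Pi.smul_apply, f.co_b, Finset.mem_insert, f.mem_supp]
    rcases eq_or_ne z j with rfl | hz
    · simp [huj, hl0, ha]
    · simp [hz, hl0]
  have h3 : (f.supp (ap x w)).card = 3 := by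
    rw [hsupp, Finset.card_insert_of_notMem (f.notMem_supp.2 huj), hc]
  obtain ⟨v, hv, hcase⟩ := exists_small_good hM hn hp hwR' (by omega) (fun h => absurd h (by omega))
  exact omega_le_of_small hM hp hMΩ hn hv hcase

variable (f M) in
/-- An element of `M` with a monomial column is monomial. -/
def NoCol : Prop := ∀ x ∈ M, ∀ i j, ∀ a : F, ap x (f.b i) = a • f.b j → f.Mono x

variable (hM : f.HasMono M) (hH : f.NoCol M) (hMΩ : M ≤ Cfsg.Omega F ⇑Q) (hn : 10 ≤ n)
include hM

theorem flip_mem {U : Finset (Fin n)} (hU : Even U.card) : f.flip U ∈ M := by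
  induction h : U.card using Nat.strong_induction_on generalizing U with
  | _ m ih =>
    rcases Finset.eq_empty_or_nonempty U with rfl | ⟨a, ha⟩
    · rw [flip_empty]; exact M.one_mem
    obtain ⟨d, hd, hda⟩ := Finset.exists_mem_ne (s := U) (by
      obtain ⟨r, hr⟩ := hU
      have := Finset.card_pos.2 ⟨a, ha⟩
      omega) a
    have hsub : ({a, d} : Finset (Fin n)) ⊆ U := by
      intro z hz
      simp only [Finset.mem_insert, Finset.mem_singleton] at hz
      rcases hz with rfl | rfl <;> assumption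
    have hc : (U \ {a, d}).card = U.card - 2 := by
      rw [Finset.card_sdiff_of_subset hsub, Finset.card_pair hda.symm]
    have hW : f.flip (U \ {a, d}) ∈ M := by
      refine ih _ ?_ ?_ rfl
      · rw [hc]
        have := Finset.card_le_card hsub
        rw [Finset.card_pair hda.symm] at this
        omega
      · rw [hc]
        obtain ⟨r, hr⟩ := hU
        exact ⟨r - 1, by omega⟩
    have he : f.flip U = f.flip (U \ {a, d}) * f.flip {a, d} := by
      rw [flip_mul]
      congr 1
      ext z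
      simp only [Finset.mem_symmDiff, Finset.mem_sdiff]
      constructor
      · intro hz
        by_cases h' : z ∈ ({a, d} : Finset (Fin n))
        · exact Or.inr ⟨h', fun h'' => h''.2 h'⟩
        · exact Or.inl ⟨⟨hz, h'⟩, h'⟩
      · rintro (⟨⟨hz, -⟩, -⟩ | ⟨hz, -⟩)
        · exact hz
        · exact hsub hz
    rw [he, f.flip_pair hda.symm]
    exact M.mul_mem hW (hM.bb_mem a d)

include hH

/-- Two pairs through one coordinate with diagonal images give a monomial column. -/
theorem mono_of_two_pairs {g : Isom Q} (hg : g ∈ M) {e d d' : Fin n} (hed : e ≠ d) (hed' : e ≠ d') (hdd : d ≠ d')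
    {V V' : Finset (Fin n)} (h : g * f.flip {e, d} * g⁻¹ = f.flip V) (h' : g * f.flip {e, d'} * g⁻¹ = f.flip V') :
    f.Mono g := by
  classical
  have hV : V.card = 2 := by rw [← f.card_eq_of_conj h, Finset.card_pair hed]
  have hV' : V'.card = 2 := by rw [← f.card_eq_of_conj h', Finset.card_pair hed']
  have hne : V ≠ V' := by
    intro e'
    have h1 : g * f.flip {e, d} * g⁻¹ = g * f.flip {e, d'} * g⁻¹ := by rw [h, h', e']
    have h2 := f.flip_inj (mul_left_cancel (mul_right_cancel h1))
    have : d ∈ ({e, d'} : Finset (Fin n)) := h2 ▸ by simp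
    simp [hed.symm, hdd] at this
  have key : ∀ {W X : Finset (Fin n)}, g * f.flip W * g⁻¹ = f.flip X → e ∈ W → ap g (f.b e) ∈ f.sub X := by
    intro W X hWX he
    rw [f.mem_sub_iff_flip, ← hWX, ap_mul, ap_mul, ap_inv_ap, flip_b, if_pos he, map_smul, neg_one_smul]
  have hsub : f.supp (ap g (f.b e)) ⊆ V ∩ V' := fun z hz => by
    rw [Finset.mem_inter]
    constructor <;> by_contra hzn
    · exact f.mem_supp.1 hz (key h (by simp) z hzn)
    · exact f.mem_supp.1 hz (key h' (by simp) z hzn)
  have hcard : (V ∩ V').card ≤ 1 := by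
    by_contra hc
    have e1 : V ∩ V' = V := Finset.eq_of_subset_of_card_le Finset.inter_subset_left (by omega)
    exact hne (Finset.eq_of_subset_of_card_le (e1 ▸ Finset.inter_subset_right) (by omega))
  obtain ⟨j, a, hj⟩ := f.coord_of_card_le (by rw [quad_ap, f.quad]) ((Finset.card_le_card hsub).trans hcard)
  exact hH g hg e j a hj

/-- Preserving five or more coordinates, not all, is monomial. -/
theorem mono_of_stab_five {T : Finset (Fin n)} (hT5 : 5 ≤ T.card) (hT : T ≠ Finset.univ) {g : Isom Q}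
    (hg : g ∈ M) (hst : ∀ x ∈ f.sub T, ap g x ∈ f.sub T) : f.Mono g := by
  classical
  obtain ⟨k, hk⟩ : ∃ k, k ∉ T := by
    by_contra h
    push Not at h
    exact hT (Finset.eq_univ_of_forall h)
  -- conjugates of elements fixing the other coordinates do the same, and are monomial
  have key : ∀ h ∈ M, (∀ l, l ∉ T → ap h (f.b l) = f.b l) →
      f.Mono (g * h * g⁻¹) ∧ ∀ l, l ∉ T → ap (g * h * g⁻¹) (f.b l) = f.b l := by
    intro h hh hfix
    have hco : ∀ l, l ∉ T → ∀ z ∈ T, f.co (ap g⁻¹ (f.b l)) z = 0 := by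
      intro l hl z hz
      have h1 := polar_ap g (ap g⁻¹ (f.b l)) (f.b z)
      rw [ap_ap_inv, f.polar_b_left, hst _ (f.b_mem_sub T hz) l hl, mul_zero, f.polar_b_right] at h1
      exact (mul_eq_zero.1 h1.symm).resolve_left f.two_c
    have hall : ∀ l, l ∉ T → ap (g * h * g⁻¹) (f.b l) = f.b l := by
      intro l hl
      have h1 : ap h (ap g⁻¹ (f.b l)) = ap g⁻¹ (f.b l) := by
        conv_lhs => rw [← f.vec_co (ap g⁻¹ (f.b l)), f.vec_apply]
        conv_rhs => rw [← f.vec_co (ap g⁻¹ (f.b l)), f.vec_apply]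
        rw [map_sum]
        refine Finset.sum_congr rfl fun z _ => ?_
        by_cases hz : z ∈ T
        · rw [hco l hl z hz, zero_smul, map_zero]
        · rw [map_smul, hfix z hz]
      rw [ap_mul, ap_mul, h1, ap_ap_inv]
    exact ⟨hH _ (M.mul_mem (M.mul_mem hg hh) (M.inv_mem hg)) k k 1 (by rw [hall k hk, one_smul]), hall⟩
  have hflipfix : ∀ U : Finset (Fin n), U ⊆ T → ∀ l, l ∉ T → ap (f.flip U) (f.b l) = f.b l := fun U hU l hl => by
    rw [flip_b, if_neg fun h => hl (hU h), one_smul]
  obtain ⟨U, hUT, ⟨e₀, he₀⟩, hUne, hUe, V, hV⟩ := f.exists_flip_image hT5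
    fun U hU hUe => key _ (flip_mem hM hUe) (hflipfix U hU)
  -- with a three-cycle, the pairs meeting `U` and its complement go to sign changes
  have pairs : ∀ e ∈ U, ∀ d ∈ T, d ∉ U → ∃ W, g * f.flip {e, d} * g⁻¹ = f.flip W := by
    intro e he d hd hdU
    obtain ⟨a, ha, hae⟩ := Finset.exists_mem_ne (s := U) (by
      obtain ⟨r, hr⟩ := hUe
      have := Finset.card_pos.2 ⟨e₀, he₀⟩
      omega) e
    have hde : d ≠ e := fun h => hdU (h ▸ he)
    have hda : d ≠ a := fun h => hdU (h ▸ ha)
    obtain ⟨π, hπ⟩ : ∃ π : Equiv.Perm (Fin n), π = Equiv.swap a d * Equiv.swap d e := ⟨_, rfl⟩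
    have hπM : f.permHom π ∈ M := hM.perm_mem (by
      rw [hπ, map_mul, Equiv.Perm.sign_swap hda.symm, Equiv.Perm.sign_swap hde]; rfl)
    have hπT : ∀ l, l ∉ T → π l = l := fun l hl => by
      have h1 : l ≠ a := fun h => hl (h ▸ hUT ha)
      have h2 : l ≠ d := fun h => hl (h ▸ hd)
      have h3 : l ≠ e := fun h => hl (h ▸ hUT he)
      rw [hπ, Equiv.Perm.mul_apply, Equiv.swap_apply_of_ne_of_ne h2 h3, Equiv.swap_apply_of_ne_of_ne h1 h2]
    obtain ⟨hh, -⟩ := key _ hπM fun l hl => by rw [f.permHom_b, hπT l hl]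
    obtain ⟨π', d', hd', hh'⟩ := hh.exists_perm f
    refine ⟨symmDiff V (Finset.univ.filter fun z => π'.symm z ∈ V), ?_⟩
    have hc1 : f.permHom π * f.flip U * (f.permHom π)⁻¹ = f.flip (Finset.univ.filter fun z => π.symm z ∈ U) := by
      rw [mul_inv_eq_iff_eq_mul]
      refine f.ext_b fun z => ?_
      rw [ap_mul, ap_mul, flip_b, map_smul, f.permHom_b, flip_b]
      simp
    have hc2 : g * f.permHom π * g⁻¹ * f.flip V * (g * f.permHom π * g⁻¹)⁻¹ =
        f.flip (Finset.univ.filter fun z => π'.symm z ∈ V) := by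
      generalize g * f.permHom π * g⁻¹ = k at hh' ⊢
      rw [mul_inv_eq_iff_eq_mul]
      refine f.ext_b fun z => ?_
      rw [ap_mul, ap_mul, flip_b, map_smul, hh', map_smul, flip_b, smul_smul, smul_smul, mul_comm]
      simp
    have hset : ({e, d} : Finset (Fin n)) = symmDiff U (Finset.univ.filter fun z => π.symm z ∈ U) := by
      ext z
      have hpa : π.symm d = a := by
        rw [Equiv.symm_apply_eq, hπ, Equiv.Perm.mul_apply, Equiv.swap_apply_of_ne_of_ne hda.symm hae,
          Equiv.swap_apply_left]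
      have hpe : π.symm a = e := by
        rw [Equiv.symm_apply_eq, hπ, Equiv.Perm.mul_apply, Equiv.swap_apply_right, Equiv.swap_apply_right]
      have hpd : π.symm e = d := by
        rw [Equiv.symm_apply_eq, hπ, Equiv.Perm.mul_apply, Equiv.swap_apply_left,
          Equiv.swap_apply_of_ne_of_ne hae.symm hde.symm]
      simp only [Finset.mem_insert, Finset.mem_singleton, Finset.mem_symmDiff, Finset.mem_filter, Finset.mem_univ,
        true_and]
      rcases eq_or_ne z e with rfl | h1
      · simp [hpd, hdU, he]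
      rcases eq_or_ne z d with rfl | h2
      · simp [hpa, ha, hdU]
      have hs : π.symm z ∈ U ↔ z ∈ U := by
        rcases eq_or_ne z a with rfl | h3
        · simp [hpe, he, ha]
        · rw [(Equiv.symm_apply_eq π).2 (show z = π z by
            rw [hπ, Equiv.Perm.mul_apply, Equiv.swap_apply_of_ne_of_ne h2 h1, Equiv.swap_apply_of_ne_of_ne h3 h2])]
      simp [h1, h2, hs]
    rw [hset, ← flip_mul, ← flip_mul, ← hc1, ← hc2, ← hV]
    group
  obtain ⟨d, hd, hdU⟩ : ∃ d ∈ T, d ∉ U := by
    by_contra h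
    push Not at h
    exact hUne (Finset.Subset.antisymm hUT h)
  obtain ⟨e₁, he₁, he01⟩ := Finset.exists_mem_ne (s := U) (by
    obtain ⟨r, hr⟩ := hUe
    have := Finset.card_pos.2 ⟨e₀, he₀⟩
    omega) e₀
  obtain ⟨W₀, hW₀⟩ := pairs e₀ he₀ d hd hdU
  obtain ⟨W₁, hW₁⟩ := pairs e₁ he₁ d hd hdU
  rw [Finset.pair_comm] at hW₀ hW₁
  exact mono_of_two_pairs hM hH hg (e := d) (d := e₀) (d' := e₁) (fun h => hdU (by rw [h]; exact he₀))
    (fun h => hdU (by rw [h]; exact he₁)) he01.symm hW₀ hW₁

include hn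

/-- Preserving some coordinates, not all, is monomial. -/
theorem mono_of_stab {T : Finset (Fin n)} (hne : T.Nonempty) (hT : T ≠ Finset.univ) {g : Isom Q}
    (hg : g ∈ M) (hst : ∀ x ∈ f.sub T, ap g x ∈ f.sub T) : f.Mono g := by
  classical
  by_cases h5 : 5 ≤ T.card
  · exact mono_of_stab_five hM hH h5 hT hg hst
  refine mono_of_stab_five hM hH (T := Tᶜ) ?_ ?_ hg fun x hx z hz => ?_
  · rw [Finset.card_compl, Fintype.card_fin]; omega
  · intro h
    obtain ⟨t, ht⟩ := hne
    exact Finset.mem_compl.1 (h ▸ Finset.mem_univ t) ht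
  · rw [Finset.mem_compl, not_not] at hz
    have hsurj : (f.sub T).map (ap g) = f.sub T := Submodule.eq_of_le_of_finrank_eq
      (fun y hy => by obtain ⟨w, hw, rfl⟩ := Submodule.mem_map.1 hy; exact hst w hw)
      (Submodule.equivMapOfInjective _ (ap_injective g) _).finrank_eq.symm
    obtain ⟨w, hw, hwz⟩ := Submodule.mem_map.1 (hsurj.symm ▸ f.b_mem_sub T hz : f.b z ∈ (f.sub T).map (ap g))
    have h1 := polar_ap g x w
    rw [hwz, f.polar_b_right, f.polar_eq, dot_eq_sum (f := f) (x := x) Tᶜ hx] at h1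
    rw [Finset.sum_eq_zero fun i hi => by rw [hw i (Finset.mem_compl.1 hi), mul_zero], mul_zero] at h1
    exact (mul_eq_zero.1 h1).resolve_left f.two_c

/-- Some conjugate of a pair is off the monomial group, given an element off it. -/
theorem exists_bad_conj {g : Isom Q} (hg : g ∈ M) (hnm : ¬f.Mono g) :
    ∃ e d, e ≠ d ∧ ¬f.Mono (g * f.flip {e, d} * g⁻¹) := by
  classical
  by_contra hall
  push Not at hall
  have hmono : ∀ U : Finset (Fin n), Even U.card → f.Mono (g * f.flip U * g⁻¹) := by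
    intro U hU
    induction h : U.card using Nat.strong_induction_on generalizing U with
    | _ m ih =>
      rcases Finset.eq_empty_or_nonempty U with rfl | ⟨a, ha⟩
      · rw [flip_empty, mul_one, mul_inv_cancel]; exact f.mono_one
      obtain ⟨d, hd, hda⟩ := Finset.exists_mem_ne (s := U) (by
        obtain ⟨r, hr⟩ := hU
        have := Finset.card_pos.2 ⟨a, ha⟩
        omega) a
      have hsub : ({a, d} : Finset (Fin n)) ⊆ U := by
        intro z hz
        simp only [Finset.mem_insert, Finset.mem_singleton] at hz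
        rcases hz with rfl | rfl <;> assumption
      have hle := Finset.card_le_card hsub
      rw [Finset.card_pair hda.symm] at hle
      have hc : (U \ {a, d}).card = U.card - 2 := by
        rw [Finset.card_sdiff_of_subset hsub, Finset.card_pair hda.symm]
      have h1 := ih _ (by rw [hc]; omega) (U \ {a, d}) (by
        rw [hc]
        obtain ⟨r, hr⟩ := hU
        exact ⟨r - 1, by omega⟩) rfl
      have he : U = symmDiff (U \ {a, d}) {a, d} := by
        rw [(disjoint_sdiff_self_left).symmDiff_eq_sup, Finset.sup_eq_union,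
          Finset.sdiff_union_of_subset hsub]
      rw [he, ← flip_mul,
        show g * (f.flip (U \ {a, d}) * f.flip {a, d}) * g⁻¹ =
          g * f.flip (U \ {a, d}) * g⁻¹ * (g * f.flip {a, d} * g⁻¹) by group]
      exact h1.mul f (hall a d hda.symm)
  obtain ⟨U, -, ⟨a, ha⟩, hUne, hUe, V, hV⟩ := f.exists_flip_image (g := g) (T := Finset.univ)
    (by rw [Finset.card_univ, Fintype.card_fin]; omega)
    fun U _ hU => ⟨hmono U hU, fun l hl => absurd (Finset.mem_univ l) hl⟩
  obtain ⟨a', ha', haa⟩ := Finset.exists_mem_ne (s := U) (by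
    obtain ⟨r, hr⟩ := hUe
    have := Finset.card_pos.2 ⟨a, ha⟩
    omega) a
  have hcard := f.card_eq_of_conj hV
  obtain ⟨π, hsign, hπ⟩ : ∃ π : Equiv.Perm (Fin n), Equiv.Perm.sign π = 1 ∧ ∀ z, z ∈ V ↔ π z ∈ U := by
    let π₀ := (Finset.equivOfCardEq hcard.symm).extendSubtype
    have hπ₀ : ∀ z, z ∈ V ↔ π₀ z ∈ U := fun z => by
      refine ⟨fun h => Equiv.extendSubtype_mem _ z h, fun h => ?_⟩
      by_contra hz
      exact Equiv.extendSubtype_not_mem _ z hz h
    rcases Int.units_eq_one_or (Equiv.Perm.sign π₀) with e | e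
    · exact ⟨π₀, e, hπ₀⟩
    · refine ⟨Equiv.swap a a' * π₀, by rw [map_mul, e, Equiv.Perm.sign_swap haa.symm]; rfl, fun z => ?_⟩
      rw [hπ₀, Equiv.Perm.mul_apply]
      rcases eq_or_ne (π₀ z) a with h1 | h1
      · simp [h1, ha, ha']
      rcases eq_or_ne (π₀ z) a' with h2 | h2
      · simp [h2, ha, ha']
      rw [Equiv.swap_apply_of_ne_of_ne h1 h2]
  refine hnm ?_
  have hk : f.Mono (f.permHom π * g) := by
    refine mono_of_stab hM hH hn (T := U) ⟨a, ha⟩ hUne (M.mul_mem (hM.perm_mem hsign) hg) fun x hx => ?_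
    have h1 : ap g x ∈ f.sub V := by
      rw [f.mem_sub_iff_flip, ← hV, ap_mul, ap_mul, ap_inv_ap, f.mem_sub_iff_flip.1 hx, map_neg]
    intro z hz
    obtain ⟨z, rfl⟩ := π.surjective z
    rw [ap_mul, f.co_mono (g := f.permHom π) (π := π) (d := fun _ => 1) (fun i => by rw [f.permHom_b, one_smul]),
      one_mul]
    exact h1 z fun h => hz ((hπ z).1 h)
  have h2 := ((f.mono_permHom π).inv f).mul f hk
  rwa [inv_mul_cancel_left] at h2

include hMΩ
omit hH hn

/-- An element moving one line and fixing the rest modulo it has determinant minus one. -/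
theorem false_of_line {c : Isom Q} (hc : c ∈ M) {e : ι → F} (he : Q e ≠ 0) (hce : ap c e = -e)
    (h : ∀ i, ∃ t : F, ap c (f.b i) = f.b i + t • e) : False := by
  have hee : 𝔅 e e ≠ 0 := by rw [polar_self']; exact mul_ne_zero f.two he
  have hceq : c = rf e := f.ext_b fun i => by
    obtain ⟨t, ht⟩ := h i
    have h1 := polar_ap c (f.b i) e
    rw [ht, hce, QuadraticMap.polar_neg_right, QuadraticMap.polar_add_left, QuadraticMap.polar_smul_left,
      smul_eq_mul, polar_self'] at h1
    have e2 : t = -((Q e)⁻¹ * 𝔅 e (f.b i)) := by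
      rw [QuadraticMap.polar_comm (⇑Q) e (f.b i)]
      have h2 := f.two
      field_simp
      refine mul_left_cancel₀ h2 ?_
      linear_combination -h1
    rw [ht, ap_rf he, e2, neg_smul, sub_eq_add_neg]
  have h1 := det_of_omega (hMΩ hc)
  rw [hceq, det_rf he] at h1
  exact f.two (by linear_combination -h1)

end Frame

end CfsgLib.OrthMono
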