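import Cfsg.Agent.OrthMono.Axes
import Cfsg.Agent.OrthMono.Roots

/-!
# A vector of support two: the group on three coordinates

`exists_rootSpace_three`: on three coordinates some nontrivial element of `M` fixes a singular vector.
-/

set_option autoImplicit false
set_option linter.unusedSectionVars false

namespace CfsgLib.OrthMono

open Matrix Module CfsgLib.Spinor CfsgLib.Forms CfsgLib.OrthMax

variable {F : Type*} [Field F] [Fintype F] {ι : Type} [Fintype ι] [DecidableEq ι] {Q : QuadraticForm F (ι → F)}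

set_option quotPrecheck false in
local notation "𝔅" => QuadraticMap.polar (⇑Q)

namespace Frame

variable {n : ℕ} (f : Frame Q n) (S : Finset (Fin n))

/-- The vectors supported in a set of coordinates. -/
noncomputable def sub : Submodule F (ι → F) where
  carrier := {x | ∀ i, i ∉ S → f.co x i = 0}
  add_mem' hx hy i hi := by rw [map_add, Pi.add_apply, hx i hi, hy i hi, add_zero]
  zero_mem' i _ := by rw [map_zero, Pi.zero_apply]
  smul_mem' a x hx i hi := by rw [map_smul, Pi.smul_apply, hx i hi, smul_zero]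

theorem mem_sub {x : ι → F} : x ∈ f.sub S ↔ ∀ i, i ∉ S → f.co x i = 0 := Iff.rfl

theorem b_mem_sub {i : Fin n} (hi : i ∈ S) : f.b i ∈ f.sub S := fun j hj => by
  rw [f.co_b, if_neg fun e => hj (by rw [e]; exact hi)]

theorem finrank_sub : finrank F (f.sub S) = S.card := by
  classical
  let L : f.sub S →ₗ[F] ({i // i ∈ S} → F) := LinearMap.pi fun i => LinearMap.proj (i : Fin n) ∘ₗ f.co ∘ₗ (f.sub S).subtype
  have hb : Function.Bijective L := by
    refine ⟨fun x y h => Subtype.ext (f.co_ext fun i => ?_), fun a => ?_⟩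
    · by_cases hi : i ∈ S
      · exact congrFun h ⟨i, hi⟩
      · rw [x.2 i hi, y.2 i hi]
    · refine ⟨⟨f.vec (fun i => if h : i ∈ S then a ⟨i, h⟩ else 0), fun i hi => by rw [f.co_vec, dif_neg hi]⟩,
        funext fun i => ?_⟩
      show f.co (f.vec (fun i => if h : i ∈ S then a ⟨i, h⟩ else 0)) i = a i
      rw [f.co_vec, dif_pos i.2]
  rw [(LinearEquiv.ofBijective L hb).finrank_eq, Module.finrank_fintype_fun_eq_card, Fintype.card_coe]

/-- The elements of `M` fixing the other coordinates. -/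
def localGroup (M : Subgroup (Isom Q)) : Subgroup (Isom Q) where
  carrier := {g | g ∈ M ∧ ∀ l, l ∉ S → ap g (f.b l) = f.b l}
  mul_mem' := fun {g h} hg hh => ⟨M.mul_mem hg.1 hh.1, fun l hl => by rw [ap_mul, hh.2 l hl, hg.2 l hl]⟩
  one_mem' := ⟨M.one_mem, fun l _ => by rw [ap_one]⟩
  inv_mem' := fun {g} hg => ⟨M.inv_mem hg.1, fun l hl => by
    conv_lhs => rw [← hg.2 l hl, ap_inv_ap]⟩

theorem ap_mem_sub {g : Isom Q} (hg : ∀ l, l ∉ S → ap g (f.b l) = f.b l) {x : ι → F} (hx : x ∈ f.sub S) :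
    ap g x ∈ f.sub S := fun l hl => by
  have h := polar_ap g (f.b l) x
  rw [hg l hl, f.polar_b_left, f.polar_b_left, hx l hl] at h
  exact mul_left_cancel₀ f.two_c (h.trans (by ring))

theorem exists_pairing {r : ι → F} (hr : r ∈ f.sub S) (hr0 : r ≠ 0) : ∃ x ∈ f.sub S, 𝔅 r x = 1 := by
  obtain ⟨i, hi⟩ : ∃ i, f.co r i ≠ 0 := by
    by_contra h
    push Not at h
    exact hr0 (f.co_ext fun i => by rw [h i, map_zero, Pi.zero_apply])
  have hiS : i ∈ S := by
    by_contra h
    exact hi (hr i h)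
  refine ⟨(2 * f.c * f.co r i)⁻¹ • f.b i, Submodule.smul_mem _ _ (f.b_mem_sub S hiS), ?_⟩
  rw [QuadraticMap.polar_smul_right, f.polar_b_right, smul_eq_mul, inv_mul_cancel₀ (mul_ne_zero f.two_c hi)]

theorem eq_smul_of_perp {r z : ι → F} (hr : r ∈ f.sub S) (hr0 : r ≠ 0) (hz : z ∈ f.sub S)
    (h : ∀ x ∈ f.sub S, 𝔅 r x = 0 → 𝔅 z x = 0) : ∃ a : F, z = a • r := by
  obtain ⟨x, hx, hrx⟩ := f.exists_pairing S hr hr0
  refine ⟨𝔅 z x, sub_eq_zero.1 ?_⟩
  by_contra hne
  obtain ⟨y, hy, h1⟩ := f.exists_pairing S (Submodule.sub_mem _ hz (Submodule.smul_mem _ _ hr)) hne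
  have h2 := h (y - 𝔅 r y • x) (Submodule.sub_mem _ hy (Submodule.smul_mem _ _ hx)) (by
    simp [QuadraticMap.polar_sub_right, QuadraticMap.polar_smul_right, hrx])
  rw [QuadraticMap.polar_sub_right, QuadraticMap.polar_smul_right] at h2
  rw [QuadraticMap.polar_sub_left, QuadraticMap.polar_smul_left] at h1
  exact zero_ne_one (α := F) (h2.symm.trans (by rw [smul_eq_mul] at h1 ⊢; linear_combination h1))

variable {f S} {M : Subgroup (Isom Q)}

/-- A special element fixing a hyperplane of the coordinates is trivial. -/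
theorem eq_one_of_fix {g : Isom Q} (hdet : (mat Q g).det = 1) (hg : ∀ l, l ∉ S → ap g (f.b l) = f.b l)
    {r : ι → F} (hr : r ∈ f.sub S) (hr0 : r ≠ 0) (hfix : ∀ x ∈ f.sub S, 𝔅 r x = 0 → ap g x = x) : g = 1 := by
  obtain ⟨x, hx, hrx⟩ := f.exists_pairing S hr hr0
  have hall : (∀ y ∈ f.sub S, ap g y = y) → g = 1 := fun h => f.ext_b fun i => by
    rw [ap_one]
    by_cases hi : i ∈ S
    · exact h _ (f.b_mem_sub S hi)
    · exact hg i hi
  have hsplit : ap g x = x → g = 1 := fun h => hall fun y hy => by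
    have h1 := hfix (y - 𝔅 r y • x) (Submodule.sub_mem _ hy (Submodule.smul_mem _ _ hx)) (by
      simp [QuadraticMap.polar_sub_right, QuadraticMap.polar_smul_right, hrx])
    rwa [map_sub, map_smul, h, sub_left_inj] at h1
  by_cases hq : Q r = 0
  · refine hsplit ?_
    obtain ⟨a, ha⟩ := f.eq_smul_of_perp S hr hr0 (Submodule.sub_mem _ (f.ap_mem_sub S hg hx) hx) fun y hy hry => by
      have h1 := polar_ap g x y
      rw [hfix y hy hry] at h1
      rw [QuadraticMap.polar_sub_left, h1, sub_self]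
    have h1 := quad_ap g x
    rw [show ap g x = x + a • r by rw [← ha]; abel, QuadraticMap.map_add (⇑Q), QuadraticMap.map_smul, hq,
      QuadraticMap.polar_smul_right, QuadraticMap.polar_comm (⇑Q) x r, hrx, smul_zero, smul_eq_mul] at h1
    have ha0 : a = 0 := by linear_combination h1
    rw [ha0, zero_smul, sub_eq_zero] at ha
    exact ha
  · obtain ⟨a, ha⟩ := f.eq_smul_of_perp S hr hr0 (f.ap_mem_sub S hg hr) fun y hy hry => by
      have h1 := polar_ap g r y
      rw [hfix y hy hry, hry] at h1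
      exact h1
    have h1 := quad_ap g r
    rw [ha, QuadraticMap.map_smul, smul_eq_mul] at h1
    rcases mul_self_eq_one_iff.1 (mul_right_cancel₀ hq (h1.trans (one_mul _).symm)) with rfl | rfl
    · have hrr : 𝔅 r r ≠ 0 := by rw [polar_self']; exact mul_ne_zero f.two hq
      refine hall fun y hy => ?_
      have h2 := hfix (y - (𝔅 r y / 𝔅 r r) • r) (Submodule.sub_mem _ hy (Submodule.smul_mem _ _ hr)) (by
        rw [QuadraticMap.polar_sub_right, QuadraticMap.polar_smul_right, smul_eq_mul, div_mul_cancel₀ _ hrr,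
          sub_self])
      rwa [map_sub, map_smul, ha, one_smul, sub_left_inj] at h2
    · exfalso
      have hrr : 𝔅 r r ≠ 0 := by rw [polar_self']; exact mul_ne_zero f.two hq
      have hge : g = rf r := f.ext_b fun i => by
        by_cases hi : i ∈ S
        · have h2 := hfix (f.b i - (𝔅 r (f.b i) / 𝔅 r r) • r)
            (Submodule.sub_mem _ (f.b_mem_sub S hi) (Submodule.smul_mem _ _ hr)) (by
            rw [QuadraticMap.polar_sub_right, QuadraticMap.polar_smul_right, smul_eq_mul, div_mul_cancel₀ _ hrr,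
              sub_self])
          rw [map_sub, map_smul, ha, sub_eq_iff_eq_add] at h2
          rw [h2, ap_rf hq, polar_self' (Q := Q) r]
          match_scalars
          · ring
          · have h2 := f.two; field_simp; ring
        · rw [hg i hi, ap_rf hq, QuadraticMap.polar_comm, f.polar_b_left, hr i hi, mul_zero, mul_zero, zero_smul,
            sub_zero]
      rw [hge, det_rf hq] at hdet
      exact f.two (by linear_combination -hdet)

/-- A special element on three coordinates fixes a vector. -/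
theorem exists_fixed (hS : Odd S.card) {g : Isom Q} (hdet : (mat Q g).det = 1)
    (hg : ∀ l, l ∉ S → ap g (f.b l) = f.b l) : ∃ v ∈ f.sub S, v ≠ 0 ∧ ap g v = v := by
  classical
  obtain ⟨B, hB⟩ : ∃ B : Matrix (Fin n) (Fin n) F, B = LinearMap.toMatrix' (f.co ∘ₗ ap g ∘ₗ f.vec) := ⟨_, rfl⟩
  have hBe : ∀ i j, B i j = f.co (ap g (f.b j)) i := fun i j => by
    rw [hB, LinearMap.toMatrix'_apply, LinearMap.comp_apply, LinearMap.comp_apply, f.b_eq_vec]
  have hBo : ∀ i j, j ∉ S → B i j = if i = j then 1 else 0 := fun i j hj => by rw [hBe, hg j hj, f.co_b]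
  have hBo' : ∀ i j, i ∉ S → B i j = if i = j then 1 else 0 := fun i j hi => by
    by_cases hj : j ∈ S
    · rw [hBe, f.ap_mem_sub S hg (f.b_mem_sub S hj) i hi, if_neg fun (e : i = j) => hi (by rw [e]; exact hj)]
    · exact hBo i j hj
  have hBdet : B.det = 1 := by
    rw [hB, LinearMap.det_toMatrix']
    let e : (ι → F) ≃ₗ[F] (Fin n → F) :=
      LinearEquiv.ofLinearMap f.co f.vec (LinearMap.ext f.co_vec) (LinearMap.ext f.vec_co)
    have h1 := LinearMap.det_conj (ap g) e
    rw [show (f.co ∘ₗ ap g ∘ₗ f.vec) = (e : (ι → F) →ₗ[F] (Fin n → F)) ∘ₗ ap g ∘ₗ (e.symm : (Fin n → F) →ₗ[F] (ι → F))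
      from rfl, h1, ap, LinearMap.det_toLin', hdet]
  have horth : Bᵀ * B = 1 := by
    ext i j
    rw [Matrix.mul_apply, Matrix.one_apply]
    simp only [Matrix.transpose_apply, hBe]
    have h1 := polar_ap g (f.b i) (f.b j)
    rw [f.polar_eq, f.polar_b] at h1
    refine mul_left_cancel₀ f.two_c ?_
    rw [show (∑ x, f.co (ap g (f.b i)) x * f.co (ap g (f.b j)) x) = f.dot (ap g (f.b i)) (ap g (f.b j)) from rfl, h1]
    split_ifs <;> simp
  obtain ⟨D, hD⟩ : ∃ D : Fin n → F, D = fun i => if i ∈ S then -1 else 1 := ⟨_, rfl⟩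
  obtain ⟨C, hC⟩ : ∃ C : Matrix (Fin n) (Fin n) F, C = B - Matrix.diagonal (fun i => if i ∈ S then 1 else 0) :=
    ⟨_, rfl⟩
  have hid : Bᵀ * C = Matrix.diagonal D * Cᵀ := by
    rw [hC, Matrix.mul_sub, horth]
    ext i j
    rw [Matrix.sub_apply, Matrix.mul_diagonal, Matrix.diagonal_mul, Matrix.transpose_apply, Matrix.transpose_apply,
      Matrix.sub_apply, Matrix.one_apply, Matrix.diagonal_apply, hD]
    simp only
    by_cases hi : i ∈ S <;> by_cases hj : j ∈ S
    · rcases eq_or_ne i j with rfl | hij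
      · rw [if_pos rfl, if_pos hi, if_pos hi, if_pos rfl]; ring
      · rw [if_neg hij, if_pos hj, if_pos hi, if_neg (Ne.symm hij)]; ring
    · have hij : i ≠ j := fun e => hj (e ▸ hi)
      rw [if_neg hij, if_neg hj, if_pos hi, if_neg (Ne.symm hij), hBo' j i hj, if_neg (Ne.symm hij)]; ring
    · have hij : i ≠ j := fun e => hi (e ▸ hj)
      rw [if_neg hij, if_pos hj, if_neg hi, if_neg (Ne.symm hij), hBo j i hi, if_neg (Ne.symm hij)]; ring
    · rw [if_neg hj, if_neg hi, hBo j i hi]
      rcases eq_or_ne i j with rfl | hij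
      · simp
      · simp [hij, Ne.symm hij]
  have hdetD : (Matrix.diagonal D).det = -1 := by
    rw [Matrix.det_diagonal, hD, Finset.prod_ite, Finset.prod_const, Finset.prod_const_one, mul_one,
      Finset.filter_mem_eq_inter, Finset.univ_inter, hS.neg_one_pow]
  have hC0 : C.det = 0 := by
    have h1 := congrArg Matrix.det hid
    rw [Matrix.det_mul, Matrix.det_mul, Matrix.det_transpose, Matrix.det_transpose, hBdet, hdetD] at h1
    exact (mul_eq_zero.1 (by linear_combination h1 : (2 : F) * C.det = 0)).resolve_left f.two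
  obtain ⟨y, hy0, hy⟩ := Matrix.exists_mulVec_eq_zero_iff.2 hC0
  have hyS : ∀ l, l ∉ S → y l = 0 := fun l hl => by
    have h1 := congrFun hy l
    rw [hC, Matrix.sub_mulVec, Pi.sub_apply, Matrix.mulVec_diagonal, if_neg hl, zero_mul, sub_zero, Pi.zero_apply,
      Matrix.mulVec, dotProduct, Finset.sum_eq_single l (fun b _ hb => by rw [hBo' l b hl, if_neg (Ne.symm hb), zero_mul])
      (fun h => absurd (Finset.mem_univ _) h), hBo' l l hl, if_pos rfl, one_mul] at h1
    exact h1
  refine ⟨f.vec y, fun l hl => by rw [f.co_vec, hyS l hl], fun h => hy0 ?_, f.co_ext fun i => ?_⟩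
  · rw [← f.co_vec y, h, map_zero]
  · have h1 := congrFun hy i
    rw [hC, Matrix.sub_mulVec, Pi.sub_apply, Matrix.mulVec_diagonal, hB, LinearMap.toMatrix'_mulVec,
      LinearMap.comp_apply, LinearMap.comp_apply, Pi.zero_apply, sub_eq_zero] at h1
    rw [h1, f.co_vec]
    split_ifs with hi
    · rw [one_mul]
    · rw [zero_mul, hyS i hi]

end Frame

end CfsgLib.OrthMono
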