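import Cfsg.Agent.OrthMono.TernaryRoots

/-!
# All of `Ω` from a vector of small support

`omega_le_of_small`: a vector of `RR M` as in `exists_small_good` gives `Ω ≤ M`.
-/

set_option autoImplicit false
set_option linter.unusedSectionVars false

namespace CfsgLib.OrthMono

open Matrix Module CfsgLib.Spinor CfsgLib.Forms CfsgLib.Forms4 CfsgLib.OrthMax

variable {F : Type*} [Field F] [Fintype F] {ι : Type} [Fintype ι] [DecidableEq ι] {Q : QuadraticForm F (ι → F)}

set_option quotPrecheck false in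
local notation "𝔅" => QuadraticMap.polar (⇑Q)

/-- Two nonzero squares sum to one only away from characteristics three and five. -/
theorem ne_of_sq_add_sq (hp : (Fintype.card F).Prime) (h2 : (2 : F) ≠ 0) {a b : F} (ha : a ≠ 0) (hb : b ≠ 0)
    (h : a ^ 2 + b ^ 2 = 1) : (3 : F) ≠ 0 ∧ (5 : F) ≠ 0 := by
  haveI : Fact (Fintype.card F).Prime := ⟨hp⟩
  haveI : CharP F (Fintype.card F) := charP_of_card_eq_prime rfl
  refine ⟨fun h3 => ?_, fun h5 => ?_⟩
  · have hcard : Fintype.card F = 3 := (Nat.prime_dvd_prime_iff_eq hp Nat.prime_three).1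
      ((CharP.cast_eq_zero_iff F _ 3).1 (by exact_mod_cast h3))
    have A := FiniteField.pow_card_sub_one_eq_one a ha
    have B := FiniteField.pow_card_sub_one_eq_one b hb
    rw [hcard] at A B
    exact one_ne_zero (α := F) (by linear_combination h - A - B)
  · have hcard : Fintype.card F = 5 := (Nat.prime_dvd_prime_iff_eq hp (by norm_num)).1
      ((CharP.cast_eq_zero_iff F _ 5).1 (by exact_mod_cast h5))
    have hsq : ∀ x : F, x ≠ 0 → x ^ 2 = 1 ∨ x ^ 2 = -1 := fun x hx => by
      have := FiniteField.pow_card_sub_one_eq_one x hx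
      rw [hcard] at this
      exact sq_eq_one_iff.1 (by rw [← pow_mul]; exact this)
    rcases hsq a ha with A | A <;> rcases hsq b hb with B | B
    · exact one_ne_zero (α := F) (by linear_combination h - A - B)
    · exact one_ne_zero (α := F) (by linear_combination -h + A + B)
    · exact one_ne_zero (α := F) (by linear_combination -h + A + B)
    · exact h2 (by linear_combination h5 + h - A - B)

/-- Half or minus a half is a square when minus one is not. -/
theorem exists_half_sq (h2 : (2 : F) ≠ 0) (hm1 : ¬∃ i : F, i ^ 2 = -1) :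
    (∃ h : F, 2 * h ^ 2 = 1) ∨ ∃ h : F, 2 * h ^ 2 = -1 := by
  have hchar : ringChar F ≠ 2 := fun h => h2 (by
    have := ringChar.Nat.cast_ringChar (R := F)
    rwa [h, Nat.cast_ofNat] at this)
  have hhalf : (2 : F)⁻¹ ≠ 0 := inv_ne_zero h2
  have key : ∀ x : F, x ≠ 0 → ¬IsSquare x → x ^ (Fintype.card F / 2) = -1 := fun x hx hns =>
    (FiniteField.pow_dichotomy hchar hx).resolve_left fun e => hns ((FiniteField.isSquare_iff hchar hx).2 e)
  by_cases h1 : IsSquare (2 : F)⁻¹
  · obtain ⟨h, hh⟩ := h1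
    exact Or.inl ⟨h, by rw [sq, ← hh, mul_inv_cancel₀ h2]⟩
  by_cases h1' : IsSquare (-(2 : F)⁻¹)
  · obtain ⟨h, hh⟩ := h1'
    exact Or.inr ⟨h, by rw [sq, ← hh, mul_neg, mul_inv_cancel₀ h2]⟩
  exfalso
  have e1 := key _ hhalf h1
  have e2 := key _ (neg_ne_zero.2 hhalf) h1'
  rw [neg_pow, e1] at e2
  obtain ⟨i, hi⟩ : IsSquare (-1 : F) := (FiniteField.isSquare_iff hchar (neg_ne_zero.2 one_ne_zero)).2
    (by linear_combination -e2)
  exact hm1 ⟨i, by rw [sq, ← hi]⟩

namespace Frame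

variable {n : ℕ} {f : Frame Q n} {S : Finset (Fin n)} {M : Subgroup (Isom Q)}

variable (hM : f.HasMono M) (hp : (Fintype.card F).Prime) (hn : 5 ≤ n) (hMΩ : M ≤ Cfsg.Omega F ⇑Q)
include hM

theorem swap_mem_RR {a d : Fin n} (had : a ≠ d) {h : F} (hh : 2 * h ^ 2 = 1) :
    h • (f.b a + f.b d) ∈ f.RR M := by
  have hh0 : h ≠ 0 := fun e => by simp [e] at hh
  have hq : Q (h • (f.b a + f.b d)) = f.c := by
    rw [QuadraticMap.map_smul, QuadraticMap.map_add (⇑Q), f.quad, f.quad, f.orth a d had, smul_eq_mul]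
    linear_combination f.c * hh
  refine hM.mem_RR hq (j := a) (hM _ (rf_mul_mem_omega f.nondeg f.two (by rw [hq]; exact f.c_ne)
    (by rw [f.quad, hq])) (Mono.mul f ?_ (f.mono_rf_b a)))
  rw [rf_smul hh0, show f.b a + f.b d = ap (rf (f.b d) : Isom Q) (f.b a - f.b d) by
    rw [map_sub, rf_b_b, rf_b_b, if_neg had.symm, if_pos rfl, sub_neg_eq_add], ← conj_rf, ← f.permHom_swap had]
  exact Mono.mul f (Mono.mul f (f.mono_rf_b d) (f.mono_permHom _)) (Mono.inv f (f.mono_rf_b d))

/-- A unit vector of the coordinates is in `RR` once a full point has the right products with it. -/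
theorem mem_RR_of_full {u v : ι → F} (hus : u ∈ f.sub S) (hu : f.PointFull S M u) {e : Fin n} (he : e ∈ S)
    (hue : f.co u e ≠ 0) (hvs : v ∈ f.sub S) (hv : Q v = f.c) (hdot : f.dot u v = f.co u e) {l : Fin n}
    (hl : l ∉ S) : v ∈ f.RR M := by
  obtain ⟨hu, hfull⟩ := hu
  have hB : 𝔅 u (f.b e) ≠ 0 := by rw [f.polar_b_right]; exact mul_ne_zero f.two_c hue
  have huv : 𝔅 u v = 𝔅 u (f.b e) := by rw [f.polar_eq, hdot, f.polar_b_right]
  obtain ⟨w, hw⟩ : ∃ w, w = (𝔅 u (f.b e))⁻¹ • (v - f.b e) := ⟨_, rfl⟩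
  have huw : 𝔅 u w = 0 := by
    rw [hw, QuadraticMap.polar_smul_right, QuadraticMap.polar_sub_right, huv, sub_self, smul_zero]
  have hws : w ∈ f.sub S := hw ▸ Submodule.smul_mem _ _ (Submodule.sub_mem _ hvs (f.b_mem_sub S he))
  obtain ⟨γ, hγ⟩ : ∃ γ : F, eich Q u w *ᵥ f.b e = v + γ • u :=
    ⟨-(𝔅 w (f.b e) + Q w * 𝔅 u (f.b e)), by
      rw [eich_mulVec, show 𝔅 u (f.b e) • w = v - f.b e from hw ▸ smul_inv_smul₀ hB _]
      module⟩
  have hγ0 : γ = 0 := by
    have h := quad_eich hu huw (f.b e)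
    rw [hγ, QuadraticMap.map_add (⇑Q), QuadraticMap.map_smul, hu, hv, f.quad, QuadraticMap.polar_smul_right,
      QuadraticMap.polar_comm (⇑Q) v u, huv] at h
    simpa [hB] using h
  rw [hγ0, zero_smul, add_zero] at hγ
  have := hM.ap_mem (rootSpace_iso (hfull w hws huw)) (i := l) (j := l) (a := 1)
    (by rw [eichIso_fixes hu huw hus hws hl, one_smul]) (hM.b_mem e)
  rwa [ap_def, mat_eichIso, hγ] at this

include hp hn hMΩ

/-- A nonmonomial group on three coordinates gives all of `Ω`. -/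
theorem omega_le_of_local {a d e : Fin n} (had : a ≠ d) (hae : a ≠ e) (hde : d ≠ e) {u₀ : ι → F}
    (hu₀ : u₀ ∈ f.RR M) (hz : ∀ i, i ≠ a → i ≠ d → f.co u₀ i = 0) (hα : f.co u₀ a ≠ 0) (hβ : f.co u₀ d ≠ 0)
    {g₀ : Isom Q} (hg₀ : g₀ ∈ f.localGroup {a, d, e} M) {x : Fin n} (hx : x ∈ ({a, d, e} : Finset (Fin n)))
    (hcard : 2 ≤ (f.supp (ap g₀ (f.b x))).card) : Cfsg.Omega F ⇑Q ≤ M := by
  classical
  obtain ⟨S, hSdef⟩ : ∃ S : Finset (Fin n), S = {a, d, e} := ⟨_, rfl⟩
  rw [← hSdef] at hg₀ hx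
  have hS : S.card = 3 := by
    rw [hSdef, Finset.card_insert_of_notMem (by simp [had, hae]), Finset.card_pair hde]
  have ha : a ∈ S := by simp [hSdef]
  have hd : d ∈ S := by simp [hSdef]
  have he : e ∈ S := by simp [hSdef]
  obtain ⟨g, hg, hg1, w, hws, hw0, hqw, hgw⟩ :=
    exists_singular_fix hM hp hn hMΩ hS had hae hde ha hd he hu₀ hz hα hβ hg₀ hx hcard
  have hall : ∀ u, (∀ i, i ∉ S → f.co u i = 0) → u ≠ 0 → Q u = 0 → f.PointFull S M u := fun u hus hu0 hu =>
    pointFull_all hM hS hws hw0 (pointFull_of_fix hp hn hMΩ hS hg hg1 hws hw0 hqw hgw) hus hu0 hu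
  have hdd : f.dot u₀ u₀ = f.co u₀ a ^ 2 + f.co u₀ d ^ 2 := by
    rw [dot_eq_sum {a, d} (fun i hi => by
      simp only [Finset.mem_insert, Finset.mem_singleton, not_or] at hi
      exact hz i hi.1 hi.2), Finset.sum_pair had, sq, sq]
  obtain ⟨h3, h5⟩ := ne_of_sq_add_sq hp f.two hα hβ (hdd.symm.trans (f.unit_iff.1 hu₀.1))
  obtain ⟨l₀, -, hl₀⟩ := Finset.exists_mem_notMem_of_card_lt_card (s := S) (t := Finset.univ)
    (by rw [Finset.card_univ, Fintype.card_fin, hS]; omega)
  have hcomp : ∀ l, l ∉ S → l ≠ a ∧ l ≠ d ∧ l ≠ e := fun l hl => by simpa [hSdef] using hl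
  -- a singular vector, full among the coordinates, and pairing with every other frame vector
  obtain ⟨u, hus, hu, hue, huroot⟩ : ∃ u : ι → F, u ∈ f.sub S ∧ ∃ hu : Q u = 0, f.co u e = 1 ∧
      (∀ x ∈ f.sub S, 𝔅 u x = 0 → x ∈ rootSpace M hu) ∧ ∀ l, l ∉ S → f.b l ∈ rootSpace M hu := by
    have mkvec : ∀ A B C : F, ∃ u ∈ f.sub S, f.co u a = A ∧ f.co u d = B ∧ f.co u e = C := fun A B C => by
      refine ⟨f.vec (fun i => if i = a then A else if i = d then B else if i = e then C else 0), fun i hi => ?_, ?_⟩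
      · rw [f.co_vec]; simp [hcomp i hi]
      · simp [f.co_vec, had.symm, hae.symm, hde.symm]
    have dot3 : ∀ u v, u ∈ f.sub S →
        f.dot u v = f.co u a * f.co v a + f.co u d * f.co v d + f.co u e * f.co v e := fun u v hu => by
      rw [dot_eq_sum S hu, hSdef, Finset.sum_insert (by simp [had, hae]), Finset.sum_pair hde, add_assoc]
    -- a vector orthogonal to `u` outside the coordinates
    have finish : ∀ u (hu : Q u = 0), u ∈ f.sub S → (∀ x ∈ f.sub S, 𝔅 u x = 0 → x ∈ rootSpace M hu) →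
        ∀ l, l ∉ S → ∀ k ∈ f.sub S, 𝔅 u k = 0 → ∀ v ∈ f.RR M, ∀ r : F, r ≠ 0 → ∀ s : F, v = s • k + r • f.b l →
        f.dot v k ≠ 0 → f.b l ∈ rootSpace M hu := by
      intro u hu hus hfull l hl k hk huk v hv r hr s hvk hvdot
      have hk' := hfull k hk huk
      have hfix : ap (rf v * rf (f.b l) : Isom Q) u = u := by
        rw [ap_mul, ap_rf (v := f.b l) (f.quad_ne l), f.polar_b_left, hus l hl, mul_zero, mul_zero, zero_smul,
          sub_zero, ap_rf (v := v) (by rw [hv.1]; exact f.c_ne), hvk, QuadraticMap.polar_add_left,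
          QuadraticMap.polar_smul_left, QuadraticMap.polar_smul_left, QuadraticMap.polar_comm (⇑Q) k u, huk,
          f.polar_b_left, hus l hl]
        simp
      have h1 := rootSpace_fixed (hv.2 l) (by rw [← ap_def]; exact hfix) hk'
      rw [← ap_def, ap_mul, ap_rf (v := f.b l) (f.quad_ne l), f.polar_b_left, hk l hl, mul_zero, mul_zero, zero_smul,
        sub_zero, ap_rf (v := v) (by rw [hv.1]; exact f.c_ne), sub_sub_cancel_left, ← neg_smul] at h1
      have hne : -((Q v)⁻¹ * 𝔅 v k) ≠ 0 := by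
        rw [hv.1, f.polar_eq]
        exact neg_ne_zero.2 (mul_ne_zero (inv_ne_zero f.c_ne) (mul_ne_zero f.two_c hvdot))
      have h2 := Submodule.smul_mem _ (-((Q v)⁻¹ * 𝔅 v k))⁻¹ h1
      rw [inv_smul_smul₀ hne] at h2
      have h4 := Submodule.smul_mem _ r⁻¹ (Submodule.sub_mem _ h2 (Submodule.smul_mem _ s hk'))
      rw [hvk, add_sub_cancel_left, inv_smul_smul₀ hr] at h4
      exact h4
    by_cases hm1 : ∃ i : F, i ^ 2 = -1
    · obtain ⟨i, hi⟩ := hm1
      obtain ⟨u, hus, ua, ud, ue⟩ := mkvec i 0 1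
      have hu : Q u = 0 := by
        rw [f.quad_eq, dot3 u u hus, ua, ud, ue]
        linear_combination f.c * hi
      have hu0 : u ≠ 0 := fun h => by rw [h, map_zero, Pi.zero_apply] at ue; exact zero_ne_one ue
      obtain ⟨hu', hfull⟩ := hall u hus hu0 hu
      refine ⟨u, hus, hu, ue, hfull, fun l hl => ?_⟩
      obtain ⟨hla, hld, hle⟩ := hcomp l hl
      obtain ⟨v, hv⟩ : ∃ v, v = f.co u₀ a • f.b d + f.co u₀ d • f.b l := ⟨_, rfl⟩
      have hv' : v ∈ f.RR M := by
        refine move' hM hu₀ (k := 2) (by omega) ![a, d] ![d, l] (fun p q h => ?_) (fun p q h => ?_) (fun i hi => ?_)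
          (fun i hi => ?_) fun i => ?_
        · fin_cases p <;> fin_cases q <;> simp [had, had.symm] at h ⊢
        · fin_cases p <;> fin_cases q <;> simp [hld, hld.symm] at h ⊢
        · exact hz i (fun h => hi ⟨0, h.symm⟩) (fun h => hi ⟨1, h.symm⟩)
        · have h1 : i ≠ d := fun h => hi ⟨0, h.symm⟩
          have h2 : i ≠ l := fun h => hi ⟨1, h.symm⟩
          simp [hv, f.co_b, h1, h2]
        · fin_cases i <;> simp [hv, f.co_b, hld, hld.symm]
      refine finish u hu hus hfull l hl (f.b d) (f.b_mem_sub S hd)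
        (by rw [f.polar_b_right, ud, mul_zero]) v hv' _ hβ _ hv ?_
      rw [dot_comm, f.dot_b, hv]
      simpa [f.co_b, hld.symm] using hα
    · obtain ⟨A, B, hAB⟩ := exists_diag_binary f.two one_ne_zero one_ne_zero (-1 : F)
      have hA : A ≠ 0 := fun h => hm1 ⟨B, by rw [h] at hAB; linear_combination hAB⟩
      obtain ⟨u, hus, ua, ud, ue⟩ := mkvec A B 1
      have hu : Q u = 0 := by
        rw [f.quad_eq, dot3 u u hus, ua, ud, ue]
        linear_combination f.c * hAB
      have hu0 : u ≠ 0 := fun h => by rw [h, map_zero, Pi.zero_apply] at ue; exact zero_ne_one ue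
      obtain ⟨hu', hfull⟩ := hall u hus hu0 hu
      refine ⟨u, hus, hu, ue, hfull, fun l hl => ?_⟩
      obtain ⟨hla, hld, hle⟩ := hcomp l hl
      obtain ⟨k, hks, ka, kd, ke⟩ := mkvec B (-A) 0
      obtain ⟨v₀, hv₀s, va, vd, ve⟩ := mkvec (3 / 4 * B) (-(3 / 4 * A)) (5 / 4)
      have h4 : (4 : F) ≠ 0 := by
        rw [show (4 : F) = 2 * 2 by norm_num]
        exact mul_ne_zero f.two f.two
      have hv₀q : Q v₀ = f.c := f.unit_iff.2 (by
        rw [dot3 v₀ v₀ hv₀s, va, vd, ve]
        field_simp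
        linear_combination 9 * hAB)
      have hv₀R : v₀ ∈ f.RR M := by
        have hq : (3 / 4 * B) ^ 2 + (-(3 / 4 * A)) ^ 2 = -((3 / 4 : F) ^ 2) := by linear_combination ((3 / 4 : F) ^ 2) * hAB
        have h9 : -((3 / 4 : F) ^ 2) ≠ 0 := by
          exact neg_ne_zero.2 (pow_ne_zero 2 (div_ne_zero h3 h4))
        -- a full point with product one against a signed copy
        have main : ∀ (m w : F) (v : ι → F), m ^ 2 + w ^ 2 = (3 / 4) ^ 2 → v ∈ f.sub S → Q v = f.c →
            f.co v a ^ 2 + f.co v d ^ 2 = -((3 / 4) ^ 2) → m + f.co v e = 1 → v ∈ f.RR M := by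
          intro m w v hmw hvs hvq hxy hme
          obtain ⟨P, hP⟩ : ∃ P, P = (m * f.co v a - w * f.co v d) / (-((3 / 4) ^ 2)) := ⟨_, rfl⟩
          obtain ⟨R, hR⟩ : ∃ R, R = (m * f.co v d + w * f.co v a) / (-((3 / 4) ^ 2)) := ⟨_, rfl⟩
          obtain ⟨u', hu's, u'a, u'd, u'e⟩ := mkvec P R 1
          have hPR : P ^ 2 + R ^ 2 = -1 := by
            rw [hP, hR, div_pow _ (-((3 / 4 : F) ^ 2)), div_pow _ (-((3 / 4 : F) ^ 2)), ← add_div,
              div_eq_iff (pow_ne_zero 2 h9)]
            linear_combination (m ^ 2 + w ^ 2) * hxy - ((3 / 4 : F) ^ 2) * hmw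
          have hlin : P * f.co v a + R * f.co v d = m := by
            rw [hP, hR, div_mul_eq_mul_div, div_mul_eq_mul_div, ← add_div, div_eq_iff h9]
            linear_combination m * hxy
          have hu' : Q u' = 0 := by
            rw [f.quad_eq, dot3 u' u' hu's, u'a, u'd, u'e]
            linear_combination f.c * hPR
          refine mem_RR_of_full hM hu's (hall u' hu's (fun h => ?_) hu') he (by rw [u'e]; exact one_ne_zero) hvs hvq ?_ hl₀
          · rw [h, map_zero, Pi.zero_apply] at u'e; exact zero_ne_one u'e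
          · rw [dot3 u' v hu's, u'a, u'd, u'e, hlin, one_mul, hme]
        rcases exists_half_sq f.two hm1 with ⟨r, hr⟩ | ⟨r, hr⟩
        · refine main (-(1 / 4)) r v₀ ?_ hv₀s hv₀q (by rw [va, vd]; exact hq) ?_
          · field_simp
            linear_combination 8 * hr
          · rw [ve]; field_simp; ring
        · have := main (9 / 4) (3 * r) (-v₀) ?_ (Submodule.neg_mem _ hv₀s) (by rw [QuadraticMap.map_neg, hv₀q])
            (by simp only [map_neg, Pi.neg_apply, va, vd]; rw [← hq]; ring)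
            (by rw [map_neg, Pi.neg_apply, ve]; field_simp; ring)
          · exact hM.sign_mem this fun i => by rw [map_neg, Pi.neg_apply, neg_sq]
          · field_simp
            linear_combination 72 * hr
      obtain ⟨v, hv⟩ : ∃ v, v = (3 / 4 : F) • k + (5 / 4 : F) • f.b l := ⟨_, rfl⟩
      have hv' : v ∈ f.RR M := by
        refine move' hM hv₀R (k := 3) (by omega) ![a, d, e] ![a, d, l] (fun p q h => ?_) (fun p q h => ?_)
          (fun i hi => ?_) (fun i hi => ?_) fun i => ?_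
        · fin_cases p <;> fin_cases q <;> simp [had, had.symm, hae, hae.symm, hde, hde.symm] at h ⊢
        · fin_cases p <;> fin_cases q <;> simp [had, had.symm, hla, hla.symm, hld, hld.symm] at h ⊢
        · exact hv₀s i (by simpa [hSdef] using ⟨fun h => hi ⟨0, h.symm⟩, fun h => hi ⟨1, h.symm⟩,
            fun h => hi ⟨2, h.symm⟩⟩)
        · have h1 : i ≠ a := fun h => hi ⟨0, h.symm⟩
          have h2 : i ≠ d := fun h => hi ⟨1, h.symm⟩
          have h3' : i ≠ l := fun h => hi ⟨2, h.symm⟩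
          have hk0 : f.co k i = 0 := by
            by_cases hiS : i ∈ S
            · obtain rfl : i = e := by simpa [hSdef, h1, h2] using hiS
              exact ke
            · exact hks i hiS
          simp [hv, f.co_b, h3', hk0]
        · fin_cases i
          · simp [hv, f.co_b, hla.symm, ka, va]
          · simp [hv, f.co_b, hld.symm, kd, vd]
          · simp [hv, f.co_b, ve, hks l hl]
      refine finish u hu hus hfull l hl k hks ?_ v hv' _ (div_ne_zero h5 h4) _ hv ?_
      · rw [f.polar_eq, dot3 u k hus, ua, ud, ue, ka, kd, ke]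
        ring
      · rw [dot_comm, dot3 k v hks, ka, kd, ke, hv]
        simp only [map_add, map_smul, Pi.add_apply, Pi.smul_apply, f.co_b, if_neg hla.symm, if_neg hld.symm, ka, kd,
          smul_eq_mul]
        intro h
        refine div_ne_zero h3 h4 ?_
        linear_combination -h + (3 / 4 : F) * hAB
  refine omega_le_of_point hM hp hn hu (i := e) (j := l₀) (by rw [hue]; exact one_ne_zero) (hus l₀ hl₀)
    (mem_of_split hu S hus huroot.2 huroot.1)

omit hn in
/-- A vector of small support gives all of `Ω`. -/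
theorem omega_le_of_small (hn : 10 ≤ n) {v : ι → F} (hv : v ∈ f.RR M)
    (h : ((f.supp v).card = 2 ∧ ∃ i ∈ f.supp v, 2 * f.co v i ^ 2 ≠ 1) ∨
      ((f.supp v).card = 3 ∧ ((5 : F) = 0 ∨ ∃ h : F, 2 * h ^ 2 = 1)) ∨
      ((f.supp v).card = 4 ∧ (3 : F) = 0)) : Cfsg.Omega F ⇑Q ≤ M := by
  classical
  have hdot : ∀ i, f.dot v (f.b i) = f.co v i := fun i => by rw [dot_comm, f.dot_b]
  rcases h with ⟨hc, a, ha, hne⟩ | ⟨hc, h5 | ⟨h, hh⟩⟩ | ⟨hc, h3⟩
  · obtain ⟨d, hd, hda⟩ := Finset.exists_mem_ne (by omega : 1 < (f.supp v).card) a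
    obtain ⟨e, -, he⟩ := Finset.exists_mem_notMem_of_card_lt_card (s := f.supp v) (t := Finset.univ)
      (by rw [Finset.card_univ, Fintype.card_fin]; omega)
    have hsupp : ({a, d} : Finset (Fin n)) = f.supp v := Finset.eq_of_subset_of_card_le
      (fun i hi => by
        simp only [Finset.mem_insert, Finset.mem_singleton] at hi
        rcases hi with rfl | rfl <;> assumption) (by rw [Finset.card_pair hda.symm, hc])
    have hz : ∀ i, i ≠ a → i ≠ d → f.co v i = 0 := fun i h1 h2 => f.notMem_supp.1 (by rw [← hsupp]; simp [h1, h2])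
    refine omega_le_of_local hM hp (by omega) hMΩ (e := e) hda.symm (fun h => he (h ▸ ha)) (fun h => he (h ▸ hd)) hv hz
      (f.mem_supp.1 ha) (f.mem_supp.1 hd) (g₀ := rf v * rf (f.b a)) (pair_mem_local hM hv (hM.b_mem a)
        (fun i hi => hz i (by rintro rfl; simp at hi) (by rintro rfl; simp at hi)) (f.b_mem_sub _ (by simp)))
      (x := a) (by simp) (Finset.one_lt_card.2 ⟨a, f.mem_supp.2 ?_, d, f.mem_supp.2 ?_, hda.symm⟩)
    all_goals rw [ap_mul, rf_b_b, if_pos rfl, map_neg, map_neg, Pi.neg_apply, neg_ne_zero, f.co_rf hv.1, hdot, f.co_b]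
    · rw [if_pos rfl]
      exact fun e' => hne (by linear_combination -e')
    · rw [if_neg hda, zero_sub, neg_ne_zero]
      exact mul_ne_zero (mul_ne_zero f.two (f.mem_supp.1 ha)) (f.mem_supp.1 hd)
  · exact omega_le_char_five hM hp hn h5 hv hc
  · obtain ⟨a, d, e, had, hae, hde, hS⟩ := Finset.card_eq_three.1 hc
    have hu₀ := swap_mem_RR hM had hh
    have hh0 : h ≠ 0 := fun e => by simp [e] at hh
    have hm : ∀ i ∈ ({a, d, e} : Finset (Fin n)), f.co v i ≠ 0 := fun i hi => f.mem_supp.1 (hS ▸ hi)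
    refine omega_le_of_local hM hp (by omega) hMΩ had hae hde hu₀ (fun i h1 h2 => ?_) ?_ ?_
      (g₀ := rf v * rf (f.b a)) (pair_mem_local hM hv (hM.b_mem a)
        (fun i hi => f.notMem_supp.1 (hS ▸ hi)) (f.b_mem_sub _ (by simp)))
      (x := a) (by simp) (Finset.one_lt_card.2 ⟨d, f.mem_supp.2 ?_, e, f.mem_supp.2 ?_, hde⟩)
    · simp [f.co_b, h1, h2]
    · simpa [f.co_b, had] using hh0
    · simpa [f.co_b, had.symm] using hh0
    all_goals
      rw [ap_mul, rf_b_b, if_pos rfl, map_neg, map_neg, Pi.neg_apply, neg_ne_zero, f.co_rf hv.1, hdot, f.co_b]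
    · rw [if_neg had.symm, zero_sub, neg_ne_zero]
      exact mul_ne_zero (mul_ne_zero f.two (hm a (by simp))) (hm d (by simp))
    · rw [if_neg hae.symm, zero_sub, neg_ne_zero]
      exact mul_ne_zero (mul_ne_zero f.two (hm a (by simp))) (hm e (by simp))
  · exact omega_le_char_three hM hp hn h3 hv hc

end Frame

end CfsgLib.OrthMono
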