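import Cfsg.Agent.OrthMono.Ternary
import Cfsg.Agent.OrthMono.SmallThree

/-!
# Root groups on three coordinates

`exists_singular_fix`: some nontrivial element fixing all other coordinates fixes a singular vector;
`pointFull_all`: then every singular vector of the three coordinates has its root group there.
-/

set_option autoImplicit false
set_option linter.unusedSectionVars false

namespace CfsgLib.OrthMono

open Matrix Module CfsgLib.Spinor CfsgLib.Forms CfsgLib.Forms4 CfsgLib.OrthMax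

variable {F : Type*} [Field F] [Fintype F] {ι : Type} [Fintype ι] [DecidableEq ι] {Q : QuadraticForm F (ι → F)}

set_option quotPrecheck false in
local notation "𝔅" => QuadraticMap.polar (⇑Q)

namespace Frame

variable {n : ℕ} {f : Frame Q n} {S : Finset (Fin n)} {M : Subgroup (Isom Q)}

theorem dot_comm (x y : ι → F) : f.dot x y = f.dot y x :=
  Finset.sum_congr rfl fun _ _ => mul_comm _ _

theorem rf_b_b (i j : Fin n) : ap (rf (f.b i) : Isom Q) (f.b j) = if i = j then -f.b j else f.b j := by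
  split_ifs with h
  · subst h; exact ap_rf_self (f.quad_ne i)
  · rw [ap_rf (f.quad_ne i), f.orth i j h, mul_zero, zero_smul, sub_zero]

/-- Three independent vectors of three coordinates span them. -/
theorem exists_coeffs (hS : S.card = 3) {p q r : ι → F} (hp : p ∈ f.sub S) (hq : q ∈ f.sub S) (hr : r ∈ f.sub S)
    (hind : ∀ a b c : F, a • p + b • q + c • r = 0 → a = 0 ∧ b = 0 ∧ c = 0) {x : ι → F} (hx : x ∈ f.sub S) :
    ∃ a b c : F, x = a • p + b • q + c • r := by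
  let L : F × F × F →ₗ[F] f.sub S :=
    (LinearMap.toSpanSingleton F (f.sub S) ⟨p, hp⟩).coprod ((LinearMap.toSpanSingleton F (f.sub S) ⟨q, hq⟩).coprod
      (LinearMap.toSpanSingleton F (f.sub S) ⟨r, hr⟩))
  have hL : ∀ a b c : F, ((L (a, b, c) : f.sub S) : ι → F) = a • p + b • q + c • r := fun a b c => by
    simp [L, add_assoc]
  have hinj : Function.Injective L := by
    rw [← LinearMap.ker_eq_bot, LinearMap.ker_eq_bot']
    rintro ⟨a, b, c⟩ h
    obtain ⟨rfl, rfl, rfl⟩ := hind a b c (by rw [← hL, h]; rfl)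
    rfl
  have hdim : finrank F (F × F × F) = finrank F (f.sub S) := by
    rw [f.finrank_sub, hS, Module.finrank_prod, Module.finrank_prod, Module.finrank_self]
  obtain ⟨⟨a, b, c⟩, h⟩ := (LinearMap.injective_iff_surjective_of_finrank_eq_finrank hdim).1 hinj ⟨x, hx⟩
  exact ⟨a, b, c, by rw [← hL, h]⟩

/-- A nonzero vector orthogonal to two others. -/
theorem exists_perp_two (hS : S.card = 3) (p q : ι → F) :
    ∃ r ∈ f.sub S, r ≠ 0 ∧ 𝔅 p r = 0 ∧ 𝔅 q r = 0 := by
  let L : f.sub S →ₗ[F] F × F :=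
    ((QuadraticMap.polarBilin Q p).comp (f.sub S).subtype).prod ((QuadraticMap.polarBilin Q q).comp (f.sub S).subtype)
  obtain ⟨r, hr, hr0⟩ := (LinearMap.ker L).ne_bot_iff.1 (LinearMap.ker_ne_bot_of_finrank_lt (f := L) (by
    rw [f.finrank_sub, hS, Module.finrank_prod, Module.finrank_self]; norm_num))
  rw [LinearMap.mem_ker] at hr
  exact ⟨r, r.2, fun h => hr0 (Subtype.ext h), congrArg Prod.fst hr, congrArg Prod.snd hr⟩

/-- A hyperbolic pair and a vector orthogonal to it. -/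
theorem exists_triple (hS : S.card = 3) {u : ι → F} (hu : u ∈ f.sub S) (hu0 : u ≠ 0) (hq : Q u = 0) :
    ∃ u' ∈ f.sub S, ∃ h ∈ f.sub S, Q u' = 0 ∧ 𝔅 u u' = 1 ∧ 𝔅 u h = 0 ∧ 𝔅 u' h = 0 ∧ h ≠ 0 ∧ 𝔅 h h ≠ 0 ∧
      ∀ x ∈ f.sub S, ∃ t : F, x = 𝔅 u' x • u + 𝔅 u x • u' + t • h := by
  obtain ⟨x₁, hx₁, h1⟩ := f.exists_pairing S hu hu0
  obtain ⟨u', hu'def⟩ : ∃ w, w = x₁ - Q x₁ • u := ⟨_, rfl⟩
  have huu : 𝔅 u u = 0 := by rw [polar_self', hq, mul_zero]
  have hu' : u' ∈ f.sub S := hu'def ▸ Submodule.sub_mem _ hx₁ (Submodule.smul_mem _ _ hu)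
  have hp : 𝔅 u u' = 1 := by
    rw [hu'def, QuadraticMap.polar_sub_right, QuadraticMap.polar_smul_right, huu, h1, smul_zero, sub_zero]
  have hq' : Q u' = 0 := by
    rw [hu'def, sub_eq_add_neg, QuadraticMap.map_add (⇑Q), QuadraticMap.map_neg, QuadraticMap.map_smul, hq,
      QuadraticMap.polar_neg_right, QuadraticMap.polar_smul_right, QuadraticMap.polar_comm (⇑Q) x₁ u, h1]
    simp
  obtain ⟨h, hh, hh0, huh, hu'h⟩ := exists_perp_two (f := f) hS u u'
  have hu'u' : 𝔅 u' u' = 0 := by rw [polar_self', hq', mul_zero]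
  have hind : ∀ a b c : F, a • u + b • u' + c • h = 0 → a = 0 ∧ b = 0 ∧ c = 0 := by
    intro a b c e
    have e1 := congrArg (fun v => 𝔅 u v) e
    have e2 := congrArg (fun v => 𝔅 u' v) e
    simp only [QuadraticMap.polar_add_right, QuadraticMap.polar_smul_right, QuadraticMap.polar_zero_right, huu, hp,
      huh, hu'h, hu'u', QuadraticMap.polar_comm (⇑Q) u' u, smul_eq_mul, mul_zero, mul_one, zero_add, add_zero]
      at e1 e2
    refine ⟨e2, e1, ?_⟩
    rw [e1, e2, zero_smul, zero_smul, zero_add, zero_add] at e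
    exact (smul_eq_zero.1 e).resolve_right hh0
  have hdec : ∀ x ∈ f.sub S, ∃ t : F, x = 𝔅 u' x • u + 𝔅 u x • u' + t • h := by
    intro x hx
    obtain ⟨a, b, c, rfl⟩ := exists_coeffs hS hu hu' hh hind hx
    refine ⟨c, ?_⟩
    simp only [QuadraticMap.polar_add_right, QuadraticMap.polar_smul_right, huu, hp, huh, hu'h, hu'u',
      QuadraticMap.polar_comm (⇑Q) u' u, smul_eq_mul, mul_zero, mul_one, zero_add, add_zero]
  refine ⟨u', hu', h, hh, hq', hp, huh, hu'h, hh0, fun e => ?_, hdec⟩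
  obtain ⟨x, hx, hhx⟩ := f.exists_pairing S hh hh0
  obtain ⟨t, ht⟩ := hdec x hx
  rw [ht, QuadraticMap.polar_add_right, QuadraticMap.polar_add_right, QuadraticMap.polar_smul_right,
    QuadraticMap.polar_smul_right, QuadraticMap.polar_smul_right, QuadraticMap.polar_comm (⇑Q) h u, huh,
    QuadraticMap.polar_comm (⇑Q) h u', hu'h, e] at hhx
  simp at hhx

/-- Every vector of the coordinates orthogonal to `u` pairs with `u` in `M`. -/
def PointFull (f : Frame Q n) (S : Finset (Fin n)) (M : Subgroup (Isom Q)) (u : ι → F) : Prop :=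
  ∃ hu : Q u = 0, ∀ x ∈ f.sub S, 𝔅 u x = 0 → x ∈ rootSpace M hu

theorem eichIso_fixes {u w : ι → F} (hu : Q u = 0) (huw : 𝔅 u w = 0) (hus : u ∈ f.sub S) (hws : w ∈ f.sub S)
    {l : Fin n} (hl : l ∉ S) : ap (eichIso Q u w hu huw) (f.b l) = f.b l := by
  rw [ap_def, mat_eichIso, eich_mulVec, f.polar_b_right, f.polar_b_right, hus l hl, hws l hl]
  simp

variable (hM : f.HasMono M) (hp : (Fintype.card F).Prime) (hn : 5 ≤ n) (hMΩ : M ≤ Cfsg.Omega F ⇑Q)
  (hS : S.card = 3)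
include hM hp hn hMΩ hS

omit hM in
/-- A nontrivial element fixing a singular vector is an Eichler element there. -/
theorem pointFull_of_fix {g : Isom Q} (hg : g ∈ f.localGroup S M) (hg1 : g ≠ 1) {u : ι → F} (hus : u ∈ f.sub S)
    (hu0 : u ≠ 0) (hu : Q u = 0) (hfix : ap g u = u) : f.PointFull S M u := by
  obtain ⟨u', hu', h, hh, hq', huu', huh, hu'h, hh0, hhh, hdec⟩ := exists_triple hS hus hu0 hu
  have hy : Q (ap g u') = 0 := by rw [quad_ap, hq']
  have huy : 𝔅 u (ap g u') = 𝔅 u u' := by conv_lhs => rw [← hfix, polar_ap]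
  obtain ⟨huw, hmove⟩ := eich_move hu hq' hy (by rw [huu']; exact one_ne_zero) huy
  obtain ⟨w, hw⟩ : ∃ w, w = (𝔅 u u')⁻¹ • (ap g u' - u') := ⟨_, rfl⟩
  rw [← hw] at huw hmove
  have hws : w ∈ f.sub S :=
    hw ▸ Submodule.smul_mem _ _ (Submodule.sub_mem _ (f.ap_mem_sub S hg.2 hu') hu')
  obtain ⟨E, hE⟩ : ∃ E : Isom Q, E = eichIso Q u w hu huw := ⟨_, rfl⟩
  have hEΩ : E ∈ Cfsg.Omega F ⇑Q := hE ▸ eich_mem_omega f.nondeg (by rw [f.card_eq]; exact hn) hu huw
  have hEu : ap E u = u := by rw [hE, ap_def, mat_eichIso, eich_mulVec_left hu huw]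
  have hEu' : ap E u' = ap g u' := by
    rw [← hmove, hE]
    rfl
  have hE1 : E⁻¹ * g = 1 := by
    refine eq_one_of_fix (det_of_omega (Subgroup.mul_mem _ (Subgroup.inv_mem _ hEΩ) (hMΩ hg.1))) (fun l hl => ?_)
      hh hh0 fun x hx hhx => ?_
    · rw [ap_mul, hg.2 l hl]
      conv_lhs => rw [← eichIso_fixes hu huw hus hws hl, ← hE, ap_inv_ap]
    · obtain ⟨t, ht⟩ := hdec x hx
      rw [ht, QuadraticMap.polar_add_right, QuadraticMap.polar_add_right, QuadraticMap.polar_smul_right,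
        QuadraticMap.polar_smul_right, QuadraticMap.polar_smul_right, QuadraticMap.polar_comm (⇑Q) h u, huh,
        QuadraticMap.polar_comm (⇑Q) h u', hu'h, smul_zero, smul_zero, zero_add, zero_add, smul_eq_mul] at hhx
      rw [ht, (mul_eq_zero.1 hhx).resolve_right hhh, zero_smul, add_zero, map_add, map_smul, map_smul, ap_mul,
        ap_mul, hfix, ← hEu', ap_inv_ap]
      conv_lhs => enter [1, 2, 2]; rw [← hEu]
      rw [ap_inv_ap]
  have hgE : g = E := (inv_mul_eq_one.1 hE1).symm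
  have hwroot : w ∈ rootSpace M hu := by
    refine rootSpace_of_rootMem hp hu huw one_ne_zero ?_
    rw [one_smul]
    exact RootMem.of_iso hu huw (by rw [← hE, ← hgE]; exact hg.1)
  obtain ⟨t, ht⟩ := hdec w hws
  rw [huw, zero_smul, add_zero] at ht
  have ht0 : t ≠ 0 := by
    intro e
    rw [e, zero_smul, add_zero] at ht
    refine hg1 (mat_ext Q ?_)
    rw [hgE, hE, mat_eichIso, ht, eich_smul_self Q hu, mat_one]
  have hroot : h ∈ rootSpace M hu := by
    have e : h = t⁻¹ • (w - 𝔅 u' w • u) := by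
      conv_rhs => enter [2, 1]; rw [ht]
      rw [add_sub_cancel_left, inv_smul_smul₀ ht0]
    rw [e]
    exact Submodule.smul_mem _ _ (Submodule.sub_mem _ hwroot (Submodule.smul_mem _ _ self_mem_rootSpace))
  refine ⟨hu, fun x hx hux => ?_⟩
  obtain ⟨s, hs⟩ := hdec x hx
  rw [hux, zero_smul, add_zero] at hs
  rw [hs]
  exact Submodule.add_mem _ (Submodule.smul_mem _ _ self_mem_rootSpace) (Submodule.smul_mem _ _ hroot)

omit hp hn hMΩ hS in
theorem pair_mem_local {v w : ι → F} (hv : v ∈ f.RR M) (hw : w ∈ f.RR M) (hvs : v ∈ f.sub S) (hws : w ∈ f.sub S) :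
    rf v * rf w ∈ f.localGroup S M := by
  refine ⟨hM.pair_mem hv hw, fun l hl => ?_⟩
  rw [ap_mul, ap_rf (v := w) (by rw [hw.1]; exact f.c_ne), f.polar_b_right, hws l hl, mul_zero, mul_zero, zero_smul,
    sub_zero, ap_rf (v := v) (by rw [hv.1]; exact f.c_ne), f.polar_b_right, hvs l hl, mul_zero, mul_zero, zero_smul, sub_zero]

omit hp hn hMΩ in
theorem exists_local_perm {x y : Fin n} (hx : x ∈ S) (hy : y ∈ S) :
    ∃ g ∈ f.localGroup S M, ap g (f.b x) = f.b y := by
  classical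
  rcases eq_or_ne x y with rfl | hxy
  · exact ⟨1, Subgroup.one_mem _, ap_one _⟩
  obtain ⟨z, hz⟩ : ((S.erase x).erase y).Nonempty := by
    rw [← Finset.card_pos, Finset.card_erase_of_mem (Finset.mem_erase.2 ⟨hxy.symm, hy⟩), Finset.card_erase_of_mem hx,
      hS]
    omega
  simp only [Finset.mem_erase] at hz
  refine ⟨f.permHom (Equiv.swap x y * Equiv.swap y z), ⟨hM.perm_mem ?_, fun l hl => ?_⟩, ?_⟩
  · rw [map_mul, Equiv.Perm.sign_swap hxy, Equiv.Perm.sign_swap hz.1.symm]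
    rfl
  · have h : l ≠ x ∧ l ≠ y ∧ l ≠ z := ⟨fun e => hl (e ▸ hx), fun e => hl (e ▸ hy), fun e => hl (e ▸ hz.2.2)⟩
    rw [permHom_b, Equiv.Perm.mul_apply, Equiv.swap_apply_of_ne_of_ne h.2.1 h.2.2,
      Equiv.swap_apply_of_ne_of_ne h.1 h.2.1]
  · rw [permHom_b, Equiv.Perm.mul_apply, Equiv.swap_apply_of_ne_of_ne hxy (Ne.symm hz.2.1), Equiv.swap_apply_left]

/-- Some nontrivial element fixes a singular vector. -/
theorem exists_singular_fix {a d e : Fin n} (had : a ≠ d) (hae : a ≠ e) (hde : d ≠ e) (ha : a ∈ S) (hd : d ∈ S)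
    (he : e ∈ S) {u₀ : ι → F} (hu₀ : u₀ ∈ f.RR M) (hz : ∀ i, i ≠ a → i ≠ d → f.co u₀ i = 0)
    (hα : f.co u₀ a ≠ 0) (hβ : f.co u₀ d ≠ 0) {g₀ : Isom Q} (hg₀ : g₀ ∈ f.localGroup S M) {x : Fin n} (hx : x ∈ S)
    (hcard : 2 ≤ (f.supp (ap g₀ (f.b x))).card) :
    ∃ g ∈ f.localGroup S M, g ≠ 1 ∧ ∃ u ∈ f.sub S, u ≠ 0 ∧ Q u = 0 ∧ ap g u = u := by
  classical
  by_contra hno
  haveI : Finite (Isom Q) := by
    haveI : Finite (GL ι F) := Finite.of_injective _ Units.val_injective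
    infer_instance
  haveI : Fintype (f.localGroup S M) := Fintype.ofFinite _
  let φ : f.localGroup S M →* Module.End F (f.sub S) :=
    { toFun := fun g => (ap (g : Isom Q)).restrict fun y hy => f.ap_mem_sub S g.2.2 hy
      map_one' := LinearMap.ext fun y => Subtype.ext (ap_one _)
      map_mul' := fun g h => LinearMap.ext fun y => Subtype.ext (ap_mul _ _ _) }
  have hφ : ∀ g y, ((φ g y : f.sub S) : ι → F) = ap (g : Isom Q) (y : ι → F) := fun g y => rfl
  have hax : ∀ g : f.localGroup S M, g ≠ 1 → ∃ v : f.sub S, (Q.comp (f.sub S).subtype) v ≠ 0 ∧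
      ∀ y, φ g y = y ↔ y ∈ Submodule.span F {v} := by
    intro g hg
    have hg' : (g : Isom Q) ≠ 1 := fun h => hg (Subtype.ext h)
    have hdet := det_of_omega (hMΩ g.2.1)
    obtain ⟨v, hv, hv0, hgv⟩ := exists_fixed (f := f) (S := S) (by rw [hS]; decide) hdet g.2.2
    have hqv : Q v ≠ 0 := fun h => hno ⟨g, g.2, hg', v, hv, hv0, h, hgv⟩
    refine ⟨⟨v, hv⟩, hqv, fun y => ⟨fun hy => ?_, fun hy => ?_⟩⟩
    swap
    · obtain ⟨t, rfl⟩ := Submodule.mem_span_singleton.1 hy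
      exact Subtype.ext (by rw [hφ, Submodule.coe_smul, map_smul, hgv])
    by_contra hns
    have hgy : ap (g : Isom Q) (y : ι → F) = (y : ι → F) := congrArg Subtype.val hy
    have hvv : 𝔅 v v ≠ 0 := by rw [polar_self']; exact mul_ne_zero f.two hqv
    obtain ⟨z, hzdef⟩ : ∃ z, z = (y : ι → F) - (𝔅 v y / 𝔅 v v) • v := ⟨_, rfl⟩
    have hzs : z ∈ f.sub S := hzdef ▸ Submodule.sub_mem _ y.2 (Submodule.smul_mem _ _ hv)
    have hz0 : z ≠ 0 := fun h => hns (Submodule.mem_span_singleton.2 ⟨𝔅 v y / 𝔅 v v, Subtype.ext (by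
      rw [Submodule.coe_smul]
      exact (sub_eq_zero.1 (hzdef.symm.trans h)).symm)⟩)
    have hgz : ap (g : Isom Q) z = z := by rw [hzdef, map_sub, map_smul, hgv, hgy]
    have hvz : 𝔅 v z = 0 := by
      rw [hzdef, QuadraticMap.polar_sub_right, QuadraticMap.polar_smul_right, smul_eq_mul, div_mul_cancel₀ _ hvv,
        sub_self]
    by_cases hqz : Q z = 0
    · exact hno ⟨g, g.2, hg', z, hzs, hz0, hqz, hgz⟩
    have hzz : 𝔅 z z ≠ 0 := by rw [polar_self']; exact mul_ne_zero f.two hqz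
    obtain ⟨r, hr, hr0, hvr, hzr⟩ := exists_perp_two (f := f) hS v z
    have hind : ∀ a b c : F, a • v + b • z + c • r = 0 → a = 0 ∧ b = 0 ∧ c = 0 := by
      intro a b c e
      have e1 := congrArg (fun w => 𝔅 v w) e
      have e2 := congrArg (fun w => 𝔅 z w) e
      simp only [QuadraticMap.polar_add_right, QuadraticMap.polar_smul_right, QuadraticMap.polar_zero_right, hvz, hvr,
        hzr, QuadraticMap.polar_comm (⇑Q) z v, smul_eq_mul, mul_zero, zero_add, add_zero] at e1 e2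
      obtain rfl := (mul_eq_zero.1 e1).resolve_right hvv
      obtain rfl := (mul_eq_zero.1 e2).resolve_right hzz
      rw [zero_smul, zero_smul, zero_add, zero_add] at e
      exact ⟨rfl, rfl, (smul_eq_zero.1 e).resolve_right hr0⟩
    have hrr : 𝔅 r r ≠ 0 := by
      intro h
      obtain ⟨w, hw, hrw⟩ := f.exists_pairing S hr hr0
      obtain ⟨a, b, c, rfl⟩ := exists_coeffs hS hv hzs hr hind hw
      simp [QuadraticMap.polar_add_right, QuadraticMap.polar_smul_right, QuadraticMap.polar_comm (⇑Q) r v, hvr,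
        QuadraticMap.polar_comm (⇑Q) r z, hzr, h] at hrw
    refine hg' (eq_one_of_fix hdet g.2.2 hr hr0 fun w hw hrw => ?_)
    obtain ⟨a, b, c, rfl⟩ := exists_coeffs hS hv hzs hr hind hw
    rw [QuadraticMap.polar_add_right, QuadraticMap.polar_add_right, QuadraticMap.polar_smul_right,
      QuadraticMap.polar_smul_right, QuadraticMap.polar_smul_right, QuadraticMap.polar_comm (⇑Q) r v, hvr,
      QuadraticMap.polar_comm (⇑Q) r z, hzr, smul_zero, smul_zero, zero_add, zero_add, smul_eq_mul] at hrw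
    rw [(mul_eq_zero.1 hrw).resolve_right hrr, zero_smul, add_zero, map_add, map_smul, map_smul, hgv, hgz]
  have hbs : ∀ i, i ∈ S → f.b i ∈ f.sub S := fun i hi => f.b_mem_sub S hi
  have hu₀s : u₀ ∈ f.sub S := fun i hi => hz i (fun h => hi (h ▸ ha)) (fun h => hi (h ▸ hd))
  obtain ⟨ε, hεdef⟩ : ∃ g : f.localGroup S M, g = ⟨rf (f.b a) * rf (f.b d),
      pair_mem_local hM (hM.b_mem a) (hM.b_mem d) (hbs a ha) (hbs d hd)⟩ := ⟨_, rfl⟩
  obtain ⟨ρ, hρdef⟩ : ∃ g : f.localGroup S M, g = ⟨rf u₀ * rf (f.b a),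
      pair_mem_local hM hu₀ (hM.b_mem a) hu₀s (hbs a ha)⟩ := ⟨_, rfl⟩
  obtain ⟨σ, hσdef⟩ : ∃ g : f.localGroup S M, g = ⟨rf (f.b a) * rf u₀,
      pair_mem_local hM (hM.b_mem a) hu₀ (hbs a ha) hu₀s⟩ := ⟨_, rfl⟩
  have hdot : ∀ i, f.dot u₀ (f.b i) = f.co u₀ i := fun i => by rw [dot_comm, f.dot_b]
  have hρe : ap (rf (Q := Q) u₀) (f.b e) = f.b e := f.co_ext fun i => by
    rw [f.co_rf hu₀.1, hdot, hz e hae.symm hde.symm]; ring
  have hεe : ap (ε : Isom Q) (f.b e) = f.b e := by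
    rw [hεdef]
    show ap (rf (f.b a) * rf (f.b d) : Isom Q) (f.b e) = _
    rw [ap_mul, rf_b_b, if_neg hde, rf_b_b, if_neg hae]
  have imε : f.co (ap (ε : Isom Q) (f.b a)) a = -1 := by
    rw [hεdef]
    show f.co (ap (rf (f.b a) * rf (f.b d) : Isom Q) (f.b a)) a = _
    rw [ap_mul, rf_b_b, if_neg had.symm, rf_b_b, if_pos rfl, map_neg, Pi.neg_apply, f.co_b, if_pos rfl]
  have imεd : f.co (ap (ε : Isom Q) (f.b a)) d = 0 := by
    rw [hεdef]
    show f.co (ap (rf (f.b a) * rf (f.b d) : Isom Q) (f.b a)) d = _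
    rw [ap_mul, rf_b_b, if_neg had.symm, rf_b_b, if_pos rfl, map_neg, Pi.neg_apply, f.co_b, if_neg had.symm, neg_zero]
  have imρd : f.co (ap (ρ : Isom Q) (f.b a)) d = 2 * f.co u₀ a * f.co u₀ d := by
    rw [hρdef]
    show f.co (ap (rf u₀ * rf (f.b a) : Isom Q) (f.b a)) d = _
    rw [ap_mul, rf_b_b, if_pos rfl, map_neg, map_neg, Pi.neg_apply, f.co_rf hu₀.1, hdot, f.co_b, if_neg had.symm]
    ring
  have imσd : f.co (ap (σ : Isom Q) (f.b a)) d = -(2 * f.co u₀ a * f.co u₀ d) := by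
    rw [hσdef]
    show f.co (ap (rf (f.b a) * rf u₀ : Isom Q) (f.b a)) d = _
    rw [ap_mul, f.co_rf (f.quad a), f.co_b, if_neg had.symm, mul_zero, sub_zero, f.co_rf hu₀.1, hdot, f.co_b,
      if_neg had.symm, zero_sub]
  have h2αβ : 2 * f.co u₀ a * f.co u₀ d ≠ 0 := mul_ne_zero (mul_ne_zero f.two hα) hβ
  have im1d : f.co (ap ((1 : f.localGroup S M) : Isom Q) (f.b a)) d = 0 := by
    rw [OneMemClass.coe_one, ap_one, f.co_b, if_neg had.symm]
  have hε1 : ε ≠ 1 := by
    intro h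
    rw [h, OneMemClass.coe_one, ap_one, f.co_b, if_pos rfl] at imε
    exact f.two (by linear_combination imε)
  have hε2 : ε * ε = 1 := by
    refine Subtype.ext (f.ext_b fun i => ?_)
    rw [Subgroup.coe_mul, OneMemClass.coe_one, ap_one, hεdef]
    show ap (rf (f.b a) * rf (f.b d) * (rf (f.b a) * rf (f.b d)) : Isom Q) (f.b i) = _
    simp only [ap_mul, rf_b_b]
    by_cases h1 : a = i <;> by_cases h2 : d = i <;> simp [h1, h2, map_neg, rf_b_b]
  have hflip : ap (rf (f.b e) * rf (f.b a) : Isom Q) (f.b e) = -f.b e := by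
    rw [ap_mul, rf_b_b, if_neg hae, rf_b_b, if_pos rfl]
  obtain ⟨τa, hτa, hτa'⟩ := exists_local_perm hM hS he ha
  obtain ⟨τd, hτd, hτd'⟩ := exists_local_perm hM hS he hd
  obtain ⟨τx, hτx, hτx'⟩ := exists_local_perm hM hS he hx
  have hmemspan : ∀ {p q : f.sub S}, p ∈ Submodule.span F {q} → ∃ t : F, (p : ι → F) = t • (q : ι → F) := fun h => by
    obtain ⟨t, ht⟩ := Submodule.mem_span_singleton.1 h
    exact ⟨t, by rw [← ht, Submodule.coe_smul]⟩
  have hnspan : ∀ {i j : Fin n} (t : F), i ≠ j → f.b i ≠ t • f.b j := fun {i j} t h e' => by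
    have := congrArg (fun w => f.co w i) e'
    simp [f.co_b, h] at this
  refine no_axes φ f.two (Q.comp (f.sub S).subtype) (fun g y => quad_ap _ _) hax (e := ⟨f.b e, hbs e he⟩)
    (f.quad_ne e) (gf := ⟨_, pair_mem_local hM (hM.b_mem e) (hM.b_mem a) (hbs e he) (hbs a ha)⟩)
    (Subtype.ext hflip) ?_ hε1 hε2 (Subtype.ext hεe)
    ![1, ⟨τa, hτa⟩, ⟨τd, hτd⟩, ⟨g₀, hg₀⟩ * ⟨τx, hτx⟩] fun i j hij hspan => ?_
  · have hsub : ({1, ε, ρ, σ} : Finset (f.localGroup S M)) ⊆
        pointStab φ (Submodule.span F {(⟨f.b e, hbs e he⟩ : f.sub S)}) := fun g hg => by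
      rw [mem_pointStab_span]
      simp only [Finset.mem_insert, Finset.mem_singleton] at hg
      refine Subtype.ext ?_
      rw [hφ]
      rcases hg with rfl | rfl | rfl | rfl
      · exact ap_one _
      · exact hεe
      · rw [hρdef]
        show ap (rf u₀ * rf (f.b a) : Isom Q) (f.b e) = f.b e
        rw [ap_mul, rf_b_b, if_neg hae, hρe]
      · rw [hσdef]
        show ap (rf (f.b a) * rf u₀ : Isom Q) (f.b e) = f.b e
        rw [ap_mul, hρe, rf_b_b, if_neg hae]
    refine le_trans (le_of_eq ?_) (Finset.card_le_card hsub)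
    have n1 : (1 : f.localGroup S M) ≠ ρ := fun h => h2αβ (imρd.symm.trans (h ▸ im1d))
    have n2 : (1 : f.localGroup S M) ≠ σ := fun h => h2αβ (neg_eq_zero.1 (imσd.symm.trans (h ▸ im1d)))
    have n3 : ε ≠ ρ := fun h => h2αβ (imρd.symm.trans (h ▸ imεd))
    have n4 : ε ≠ σ := fun h => h2αβ (neg_eq_zero.1 (imσd.symm.trans (h ▸ imεd)))
    have n5 : ρ ≠ σ := fun h => h2αβ (by
      have e' := imρd.symm.trans (h ▸ imσd)
      exact (mul_eq_zero.1 (by linear_combination e' : (2 : F) * (2 * f.co u₀ a * f.co u₀ d) = 0)).resolve_left f.two)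
    rw [Finset.card_insert_of_notMem (by simp [hε1.symm, n1, n2]),
      Finset.card_insert_of_notMem (by simp [n3, n4]), Finset.card_pair n5]
  · obtain ⟨t, ht⟩ := hmemspan hspan
    rw [hφ, hφ] at ht
    have hbig : ∀ (t : F) (k : Fin n), ap g₀ (f.b x) ≠ t • f.b k := fun t k h => by
      have hle : f.supp (ap g₀ (f.b x)) ⊆ {k} := fun l hl => Finset.mem_singleton.2 (by
        by_contra hlk
        exact f.mem_supp.1 hl (by rw [h, map_smul, Pi.smul_apply, f.co_b, if_neg hlk, smul_zero]))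
      have := Finset.card_le_card hle
      rw [Finset.card_singleton] at this
      omega
    fin_cases i <;> fin_cases j <;>
      simp [Subgroup.coe_mul, ap_mul, ap_one, hτa', hτd', hτx'] at hij ht <;>
      first
      | exact hnspan t hae ht
      | exact hnspan t hde ht
      | exact hnspan t had.symm ht
      | exact hbig t _ ht

omit hp hn hMΩ hS in
theorem PointFull.map {u : ι → F} (h : f.PointFull S M u) {g : Isom Q} (hg : g ∈ f.localGroup S M) :
    f.PointFull S M (ap g u) := by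
  obtain ⟨hu, hfull⟩ := h
  refine ⟨by rw [quad_ap, hu], fun x hx hux => ?_⟩
  have hx' := hfull _ (f.ap_mem_sub S ((f.localGroup S M).inv_mem hg).2 hx) (by
    rw [← polar_ap g, ap_ap_inv]; exact hux)
  have hgu : Q (mat Q g *ᵥ u) = 0 := by rw [← ap_def, quad_ap, hu]
  refine ⟨hux, fun c => ?_⟩
  have := (rootSpace_map hg.1 hx' hgu).2 c
  rwa [← ap_def, ← ap_def, ap_ap_inv] at this

omit hp hMΩ hn in
/-- Then every singular vector of the coordinates is full. -/
theorem pointFull_all {u : ι → F} (hus : u ∈ f.sub S) (hu0 : u ≠ 0) (h : f.PointFull S M u) {y : ι → F}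
    (hys : y ∈ f.sub S) (hy0 : y ≠ 0) (hy : Q y = 0) : f.PointFull S M y := by
  classical
  obtain ⟨hu, hfull⟩ := h
  obtain ⟨u', hu', k, hk, hq', huu', huk, hu'k, hk0, hkk, hdec⟩ := exists_triple hS hus hu0 hu
  have hprop : ∀ z ∈ f.sub S, Q z = 0 → 𝔅 u z = 0 → z = 𝔅 u' z • u := by
    intro z hz hqz huz
    obtain ⟨t, ht⟩ := hdec z hz
    rw [huz, zero_smul, add_zero] at ht
    have hqk : Q k ≠ 0 := fun e => hkk (by rw [polar_self', e, mul_zero])
    rw [ht, QuadraticMap.map_add (⇑Q), QuadraticMap.map_smul, QuadraticMap.map_smul, hu,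
      QuadraticMap.polar_smul_left, QuadraticMap.polar_smul_right, huk] at hqz
    simp [hqk] at hqz
    rwa [hqz, zero_smul, add_zero] at ht
  by_cases huy : 𝔅 u y = 0
  · refine ⟨hy, fun x hx hyx => ?_⟩
    have e := hprop y hys hy huy
    have hs : 𝔅 u' y ≠ 0 := fun e' => hy0 (by rw [e, e', zero_smul])
    rw [e, QuadraticMap.polar_smul_left, smul_eq_mul] at hyx
    have hr := hfull x hx ((mul_eq_zero.1 hyx).resolve_left hs)
    refine ⟨by rw [e, QuadraticMap.polar_smul_left, hr.1, smul_zero], fun c => ?_⟩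
    rw [e, rootMem_smul_left, smul_smul]
    exact hr.2 _
  -- a second point
  obtain ⟨p, hp⟩ : ∃ p, f.co u p ≠ 0 := by
    by_contra h'
    push Not at h'
    exact hu0 (f.co_ext fun i => by rw [h' i, map_zero, Pi.zero_apply])
  obtain ⟨q, hqp, hq⟩ : ∃ q, q ≠ p ∧ f.co u q ≠ 0 := by
    by_contra h'
    push Not at h'
    have e : u = f.co u p • f.b p := f.eq_smul_b fun l hl => h' l hl
    rw [e, QuadraticMap.map_smul, f.quad] at hu
    simp [hp, f.c_ne] at hu
  have hpS : p ∈ S := by by_contra h'; exact hp (hus p h')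
  have hqS : q ∈ S := by by_contra h'; exact hq (hus q h')
  obtain ⟨r, hr⟩ : ((S.erase p).erase q).Nonempty := by
    rw [← Finset.card_pos, Finset.card_erase_of_mem (Finset.mem_erase.2 ⟨hqp, hqS⟩), Finset.card_erase_of_mem hpS,
      hS]
    omega
  simp only [Finset.mem_erase] at hr
  have hgl : rf (f.b p) * rf (f.b r) ∈ f.localGroup S M :=
    pair_mem_local hM (hM.b_mem p) (hM.b_mem r) (f.b_mem_sub S hpS) (f.b_mem_sub S hr.2.2)
  have hv := PointFull.map hM ⟨hu, hfull⟩ hgl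
  obtain ⟨v, hvdef⟩ : ∃ v, v = ap (rf (f.b p) * rf (f.b r) : Isom Q) u := ⟨_, rfl⟩
  rw [← hvdef] at hv
  have hvs : v ∈ f.sub S := hvdef ▸ f.ap_mem_sub S hgl.2 hus
  have huv : 𝔅 u v ≠ 0 := fun e => by
    have e' := hprop v hvs hv.1 e
    have hvp : f.co v p = -f.co u p := by
      rw [hvdef, ap_mul, f.co_rf (f.quad p), f.co_rf (f.quad r), f.dot_b, f.dot_b, f.co_rf (f.quad r), f.dot_b]
      simp [f.co_b, hr.2.1, hr.2.1.symm]
      ring
    have hvq : f.co v q = f.co u q := by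
      rw [hvdef, ap_mul, f.co_rf (f.quad p), f.co_rf (f.quad r), f.dot_b, f.dot_b, f.co_rf (f.quad r), f.dot_b]
      simp [f.co_b, hqp, hr.1.symm]
    rw [e', map_smul, Pi.smul_apply, smul_eq_mul] at hvp hvq
    rw [mul_right_cancel₀ hq (hvq.trans (one_mul _).symm), one_mul] at hvp
    exact f.two ((mul_eq_zero.1 (by linear_combination hvp : (2 : F) * f.co u p = 0)).resolve_right hp)
  obtain ⟨s, hs⟩ : ∃ s, s = 𝔅 u v / 𝔅 u y := ⟨_, rfl⟩
  have hs0 : s ≠ 0 := hs ▸ div_ne_zero huv huy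
  obtain ⟨huw, hmove⟩ := eich_move hu hv.1 (y := s • y) (by rw [QuadraticMap.map_smul, hy, smul_zero]) huv (by
    rw [QuadraticMap.polar_smul_right, smul_eq_mul, hs, div_mul_cancel₀ _ huy])
  have hws : (𝔅 u v)⁻¹ • (s • y - v) ∈ f.sub S :=
    Submodule.smul_mem _ _ (Submodule.sub_mem _ (Submodule.smul_mem _ _ hys) hvs)
  have hE : eichIso Q u _ hu huw ∈ f.localGroup S M :=
    ⟨rootSpace_iso (hfull _ hws huw), fun l hl => eichIso_fixes hu huw hus hws hl⟩
  have hmap := PointFull.map hM hv hE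
  rw [ap_def, mat_eichIso, hmove] at hmap
  obtain ⟨h1, hsy⟩ := hmap
  refine ⟨hy, fun x hx hyx => ?_⟩
  have hr' := hsy x hx (by rw [QuadraticMap.polar_smul_left, hyx, smul_zero])
  refine ⟨hyx, fun c => ?_⟩
  have := hr'.2 (s⁻¹ * c)
  rwa [rootMem_smul_left, smul_smul, ← mul_assoc, mul_inv_cancel₀ hs0, one_mul] at this

end Frame

end CfsgLib.OrthMono
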